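import Groth.Agent.H29Node.Etale
import Groth.Agent.H29Curve.Morphism
import Groth.Agent.H29Disc.Charts
import Groth.Agent.H13AlgSp.LocP
import Groth.Agent.H8Props.FieldDimEquidim
import Groth.Agent.S2805

/-!
# Dimension and singularities of curves along etale morphisms and etale coverings
-/

set_option autoImplicit false
set_option linter.style.haveILetI false

universe u

open CategoryTheory CategoryTheory.Limits AlgebraicGeometry TopologicalSpace
open Groth.Agent.H8Props.FieldDim

namespace Groth.Agent.H29Node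

/-- The fibres of an etale morphism are zero-dimensional. -/
theorem fibre_dim_of_etale {X Y : Scheme.{u}} (g : Y ⟶ X) [Etale g] (x : X) (T : Set (g.fiber x))
    (hT : T ∈ irreducibleComponents (g.fiber x)) : topologicalKrullDim T = ((0 : ℕ) : WithBot ℕ∞) := by
  haveI := H13AlgSp.locallyQuasiFinite_of_etale g
  haveI := (g.isDiscrete_preimage_singleton x).to_subtype
  haveI : DiscreteTopology (g.fiber x) := (g.fiberHomeo x).symm.discreteTopology
  haveI : Nonempty T := hT.1.nonempty.to_subtype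
  haveI : Subsingleton T :=
    ⟨fun a b => Subtype.ext (DiscreteTopology.isDiscrete.subsingleton_of_isPreirreducible hT.1.2 a.2 b.2)⟩
  refine le_antisymm (topologicalKrullDim_zero_of_discreteTopology T) ?_
  have : Nonempty (IrreducibleCloseds T) :=
    ⟨⟨Set.univ, ⟨Set.univ_nonempty, fun u v _ _ ⟨a, _, ha⟩ ⟨b, _, hb⟩ => ⟨a, trivial, ha, Subsingleton.elim b a ▸ hb⟩⟩, isClosed_univ⟩⟩
  rw [topologicalKrullDim, Nat.cast_zero]
  exact Order.krullDim_nonneg

variable {k : Type u} [Field k] {X Y : Scheme.{u}} [X.Over (Spec (CommRingCat.of k))]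
  [Y.Over (Spec (CommRingCat.of k))] [LocallyOfFiniteType (X ↘ Spec (CommRingCat.of k))]

/-- An etale scheme over a pure one-dimensional scheme is pure one-dimensional. -/
theorem pure_of_etale (g : Y ⟶ X) [Etale g]
    (hg : g ≫ (X ↘ Spec (CommRingCat.of k)) = Y ↘ Spec (CommRingCat.of k))
    (hX : ∀ Z ∈ irreducibleComponents X, topologicalKrullDim Z = 1) :
    ∀ Z ∈ irreducibleComponents Y, topologicalKrullDim Z = 1 := by
  haveI : LocallyOfFiniteType (Y ↘ Spec (CommRingCat.of k)) := by rw [← hg]; infer_instance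
  intro Z hZ
  have := source_pure_of_fibres_pure (Y ↘ Spec (CommRingCat.of k)) (X ↘ Spec (CommRingCat.of k)) g hg 1 0
    (fun x => localDim_eq_of_pure (X ↘ Spec (CommRingCat.of k)) x 1 hX) (fibre_dim_of_etale g) Z hZ
  simpa using this

/-- An etale scheme over an at-worst-nodal scheme is at-worst-nodal. -/
theorem atWorstNodal_of_etale (g : Y ⟶ X) [Etale g]
    (hg : g ≫ (X ↘ Spec (CommRingCat.of k)) = Y ↘ Spec (CommRingCat.of k))
    (hX : Curv2.AtWorstNodal k X) : Curv2.AtWorstNodal k Y := by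
  haveI : LocallyOfFiniteType (Y ↘ Spec (CommRingCat.of k)) := by rw [← hg]; infer_instance
  intro y hy
  have hx : IsClosed ({g y} : Set X) :=
    H29Curve.isClosed_image_of_isClosed (Y ↘ Spec (CommRingCat.of k)) (X ↘ Spec (CommRingCat.of k)) g hg hy
  rcases hX (g y) hx with ⟨U, hU, hsm⟩ | hn
  · refine Or.inl ⟨g ⁻¹ᵁ U, hU, ?_⟩
    haveI := hsm
    rw [show (g ⁻¹ᵁ U).ι ≫ (Y ↘ Spec (CommRingCat.of k)) = (g ∣_ U) ≫ U.ι ≫ (X ↘ Spec (CommRingCat.of k)) by
      rw [morphismRestrict_ι_assoc, hg]]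
    infer_instance
  · exact Or.inr ((isNode_iff_of_etale g hg hy hx).2 hn)

omit [Y.Over (Spec (CommRingCat.of k))] in
/-- Pure one-dimensional at-worst-nodal is etale local. -/
theorem pure_atWorstNodal_of_cover {ι : Type u} (U : ι → Scheme.{u}) [∀ i, (U i).Over (Spec (CommRingCat.of k))]
    (g : ∀ i, U i ⟶ X) [∀ i, Etale (g i)]
    (hg : ∀ i, g i ≫ (X ↘ Spec (CommRingCat.of k)) = U i ↘ Spec (CommRingCat.of k))
    (hsurj : ∀ x : X, ∃ i, x ∈ Set.range (g i))
    (h1 : ∀ i, ∀ Z ∈ irreducibleComponents (U i), topologicalKrullDim Z = 1)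
    (h2 : ∀ i, Curv2.AtWorstNodal k (U i)) :
    (∀ Z ∈ irreducibleComponents X, topologicalKrullDim Z = 1) ∧ Curv2.AtWorstNodal k X := by
  haveI : ∀ i, LocallyOfFiniteType (U i ↘ Spec (CommRingCat.of k)) := fun i => by rw [← hg i]; infer_instance
  haveI : JacobsonSpace X := LocallyOfFiniteType.jacobsonSpace (X ↘ Spec (CommRingCat.of k))
  refine ⟨fun Z hZ => ?_, fun x hx => ?_⟩
  · obtain ⟨η, rfl, hmax⟩ := mem_irreducibleComponents_iff hZ
    obtain ⟨i, u, hu⟩ := hsurj η
    haveI := H13AlgSp.locallyQuasiFinite_of_etale (g i)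
    have hu' : ∀ ζ, ζ ⤳ u → ζ = u := fun ζ hζ => by
      have hgζ : g i ζ = η := hmax _ (hu ▸ hζ.map (g i).continuous)
      haveI := ((g i).isDiscrete_preimage_singleton η).to_subtype
      have : (⟨ζ, hgζ⟩ : g i ⁻¹' {η}) ⤳ ⟨u, hu⟩ := (subtype_specializes_iff _ _).2 hζ
      exact congrArg Subtype.val this.eq
    have hc := cdim_of_maximal_in_preimage (U i ↘ Spec (CommRingCat.of k)) (X ↘ Spec (CommRingCat.of k)) (g i) (hg i) 0
      (fibre_dim_of_etale (g i)) η u (hu ▸ specializes_rfl) (fun ζ hζ _ => hu' ζ hζ)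
    rw [← localDim_of_maximal (U i ↘ Spec (CommRingCat.of k)) u hu',
      localDim_eq_of_pure (U i ↘ Spec (CommRingCat.of k)) u 1 (h1 i), Nat.cast_zero, add_zero] at hc
    exact hc.symm
  · obtain ⟨i, u, rfl⟩ := hsurj x
    haveI := H13AlgSp.locallyQuasiFinite_of_etale (g i)
    have hu : IsClosed ({u} : Set (U i)) := H29Disc.isClosed_of_map (g i) hx
    rcases h2 i u hu with hs | hn
    · exact Or.inl (S2805.result (X ↘ Spec (CommRingCat.of k)) (U i ↘ Spec (CommRingCat.of k)) (g i) (hg i) u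
        (Flat.stalkMap (g i) u) hs)
    · exact Or.inr ((isNode_iff_of_etale (g i) (hg i) hu hx).1 hn)

/-- A commutative triangle restricts to the fibres. -/
theorem exists_fibre_map {X Y S : Scheme.{u}} (g : Y ⟶ X) (f : X ⟶ S) (s : S) :
    ∃ m : (g ≫ f).fiber s ⟶ f.fiber s, m ≫ f.fiberToSpecResidueField s = (g ≫ f).fiberToSpecResidueField s ∧
      IsPullback ((g ≫ f).fiberι s) m g (f.fiberι s) := by
  let m : (g ≫ f).fiber s ⟶ f.fiber s :=
    pullback.lift ((g ≫ f).fiberι s ≫ g) ((g ≫ f).fiberToSpecResidueField s)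
      (by rw [Category.assoc]; exact pullback.condition)
  refine ⟨m, pullback.lift_snd _ _ _, ?_⟩
  exact IsPullback.of_bot (by
    rw [show m ≫ pullback.snd f (S.fromSpecResidueField s) = (g ≫ f).fiberToSpecResidueField s from pullback.lift_snd _ _ _]
    exact IsPullback.of_hasPullback _ _)
    (pullback.lift_fst _ _ _).symm (IsPullback.of_hasPullback _ _)

end Groth.Agent.H29Node
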