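import Groth.Agent.H29Node.NodeBC
import Groth.Agent.H29Node.Family
import Groth.Agent.H8Props.FieldDimFormula
import Groth.Agent.H17.LocusBC

/-!
# Pure one-dimensional at-worst-nodal schemes under extension of the ground field
-/

set_option autoImplicit false
set_option linter.style.haveILetI false

universe u

open CategoryTheory CategoryTheory.Limits AlgebraicGeometry TopologicalSpace

namespace Groth.Agent.H29Node

open H8Props.FieldDim

variable {k K : Type u} [Field k] [Field K] [Algebra k K] {Z Z' : Scheme.{u}}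
  [Z.Over (Spec (CommRingCat.of k))] [Z'.Over (Spec (CommRingCat.of K))]
  [LocallyOfFiniteType (Z ↘ Spec (CommRingCat.of k))] (π : Z' ⟶ Z)
  (hc : IsPullback π (Z' ↘ Spec (CommRingCat.of K)) (Z ↘ Spec (CommRingCat.of k))
    (Spec.map (CommRingCat.ofHom (algebraMap k K))))

omit [LocallyOfFiniteType (Z ↘ Spec (CommRingCat.of k))] in
include hc in
theorem surjective_of_bc : Function.Surjective π := by
  haveI : Surjective (Spec.map (CommRingCat.ofHom (algebraMap k K))) :=
    ⟨Function.surjective_to_subsingleton (α := PrimeSpectrum K) (β := PrimeSpectrum k) _⟩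
  haveI : Surjective π := MorphismProperty.of_isPullback hc.flip ‹_›
  exact π.surjective

include hc in
/-- Pure dimension is insensitive to the ground field. -/
theorem pure_iff_bc (d : WithBot ℕ∞) :
    (∀ T ∈ irreducibleComponents Z', topologicalKrullDim T = d) ↔
      ∀ T ∈ irreducibleComponents Z, topologicalKrullDim T = d := by
  haveI : LocallyOfFiniteType (Z' ↘ Spec (CommRingCat.of K)) := MorphismProperty.of_isPullback hc ‹_›
  have hbc := localDim_baseChange (Z ↘ Spec (CommRingCat.of k)) (K := K) π (Z' ↘ Spec (CommRingCat.of K)) hc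
  constructor
  · intro h T hT
    obtain ⟨η, rfl, hmax⟩ := mem_irreducibleComponents_iff hT
    obtain ⟨η', rfl⟩ := surjective_of_bc π hc η
    have h1 := hbc η'
    rw [localDim_eq_of_pure (Z' ↘ Spec (CommRingCat.of K)) η' d h,
      localDim_of_maximal (Z ↘ Spec (CommRingCat.of k)) _ hmax] at h1
    exact h1.symm
  · intro h T hT
    obtain ⟨η', rfl, hmax⟩ := mem_irreducibleComponents_iff hT
    have h1 := hbc η'
    rw [localDim_eq_of_pure (Z ↘ Spec (CommRingCat.of k)) (π η') d h,
      localDim_of_maximal (Z' ↘ Spec (CommRingCat.of K)) _ hmax] at h1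
    exact h1

/-- In a pure one-dimensional scheme a proper specialization is closed. -/
theorem isClosed_of_pure_one {k : Type u} [Field k] {Z : Scheme.{u}} [Z.Over (Spec (CommRingCat.of k))]
    [LocallyOfFiniteType (Z ↘ Spec (CommRingCat.of k))]
    (h : ∀ T ∈ irreducibleComponents Z, topologicalKrullDim T = 1) :
    ∀ a b : Z, a ⤳ b → b ≠ a → IsClosed ({b} : Set Z) := fun a b hab hne => by
  refine H22Alg.DimOneDiv.isClosed_singleton_of_lt hab hne ?_
  have h1 := localDim_eq_of_pure (Z ↘ Spec (CommRingCat.of k)) a 1 h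
  rw [localDim_eq (Z ↘ Spec (CommRingCat.of k))] at h1
  exact (le_iSup_of_le ⟨a, specializes_rfl⟩ le_rfl).trans h1.le

include hc in
/-- A point over a closed point is closed. -/
theorem isClosed_of_bc {z' : Z'} (hz : IsClosed ({π z'} : Set Z)) : IsClosed ({z'} : Set Z') := by
  haveI : LocallyOfFiniteType (Z' ↘ Spec (CommRingCat.of K)) := MorphismProperty.of_isPullback hc ‹_›
  have h0 : cdim (π z') ≤ (0 : ℕ) := by
    have : DiscreteTopology ↥({π z'} : Set Z) := by infer_instance
    rw [Nat.cast_zero]
    show topologicalKrullDim (closure ({π z'} : Set Z)) ≤ _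
    rw [hz.closure_eq]
    exact topologicalKrullDim_zero_of_discreteTopology _
  have h1 := (baseChange_point (Z ↘ Spec (CommRingCat.of k)) (K := K) π (Z' ↘ Spec (CommRingCat.of K)) hc z').1.trans h0
  refine closure_eq_iff_isClosed.1 (Set.Subset.antisymm (fun w hw => ?_) subset_closure)
  by_contra hne
  have h2 := (cdim_lt (Z' ↘ Spec (CommRingCat.of K)) (specializes_iff_mem_closure.2 hw) (Ne.symm hne)).trans_le h1
  obtain ⟨s, hs⟩ := exists_nat_cdim (Z' ↘ Spec (CommRingCat.of K)) w
  rw [hs] at h2
  exact absurd (WithBot.coe_lt_coe.1 h2) (by simp)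

include hc in
/-- At-worst-nodal descends from an extension of the ground field. -/
theorem atWorstNodal_of_bc (hpure : ∀ T ∈ irreducibleComponents Z, topologicalKrullDim T = 1)
    (h : Curv2.AtWorstNodal K Z') : Curv2.AtWorstNodal k Z := by
  intro x hx
  obtain ⟨z', rfl⟩ := surjective_of_bc π hc x
  haveI : LocallyOfFinitePresentation (Z ↘ Spec (CommRingCat.of k)) := inferInstance
  haveI : LocallyOfFiniteType (Z' ↘ Spec (CommRingCat.of K)) := MorphismProperty.of_isPullback hc ‹_›
  haveI : LocallyOfFinitePresentation (Z' ↘ Spec (CommRingCat.of K)) := inferInstance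
  rcases h z' (isClosed_of_bc π hc hx) with ⟨U, hU, hsm⟩ | hn
  · refine Or.inl ⟨(Z ↘ Spec (CommRingCat.of k)).smoothLocus, ?_, H17.LocusBC.smooth_restrict_smoothLocus _⟩
    haveI : Flat (Spec.map (CommRingCat.ofHom (algebraMap k K))) := by
      rw [HasRingHomProperty.Spec_iff (P := @Flat)]
      exact RingHom.flat_algebraMap_iff.2 inferInstance
    refine H17.LocusBC.mem_smoothLocus_of_flat_baseChange hc z' ?_
    haveI := hsm
    exact H17.LocusBC.subset_smoothLocus_of_smooth (Z' ↘ Spec (CommRingCat.of K)) U hU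
  · refine Or.inr ?_
    letI : (Curv2.bc k Z K).Over (Spec (CommRingCat.of K)) := ⟨Curv2.bcSnd k Z K⟩
    haveI : LocallyOfFiniteType (Curv2.bcSnd k Z K) := MorphismProperty.pullback_snd _ _ inferInstance
    haveI : LocallyOfFiniteType (Curv2.bc k Z K ↘ Spec (CommRingCat.of K)) := ‹_›
    let e := hc.isoPullback
    have he : e.hom ≫ (Curv2.bc k Z K ↘ Spec (CommRingCat.of K)) = Z' ↘ Spec (CommRingCat.of K) :=
      hc.isoPullback_hom_snd
    have hy : IsClosed ({e.hom z'} : Set (Curv2.bc k Z K)) := by
      rw [← Set.image_singleton (f := ⇑e.hom)]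
      exact (Scheme.homeoOfIso e).isClosed_image.2 (isClosed_of_bc π hc hx)
    have hny : Curv2.IsNode K (Curv2.bc k Z K) (e.hom z') :=
      (isNode_iff_of_etale e.hom he (isClosed_of_bc π hc hx) hy).1 hn
    have := (isNode_iff_bc (isClosed_of_pure_one (k := k) hpure) K (e.hom z')).2 hny
    rwa [← Scheme.Hom.comp_apply, show e.hom ≫ Curv2.bcFst k Z K = π from hc.isoPullback_hom_fst] at this

end Groth.Agent.H29Node
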