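import Groth.Agent.H24Adic.HensQuotCompletion
import Mathlib.RingTheory.Flat.Localization
import Mathlib.RingTheory.Unramified.LocalRing

/-!
# Flat unramified local homomorphisms without residue extension do not change the completion
-/

set_option autoImplicit false
set_option linter.style.haveILetI false

universe u

open IsLocalRing

namespace Groth.Agent.H29Node

theorem exists_completion_equiv (A B : Type u) [CommRing A] [CommRing B] [IsLocalRing A] [IsLocalRing B]
    [Algebra A B] [IsLocalHom (algebraMap A B)] [Module.Flat A B]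
    (hm : (maximalIdeal A).map (algebraMap A B) = maximalIdeal B)
    (hres : ∀ b : B, ∃ a : A, b - algebraMap A B a ∈ maximalIdeal B) :
    ∃ e : AdicCompletion (maximalIdeal A) A ≃+* AdicCompletion (maximalIdeal B) B,
      ∀ a : A, e (algebraMap A (AdicCompletion (maximalIdeal A) A) a) =
        algebraMap B (AdicCompletion (maximalIdeal B) B) (algebraMap A B a) := by
  haveI : Module.FaithfullyFlat A B := Module.FaithfullyFlat.of_flat_of_isLocalHom
  have hsurj : ∀ (n : ℕ) (b : B), ∃ a : A, b - algebraMap A B a ∈ maximalIdeal B ^ n := by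
    intro n
    induction n with
    | zero => exact fun b => ⟨0, by rw [pow_zero, Ideal.one_eq_top]; trivial⟩
    | succ n ih =>
      intro b
      obtain ⟨a, ha⟩ := ih b
      obtain ⟨w, hw, hweq⟩ : ∃ a' : A, a' ∈ (maximalIdeal A) ^ n ∧
          b - algebraMap A B a - algebraMap A B a' ∈ maximalIdeal B ^ (n + 1) := by
        generalize b - algebraMap A B a = z at ha ⊢
        rw [← hm, ← Ideal.map_pow] at ha
        change z ∈ Submodule.span B ((algebraMap A B) '' ((maximalIdeal A ^ n : Ideal A) : Set A)) at ha
        induction ha using Submodule.span_induction with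
        | mem w hw =>
          obtain ⟨a', ha', rfl⟩ := hw
          exact ⟨a', ha', by rw [sub_self]; exact zero_mem _⟩
        | zero => exact ⟨0, zero_mem _, by simp⟩
        | add u v _ _ hu hv =>
          obtain ⟨a₁, h₁, h₁'⟩ := hu
          obtain ⟨a₂, h₂, h₂'⟩ := hv
          refine ⟨a₁ + a₂, add_mem h₁ h₂, ?_⟩
          rw [map_add]
          convert add_mem h₁' h₂' using 1
          ring
        | smul c u _ hu =>
          obtain ⟨a', ha', hu'⟩ := hu
          obtain ⟨r, hr⟩ := hres c
          refine ⟨r * a', Ideal.mul_mem_left _ _ ha', ?_⟩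
          have h1 : algebraMap A B a' ∈ maximalIdeal B ^ n := by
            rw [← hm, ← Ideal.map_pow]; exact Ideal.mem_map_of_mem _ ha'
          have e : c • u - algebraMap A B (r * a') =
              c * (u - algebraMap A B a') + (c - algebraMap A B r) * algebraMap A B a' := by
            rw [map_mul, smul_eq_mul]; ring
          rw [e, pow_succ']
          refine add_mem (Ideal.mul_mem_left _ _ (by rw [← pow_succ']; exact hu')) (Ideal.mul_mem_mul hr h1)
      exact ⟨a + w, by rw [map_add, ← sub_sub]; exact hweq⟩
  let g : A →ₐ[A] B := Algebra.ofId A B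
  obtain ⟨e⟩ := H24Adic.nonempty_algEquiv_adicCompletion (maximalIdeal A) g fun n => by
    refine ⟨(injective_iff_map_eq_zero _).2 fun q hq => ?_, fun q => ?_⟩
    · obtain ⟨a, rfl⟩ := Ideal.Quotient.mk_surjective q
      have h : algebraMap A B a ∈ (maximalIdeal A ^ n).map (algebraMap A B) := by
        rw [Ideal.map_pow]
        exact Ideal.Quotient.eq_zero_iff_mem.1 hq
      rw [← Ideal.mem_comap, Ideal.comap_map_eq_self_of_faithfullyFlat] at h
      rw [Ideal.Quotient.eq_zero_iff_mem, Algebra.algebraMap_self, Ideal.map_id]
      exact h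
    · obtain ⟨b, rfl⟩ := Ideal.Quotient.mk_surjective q
      obtain ⟨a, ha⟩ := hsurj n b
      refine ⟨Ideal.Quotient.mk _ a, (Ideal.Quotient.eq.2 ?_)⟩
      rw [hm]
      have := neg_mem ha
      rwa [neg_sub] at this
  have hA : (maximalIdeal A).map (algebraMap A A) = maximalIdeal A := by rw [Algebra.algebraMap_self, Ideal.map_id]
  revert e
  generalize hI : (maximalIdeal A).map (algebraMap A A) = I
  generalize hJ : (maximalIdeal A).map (algebraMap A B) = J
  rw [hA] at hI
  rw [hm] at hJ
  subst hI hJ
  intro e
  exact ⟨e.toRingEquiv, fun a => (e.commutes a).trans (IsScalarTower.algebraMap_apply A B _ a)⟩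

end Groth.Agent.H29Node
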