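import Groth.Agent.H29Node.Pair
import Groth.Agent.H02CA.Node.Approx
import Mathlib.RingTheory.Ideal.MinimalPrime.Noetherian
import Mathlib.RingTheory.Ideal.Cotangent

/-!
# Nondegenerate quadratic singularities of depth one

If the maximal ideal is generated by `x, y` with a nondegenerate quadratic relation modulo `m ^ 3`, is not
principal and contains a nonzero divisor, then the completion is the quotient of a power series ring by
that quadratic form.
-/

set_option autoImplicit false
set_option linter.style.haveILetI false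

universe u

open IsLocalRing

namespace Groth.Agent.H29Node

/-- A reduced local ring which is not a field has a nonzero divisor in its maximal ideal. -/
theorem exists_regular_of_isReduced (A : Type u) [CommRing A] [IsLocalRing A] [IsNoetherianRing A]
    [_root_.IsReduced A] (h : ¬ IsField A) : ∃ t ∈ maximalIdeal A, t ∈ nonZeroDivisors A := by
  by_contra hcon
  push Not at hcon
  have hzero : ∀ z : A, (∀ p ∈ minimalPrimes A, z ∈ p) → z = 0 := fun z hz => by
    refine IsNilpotent.eq_zero (mem_nilradical.1 ?_)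
    show z ∈ Ideal.radical ⊥
    rw [← Ideal.sInf_minimalPrimes, Submodule.mem_sInf]
    exact hz
  have hsub : (maximalIdeal A : Set A) ⊆ ⋃ p ∈ minimalPrimes A, (p : Set A) := by
    intro t ht
    by_contra hn
    simp only [Set.mem_iUnion, SetLike.mem_coe, not_exists] at hn
    refine hcon t ht (mem_nonZeroDivisors_iff_right.2 fun z hz => hzero z fun p hp => ?_)
    haveI := Ideal.IsMinimalPrime.isPrime hp
    exact ((Ideal.IsPrime.mem_or_mem ‹_›) (show z * t ∈ p by rw [hz]; exact zero_mem _)).resolve_right (hn p hp)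
  obtain ⟨p, hp, hle⟩ := ((maximalIdeal A).subset_union_prime_finite
    (Ideal.finite_minimalPrimes_of_isNoetherianRing A (⊥ : Ideal A)) (f := id) ⊥ ⊥
    fun q hq _ _ => Ideal.minimalPrimes_isPrime hq).1 hsub
  refine h (IsLocalRing.isField_iff_maximalIdeal_eq.2 (eq_bot_iff.2 fun z hz => (Submodule.mem_bot _).2 (hzero z fun q hq => ?_)))
  haveI := Ideal.minimalPrimes_isPrime hq
  have h1 : q ≤ maximalIdeal A := IsLocalRing.le_maximalIdeal (Ideal.IsPrime.ne_top ‹_›)
  exact (hp.2 ⟨‹q.IsPrime›, bot_le⟩ (h1.trans hle)) (hle hz)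

section Gen

variable {A : Type u} [CommRing A] [IsLocalRing A] [IsNoetherianRing A]
  {t : A} (htm : t ∈ maximalIdeal A) (htr : t ∈ nonZeroDivisors A) (hnp : ¬ (maximalIdeal A).IsPrincipal)

include htm htr hnp in
/-- No power of the maximal ideal is principal. -/
theorem pow_ne_span_singleton {n : ℕ} (hn : 1 ≤ n) {g : A} : maximalIdeal A ^ n ≠ Ideal.span {g} := by
  intro h
  obtain ⟨n, rfl⟩ : ∃ k, n = k + 1 := ⟨n - 1, by omega⟩
  have hg : g ∈ nonZeroDivisors A := by
    obtain ⟨c, hc⟩ := Ideal.mem_span_singleton'.1 (h.le (Ideal.pow_mem_pow htm (n + 1)))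
    exact (mul_mem_nonZeroDivisors.1 (hc ▸ pow_mem htr (n + 1))).2
  have hgne : g ∈ maximalIdeal A ^ (n + 1) := h.ge (Ideal.mem_span_singleton_self g)
  -- some product of generators is a unit multiple of `g`
  obtain ⟨a, ha, b, hb, u, hu, hab⟩ : ∃ a ∈ maximalIdeal A, ∃ b ∈ maximalIdeal A ^ n, ∃ u, IsUnit u ∧ a * b = u * g := by
    by_contra hcon
    push Not at hcon
    have hle : maximalIdeal A ^ (n + 1) ≤ maximalIdeal A * Ideal.span {g} := by
      rw [pow_succ']
      refine Ideal.mul_le.2 fun a ha b hb => ?_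
      obtain ⟨u, hu⟩ := Ideal.mem_span_singleton'.1 (h.le (pow_succ' (maximalIdeal A) n ▸ Ideal.mul_mem_mul ha hb))
      rw [← hu]
      exact Ideal.mul_mem_mul (fun hh => hcon a ha b hb u hh hu.symm) (Ideal.mem_span_singleton_self g)
    obtain ⟨c, hc, hcg⟩ := Ideal.mem_mul_span_singleton.1 (hle hgne)
    have h0 : (c - 1) * g = 0 := by rw [sub_mul, hcg, one_mul, sub_self]
    exact hc (by rw [sub_eq_zero.1 (mem_nonZeroDivisors_iff_right.1 hg _ h0)]; exact isUnit_one)
  refine hnp ⟨⟨a, le_antisymm (fun y hy => ?_) ((Ideal.span_singleton_le_iff_mem _).2 ha)⟩⟩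
  obtain ⟨c, hc⟩ := Ideal.mem_span_singleton'.1 (h.le (pow_succ' (maximalIdeal A) n ▸ Ideal.mul_mem_mul hy hb))
  obtain ⟨u', hu'⟩ := hu.exists_left_inv
  have h1 : (u * y - c * a) * g = 0 := by linear_combination -y * hab - a * hc
  refine Ideal.mem_span_singleton'.2 ⟨u' * c, ?_⟩
  linear_combination y * hu' - u' * sub_eq_zero.1 (mem_nonZeroDivisors_iff_right.1 hg _ h1)

include htm htr hnp in
/-- Two generators of a graded piece are independent. -/
theorem mem_of_gen {n : ℕ} (hn : 1 ≤ n) {e₁ e₂ : A} (h1 : e₁ ∈ maximalIdeal A ^ n) (h2 : e₂ ∈ maximalIdeal A ^ n)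
    (hgen : maximalIdeal A ^ n ≤ Ideal.span {e₁, e₂} ⊔ maximalIdeal A ^ (n + 1)) {a b : A}
    (hab : a * e₁ + b * e₂ ∈ maximalIdeal A ^ (n + 1)) : a ∈ maximalIdeal A ∧ b ∈ maximalIdeal A := by
  suffices key : ∀ {e₁ e₂ a b : A}, e₂ ∈ maximalIdeal A ^ n →
      maximalIdeal A ^ n ≤ Ideal.span {e₁, e₂} ⊔ maximalIdeal A ^ (n + 1) →
      a * e₁ + b * e₂ ∈ maximalIdeal A ^ (n + 1) → a ∈ maximalIdeal A from
    ⟨key h2 hgen hab, key h1 (by rwa [Ideal.span_pair_comm]) (add_comm (a * e₁) (b * e₂) ▸ hab)⟩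
  intro e₁ e₂ a b h2 hgen hab
  by_contra hau
  obtain ⟨a', ha'⟩ := (IsLocalRing.notMem_maximalIdeal.1 hau).exists_left_inv
  have he₁ : e₁ ∈ Ideal.span {e₂} ⊔ maximalIdeal A ^ (n + 1) := by
    rw [show e₁ = -(a' * b) * e₂ + a' * (a * e₁ + b * e₂) by linear_combination -e₁ * ha']
    exact Submodule.add_mem_sup (Ideal.mem_span_singleton'.2 ⟨_, rfl⟩) (Ideal.mul_mem_left _ _ hab)
  have hle : maximalIdeal A ^ n ≤ Ideal.span {e₂} ⊔ maximalIdeal A ^ (n + 1) := hgen.trans (sup_le (by
    rw [Ideal.span_le]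
    rintro z (rfl | rfl)
    · exact he₁
    · exact Ideal.mem_sup_left (Ideal.mem_span_singleton_self _)) le_sup_right)
  refine pow_ne_span_singleton htm htr hnp hn (le_antisymm ?_ ((Ideal.span_singleton_le_iff_mem _).2 h2))
  refine Submodule.le_of_le_smul_of_le_jacobson_bot (I := maximalIdeal A) (IsNoetherian.noetherian _)
    (IsLocalRing.maximalIdeal_le_jacobson _) ?_
  rwa [smul_eq_mul, ← pow_succ']

end Gen

/-- Powers of a pair with a quadratic relation with unit leading coefficient. -/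
theorem span_pow_le_quad {R : Type u} [CommRing R] {x y a b c : R} (ha : IsUnit a) {n : ℕ} (hn : 1 ≤ n) :
    Ideal.span {x, y} ^ n ≤ Ideal.span {y ^ n, x * y ^ (n - 1)} ⊔
      Ideal.span {a * x ^ 2 + b * x * y + c * y ^ 2} * Ideal.span {x, y} ^ (n - 2) := by
  obtain ⟨a', ha'⟩ := ha.exists_left_inv
  induction n, hn using Nat.le_induction with
  | base =>
    refine le_trans ?_ le_sup_left
    rw [pow_one, pow_one, Nat.sub_self, pow_zero, mul_one, Ideal.span_pair_comm]
  | succ n hn ih =>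
    rw [pow_succ]
    refine le_trans (Ideal.mul_mono_left ih) ?_
    rw [Ideal.sup_mul, mul_assoc]
    refine sup_le ?_ (le_trans (Ideal.mul_mono_right ?_) le_sup_right)
    · rw [Ideal.span_mul_span', Ideal.span_le]
      obtain ⟨n, rfl⟩ : ∃ k, n = k + 1 := ⟨n - 1, by omega⟩
      simp only [Nat.add_sub_cancel]
      rintro z ⟨e, he, w, hw, rfl⟩
      rcases he with he | he <;> rcases hw with hw | hw <;> rw [he, hw]
      · refine Ideal.mem_sup_left (Ideal.subset_span (Or.inr ?_))
        simp [mul_comm]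
      · refine Ideal.mem_sup_left (Ideal.subset_span (Or.inl ?_))
        simp [pow_succ]
      · show x * y ^ n * x ∈ _
        rw [show x * y ^ n * x = (-(a' * c) * y ^ (n + 1 + 1) + -(a' * b) * (x * y ^ (n + 1))) +
          (a * x ^ 2 + b * x * y + c * y ^ 2) * (a' * y ^ n) by linear_combination -(x ^ 2 * y ^ n) * ha']
        refine Submodule.add_mem_sup (Ideal.mem_span_pair.2 ⟨_, _, rfl⟩) (Ideal.mul_mem_mul (Ideal.mem_span_singleton_self _) ?_)
        rw [show n + 1 + 1 - 2 = n by omega]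
        exact Ideal.mul_mem_left _ _ (Ideal.pow_mem_pow (Ideal.subset_span (by simp)) n)
      · refine Ideal.mem_sup_left (Ideal.subset_span (Or.inr ?_))
        simp [pow_succ, mul_assoc]
    · rw [← pow_succ]
      exact Ideal.pow_le_pow_right (by omega)

section Local

variable {A : Type u} [CommRing A] [IsLocalRing A] [IsNoetherianRing A] {x y a b c : A}

/-- In the associated graded ring the powers are spanned by two monomials. -/
theorem pow_le_of_quad (hs : Ideal.span {x, y} = maximalIdeal A) (ha : IsUnit a)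
    (hq : a * x ^ 2 + b * x * y + c * y ^ 2 ∈ maximalIdeal A ^ 3) {n : ℕ} (hn : 1 ≤ n) :
    maximalIdeal A ^ n ≤ Ideal.span {y ^ n, x * y ^ (n - 1)} ⊔ maximalIdeal A ^ (n + 1) := by
  have h := span_pow_le_quad (x := x) (y := y) (b := b) (c := c) ha hn
  rw [hs] at h
  refine h.trans (sup_le_sup_left (le_trans (Ideal.mul_mono_left ((Ideal.span_singleton_le_iff_mem _).2 hq)) ?_) _)
  rw [← pow_add]
  exact Ideal.pow_le_pow_right (by omega)

omit [IsNoetherianRing A] in
/-- Changing coordinates, the first coefficient is a unit. -/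
theorem exists_quad_unit (hx : x ∈ maximalIdeal A) (hy : y ∈ maximalIdeal A) (hd : residue A (4 * a * c - b ^ 2) ≠ 0) :
    ∃ x' y' a' b' c' : A, Ideal.span {x', y'} = Ideal.span {x, y} ∧
      a' * x' ^ 2 + b' * x' * y' + c' * y' ^ 2 = a * x ^ 2 + b * x * y + c * y ^ 2 ∧
      residue A (4 * a' * c' - b' ^ 2) ≠ 0 ∧ IsUnit a' := by
  by_cases ha : IsUnit a
  · exact ⟨x, y, a, b, c, rfl, rfl, hd, ha⟩
  by_cases hc : IsUnit c
  · refine ⟨y, x, c, b, a, Ideal.span_pair_comm, by ring, ?_, hc⟩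
    rwa [show 4 * c * a - b ^ 2 = 4 * a * c - b ^ 2 by ring]
  refine ⟨x, y + x, a - b + c, b - 2 * c, c, ?_, by ring, ?_, ?_⟩
  · refine le_antisymm (Ideal.span_le.2 ?_) (Ideal.span_le.2 ?_)
    · rintro z (rfl | rfl)
      · exact Ideal.subset_span (by simp)
      · exact add_mem (Ideal.subset_span (by simp)) (Ideal.subset_span (by simp))
    · rintro z (rfl | rfl)
      · exact Ideal.subset_span (by simp)
      · exact Ideal.mem_span_pair.2 ⟨-1, 1, by ring⟩
  · rwa [show 4 * (a - b + c) * c - (b - 2 * c) ^ 2 = 4 * a * c - b ^ 2 by ring]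
  · rw [← residue_ne_zero_iff_isUnit]
    have ha0 : residue A a = 0 := not_not.1 fun h => ha ((residue_ne_zero_iff_isUnit _).1 h)
    have hc0 : residue A c = 0 := not_not.1 fun h => hc ((residue_ne_zero_iff_isUnit _).1 h)
    intro h0
    refine hd ?_
    simp only [map_sub, map_add, map_mul, map_pow, ha0, hc0, zero_sub, add_zero, neg_eq_zero] at h0 ⊢
    simp [h0]

end Local

/-- In a complete ring the quadratic relation can be made exact. -/
theorem exists_quad_exact {S : Type u} [CommRing S] [IsLocalRing S] [IsNoetherianRing S]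
    [IsAdicComplete (maximalIdeal S) S] {x y a b c : S} (hs : Ideal.span {x, y} = maximalIdeal S)
    (hd : IsUnit (4 * a * c - b ^ 2)) (hq : a * x ^ 2 + b * x * y + c * y ^ 2 ∈ maximalIdeal S ^ 3) :
    ∃ x' y', Ideal.span {x', y'} = maximalIdeal S ∧ a * x' ^ 2 + b * x' * y' + c * y' ^ 2 = 0 := by
  obtain ⟨d, hd'⟩ := hd.exists_left_inv
  let Q : S × S → S := fun s => a * s.1 ^ 2 + b * s.1 * s.2 + c * s.2 ^ 2
  let Good : ℕ → S × S → Prop := fun k s => Ideal.span {s.1, s.2} = maximalIdeal S ∧ Q s ∈ maximalIdeal S ^ (k + 3)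
  have hstep : ∀ (k : ℕ) (s : S × S), ∃ t : S × S, Good k s → Good (k + 1) t ∧
      t.1 - s.1 ∈ maximalIdeal S ^ (k + 2) ∧ t.2 - s.2 ∈ maximalIdeal S ^ (k + 2) := by
    intro k s
    by_cases hg : Good k s
    swap
    · exact ⟨s, fun h => absurd h hg⟩
    obtain ⟨hsp, hQ⟩ := hg
    set X := s.1
    set Y := s.2
    have hXm : X ∈ maximalIdeal S := hsp.le (Ideal.subset_span (by simp))
    have hYm : Y ∈ maximalIdeal S := hsp.le (Ideal.subset_span (by simp))
    -- the linear forms `2aX + bY`, `bX + 2cY` generate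
    have hlin : maximalIdeal S ≤ Ideal.span {2 * a * X + b * Y, b * X + 2 * c * Y} := by
      rw [← hsp, Ideal.span_le]
      rintro z (rfl | rfl)
      · exact Ideal.mem_span_pair.2 ⟨d * (2 * c), -(d * b), by linear_combination X * hd'⟩
      · exact Ideal.mem_span_pair.2 ⟨-(d * b), d * (2 * a), by linear_combination Y * hd'⟩
    have hdec : ∀ z ∈ maximalIdeal S * maximalIdeal S ^ (k + 2), ∃ p q, p ∈ maximalIdeal S ^ (k + 2) ∧
        q ∈ maximalIdeal S ^ (k + 2) ∧ z = p * (2 * a * X + b * Y) + q * (b * X + 2 * c * Y) := by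
      intro z hz
      induction hz using Submodule.mul_induction_on' with
      | mem_mul_mem l hl r hr =>
        obtain ⟨p, q, hpq⟩ := Ideal.mem_span_pair.1 (hlin hl)
        exact ⟨p * r, q * r, Ideal.mul_mem_left _ _ hr, Ideal.mul_mem_left _ _ hr, by rw [← hpq]; ring⟩
      | add u _ v _ hu hv =>
        obtain ⟨p, q, hp, hq, rfl⟩ := hu
        obtain ⟨p', q', hp', hq', rfl⟩ := hv
        exact ⟨p + p', q + q', add_mem hp hp', add_mem hq hq', by ring⟩
    obtain ⟨p, q, hp, hq, hpq⟩ := hdec (Q s) (by rw [← pow_succ']; exact hQ)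
    refine ⟨(X - p, Y - q), fun _ => ⟨⟨?_, ?_⟩, by simpa using hp, by simpa using hq⟩⟩
    · have hp1 : p ∈ maximalIdeal S ^ 2 := Ideal.pow_le_pow_right (by omega) hp
      have hq1 : q ∈ maximalIdeal S ^ 2 := Ideal.pow_le_pow_right (by omega) hq
      refine span_eq_of_le_sup_sq (Ideal.span_le.2 ?_) ?_
      · rintro z (rfl | rfl)
        · exact sub_mem hXm (Ideal.pow_le_self two_ne_zero hp1)
        · exact sub_mem hYm (Ideal.pow_le_self two_ne_zero hq1)
      · conv_lhs => rw [← hsp]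
        rw [Ideal.span_le]
        rintro z (rfl | rfl)
        · rw [show X = (X - p) + p by ring]
          exact Submodule.add_mem_sup (Ideal.subset_span (by simp)) hp1
        · rw [show Y = (Y - q) + q by ring]
          exact Submodule.add_mem_sup (Ideal.subset_span (by simp)) hq1
    · show a * (X - p) ^ 2 + b * (X - p) * (Y - q) + c * (Y - q) ^ 2 ∈ _
      rw [show a * (X - p) ^ 2 + b * (X - p) * (Y - q) + c * (Y - q) ^ 2 = a * (p * p) + b * (p * q) + c * (q * q) by
        linear_combination hpq]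
      have h2 : ∀ {u v : S}, u ∈ maximalIdeal S ^ (k + 2) → v ∈ maximalIdeal S ^ (k + 2) →
          u * v ∈ maximalIdeal S ^ (k + 1 + 3) := fun hu hv =>
        Ideal.pow_le_pow_right (show k + 1 + 3 ≤ (k + 2) + (k + 2) by omega) (by rw [pow_add]; exact Ideal.mul_mem_mul hu hv)
      exact add_mem (add_mem (Ideal.mul_mem_left _ _ (h2 hp hp)) (Ideal.mul_mem_left _ _ (h2 hp hq)))
        (Ideal.mul_mem_left _ _ (h2 hq hq))
  choose next hnext using hstep
  let s : ℕ → S × S := fun k => Nat.rec (x, y) next k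
  have hsk : ∀ k, Good k (s k) := by
    intro k
    induction k with
    | zero => exact ⟨hs, hq⟩
    | succ k ih => exact (hnext k _ ih).1
  obtain ⟨x', hx'⟩ := H02CA.Node.exists_limit (maximalIdeal S) (fun k => (s k).1) fun k =>
    Ideal.pow_le_pow_right (by omega) (hnext k _ (hsk k)).2.1
  obtain ⟨y', hy'⟩ := H02CA.Node.exists_limit (maximalIdeal S) (fun k => (s k).2) fun k =>
    Ideal.pow_le_pow_right (by omega) (hnext k _ (hsk k)).2.2
  refine ⟨x', y', ?_, ?_⟩
  · have h2 := hsk 2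
    refine span_eq_of_le_sup_sq (Ideal.span_le.2 ?_) ?_
    · rintro z (rfl | rfl)
      · simpa using add_mem (Ideal.pow_le_self two_ne_zero (hx' 2)) (h2.1.le (Ideal.subset_span (Set.mem_insert _ _)))
      · simpa using add_mem (Ideal.pow_le_self two_ne_zero (hy' 2))
          (h2.1.le (Ideal.subset_span (Set.mem_insert_of_mem _ rfl)))
    · conv_lhs => rw [← h2.1]
      rw [Ideal.span_le]
      rintro z (rfl | rfl)
      · rw [show (s 2).1 = x' + -(x' - (s 2).1) by ring]
        exact Submodule.add_mem_sup (Ideal.subset_span (by simp)) (neg_mem (hx' 2))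
      · rw [show (s 2).2 = y' + -(y' - (s 2).2) by ring]
        exact Submodule.add_mem_sup (Ideal.subset_span (by simp)) (neg_mem (hy' 2))
  · refine IsHausdorff.haus (I := maximalIdeal S) inferInstance _ fun k => ?_
    rw [SModEq.zero, smul_eq_mul, Ideal.mul_top]
    rw [show a * x' ^ 2 + b * x' * y' + c * y' ^ 2 = Q (s k) +
      ((x' - (s k).1) * (a * (x' + (s k).1) + b * y') + (y' - (s k).2) * (b * (s k).1 + c * (y' + (s k).2))) by
      simp only [Q]; ring]
    exact add_mem (Ideal.pow_le_pow_right (by omega) (hsk k).2)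
      (add_mem (Ideal.mul_mem_right _ _ (hx' k)) (Ideal.mul_mem_right _ _ (hy' k)))

open MvPowerSeries in
/-- Structure of complete algebras with a quadratic singularity of depth one. -/
theorem exists_quad_equiv {K S : Type u} [Field K] [CommRing S] [Algebra K S] [IsLocalRing S] [IsNoetherianRing S]
    [IsAdicComplete (maximalIdeal S) S] (hres : ∀ z : S, ∃ r : K, algebraMap K S r - z ∈ maximalIdeal S)
    {t : S} (htm : t ∈ maximalIdeal S) (htr : t ∈ nonZeroDivisors S) (hnp : ¬ (maximalIdeal S).IsPrincipal)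
    {x y : S} (hs : Ideal.span {x, y} = maximalIdeal S) {a b c : K} (ha : a ≠ 0) (hd : 4 * a * c - b ^ 2 ≠ 0)
    (hq : algebraMap K S a * x ^ 2 + algebraMap K S b * x * y + algebraMap K S c * y ^ 2 ∈ maximalIdeal S ^ 3) :
    ∃ e : S ≃+* (MvPowerSeries (Fin 2) K ⧸ Ideal.span
        {(C a * X 0 ^ 2 + C b * X 0 * X 1 + C c * X 1 ^ 2 : MvPowerSeries (Fin 2) K)}),
      ∀ r : K, e (algebraMap K S r) = Ideal.Quotient.mk _ (C r) := by
  have hd' : IsUnit (4 * algebraMap K S a * algebraMap K S c - algebraMap K S b ^ 2) := by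
    simpa only [map_sub, map_mul, map_pow, map_ofNat] using (Ne.isUnit hd).map (algebraMap K S)
  obtain ⟨x', y', hs', h0⟩ := exists_quad_exact hs hd' hq
  have hgen : maximalIdeal S = Ideal.span {x', y'} ⊔ (maximalIdeal K).map (algebraMap K S) := by
    rw [IsLocalRing.isField_iff_maximalIdeal_eq.mp (Field.toIsField K), Ideal.map_bot, sup_bot_eq, hs']
  obtain ⟨ψ, hψ, hψ0, hψ1⟩ := H02CA.Node.exists_surjective hres x' y' hgen x' y' (by simp) (by simp)
    (hs'.le (Ideal.subset_span (by simp))) (hs'.le (Ideal.subset_span (by simp)))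
  have hC : ∀ r : K, ψ (C r) = algebraMap K S r := fun r => by rw [c_eq_algebraMap, AlgHom.commutes]
  let q : MvPowerSeries (Fin 2) K := C a * X 0 ^ 2 + C b * X 0 * X 1 + C c * X 1 ^ 2
  have hI : ∀ f ∈ Ideal.span {q}, ψ f = 0 := fun f hf => by
    obtain ⟨g, rfl⟩ := Ideal.mem_span_singleton'.1 hf
    simp only [q, map_mul, map_add, map_pow, hC, hψ0, hψ1, h0, mul_zero]
  have hloc : ∀ f, ψ f ∈ maximalIdeal S → f ∈ maximalIdeal (MvPowerSeries (Fin 2) K) := fun f hf hu => hf (hu.map ψ)
  have hmax : maximalIdeal (MvPowerSeries (Fin 2) K) = Ideal.span {X 0, X 1} := by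
    refine le_antisymm (fun f hf => ?_) (Ideal.span_le.2 ?_)
    · have hf0 : f ∈ H02CA.PS.vars (Fin 2) K := H02CA.PS.mem_vars_iff.2 (by
        by_contra h1
        exact hf (isUnit_iff_constantCoeff.2 (Ne.isUnit h1)))
      have hr : Set.range (X : Fin 2 → MvPowerSeries (Fin 2) K) = {X 0, X 1} :=
        Set.ext fun w => by simp [Fin.exists_fin_two, eq_comm]
      rwa [H02CA.PS.vars, hr] at hf0
    · rintro w (rfl | rfl) <;> simp [isUnit_iff_constantCoeff]
  have hker : ∀ f, ψ f = 0 → f ∈ Ideal.span {q} := fun f hf => H02CA.Node.mem_of_forall_mem_sup_pow _ fun N => by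
    induction N with
    | zero => simp
    | succ N ih =>
      rcases Nat.eq_zero_or_pos N with rfl | hN
      · refine Ideal.mem_sup_right ?_
        rw [pow_one]
        exact hloc f (by rw [hf]; exact zero_mem _)
      obtain ⟨g, hg, w, hw, rfl⟩ := Submodule.mem_sup.1 ih
      have hau : IsUnit (C a : MvPowerSeries (Fin 2) K) := (Ne.isUnit ha).map _
      have hw' := span_pow_le_quad (x := X 0) (y := X 1) (b := C b) (c := C c) hau hN (hmax ▸ hw)
      obtain ⟨l, hl, r, hr, rfl⟩ := Submodule.mem_sup.1 hw'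
      obtain ⟨α, β, rfl⟩ := Ideal.mem_span_pair.1 hl
      have hrq : r ∈ Ideal.span {q} := (Ideal.mul_le_inf hr).1
      have hz : ψ α * y' ^ N + ψ β * (x' * y' ^ (N - 1)) = 0 := by
        rw [map_add, map_add, hI _ hg, hI _ hrq, zero_add, add_zero, map_add, map_mul, map_mul, map_mul,
          map_pow, map_pow, hψ0, hψ1] at hf
        exact hf
      have hym : y' ∈ maximalIdeal S := hs'.le (Ideal.subset_span (by simp))
      have hxm : x' ∈ maximalIdeal S := hs'.le (Ideal.subset_span (by simp))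
      obtain ⟨hα, hβ⟩ := mem_of_gen htm htr hnp hN (Ideal.pow_mem_pow hym N) (by
          obtain ⟨M, rfl⟩ : ∃ k, N = k + 1 := ⟨N - 1, by omega⟩
          rw [pow_succ', Nat.add_sub_cancel]
          exact Ideal.mul_mem_mul hxm (Ideal.pow_mem_pow hym M))
        (pow_le_of_quad hs' ((Ne.isUnit ha).map (algebraMap K S)) (by rw [h0]; exact zero_mem _) hN)
        (by rw [hz]; exact zero_mem _)
      rw [show g + (α * X 1 ^ N + β * (X 0 * X 1 ^ (N - 1)) + r) = (g + r) + (α * X 1 ^ N + β * (X 0 * X 1 ^ (N - 1))) by ring]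
      refine Submodule.add_mem_sup (add_mem hg hrq) ?_
      obtain ⟨M, rfl⟩ : ∃ k, N = k + 1 := ⟨N - 1, by omega⟩
      have hX : ∀ i, (X i : MvPowerSeries (Fin 2) K) ∈ maximalIdeal _ := fun i => by simp [isUnit_iff_constantCoeff]
      rw [pow_succ' _ (M + 1), Nat.add_sub_cancel]
      refine add_mem (Ideal.mul_mem_mul (hloc α hα) (Ideal.pow_mem_pow (hX 1) _)) (Ideal.mul_mem_mul (hloc β hβ) ?_)
      rw [pow_succ']
      exact Ideal.mul_mem_mul (hX 0) (Ideal.pow_mem_pow (hX 1) _)
  let φ := Ideal.Quotient.lift (Ideal.span {q}) ψ.toRingHom hI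
  have hφ : Function.Bijective φ := by
    refine ⟨(injective_iff_map_eq_zero _).2 fun z hz => ?_, fun z => ?_⟩
    · obtain ⟨f, rfl⟩ := Ideal.Quotient.mk_surjective z
      exact Ideal.Quotient.eq_zero_iff_mem.2 (hker f hz)
    · obtain ⟨f, rfl⟩ := hψ z
      exact ⟨Ideal.Quotient.mk _ f, rfl⟩
  refine ⟨(RingEquiv.ofBijective φ hφ).symm, fun r => ?_⟩
  rw [RingEquiv.symm_apply_eq]
  exact (hC r).symm

end Groth.Agent.H29Node
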