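import Groth.Agent.H29Node.FieldDescent
import Groth.Agent.H29Node.Quad
import Groth.Agent.H28Neron.SmoothPoint
import Groth.Agent.H11Node.Geom
import Groth.Agent.H22Alg.GeomRegularAt
import Groth.Agent.H05EGA4.FieldSmooth
import Mathlib.RingTheory.PowerSeries.Inverse

/-!
# Reduced closed subcurves of nodal curves over an algebraically closed field
-/

set_option autoImplicit false
set_option linter.style.haveILetI false

universe u

open CategoryTheory CategoryTheory.Limits AlgebraicGeometry TopologicalSpace IsLocalRing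

namespace Groth.Agent.H29Node

/-- A reduced Noetherian local ring with principal maximal ideal is regular. -/
theorem isRegularLocalRing_of_principal {A : Type u} [CommRing A] [IsLocalRing A] [IsNoetherianRing A]
    [_root_.IsReduced A] (hp : (maximalIdeal A).IsPrincipal) : IsRegularLocalRing A := by
  by_cases hF : IsField A
  · letI := hF.toField
    infer_instance
  refine IsRegularLocalRing.of_spanFinrank_maximalIdeal_le A ?_
  have h1 : (maximalIdeal A).spanFinrank ≤ 1 := by
    rw [IsLocalRing.spanFinrank_maximalIdeal_eq_finrank_cotangentSpace_of_fg (IsNoetherian.noetherian _)]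
    exact IsLocalRing.finrank_cotangentSpace_le_one_iff.2 hp
  have h2 : ¬ ringKrullDim A ≤ 0 := fun h0 => hF <| by
    haveI : Ring.KrullDimLE 0 A := Ring.krullDimLE_iff.2 (by exact_mod_cast h0)
    exact Ring.KrullDimLE.isField_of_isReduced
  refine le_trans (Nat.cast_le.2 h1) ?_
  exact_mod_cast Order.succ_le_of_lt (not_le.1 h2)

/-- A positive dimensional reduced proper quotient of a node has principal maximal ideal. -/
theorem principal_of_node_quotient {K A Q : Type u} [Field K] [CommRing A] [IsLocalRing A] [IsNoetherianRing A]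
    [CommRing Q] [IsLocalRing Q] [IsNoetherianRing Q] [_root_.IsReduced Q]
    (e : AdicCompletion (maximalIdeal A) A ≃+* H11Node.NodeRing K) (ψ : A →+* Q) (hψ : Function.Surjective ψ)
    (hker : RingHom.ker ψ ≠ ⊥) (hQ : ¬ IsField Q) : (maximalIdeal Q).IsPrincipal := by
  classical
  let S := AdicCompletion (maximalIdeal A) A
  haveI : Module.Flat A S := AdicCompletion.flat_of_isNoetherian _
  haveI : Module.FaithfullyFlat A S := Module.FaithfullyFlat.of_flat_of_isLocalHom
  set J := RingHom.ker ψ with hJ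
  set I := J.map (algebraMap A S) with hI
  obtain ⟨t', htm', htr'⟩ := exists_regular_of_isReduced Q hQ
  obtain ⟨t, rfl⟩ := hψ t'
  have htm : t ∈ maximalIdeal A := fun hu => htm' (hu.map ψ)
  have hcolon : ∀ z : S, z * algebraMap A S t ∈ I → z ∈ I := fun z hz => by
    have := mem_map_of_flat (B := S) J J (IsNoetherian.noetherian _) ![t] (fun c hc i => by
      fin_cases i
      have h1 : ψ (c 0) * ψ t = 0 := by rw [← map_mul]; simpa [hJ, RingHom.mem_ker] using hc
      exact RingHom.mem_ker.2 (mem_nonZeroDivisors_iff_right.1 htr' _ h1)) ![z] (by simpa using hz)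
    exact this 0
  let χ : Fin 2 → (S →+* PowerSeries K) := fun i => (H11Node.branch i).comp e.toRingHom
  let θ : MvPowerSeries (Fin 2) K →+* S := e.symm.toRingHom.comp (Ideal.Quotient.mk _)
  have hχθ : ∀ i f, χ i (θ f) = H11Node.axis i f := fun i f =>
    (congrArg (H11Node.branch i) (e.apply_symm_apply _)).trans (H11Node.branch_mk i f)
  have hχs : ∀ i, Function.Surjective (χ i) := fun i c => by
    let f : MvPowerSeries (Fin 2) K := fun d => if d = Finsupp.single i (d i) then PowerSeries.coeff (d i) c else 0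
    refine ⟨θ f, ?_⟩
    rw [hχθ]
    ext n
    rw [H11Node.coeff_axis]
    show (if Finsupp.single i n = Finsupp.single i (Finsupp.single i n i) then PowerSeries.coeff (Finsupp.single i n i) c else 0) = _
    simp
  have hinj : ∀ a b : S, (∀ m, χ m a = χ m b) → a = b := fun a b h => by
    rw [← sub_eq_zero]
    refine e.injective ((map_zero e).symm ▸ ?_)
    exact H11Node.branch_injective (K := K)
      ((map_sub (χ 0) a b).trans (sub_eq_zero.2 (h 0))) ((map_sub (χ 1) a b).trans (sub_eq_zero.2 (h 1)))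
  have hother : ∀ i : Fin 2, ∃ j : Fin 2, j ≠ i ∧ ∀ m : Fin 2, m = i ∨ m = j := fun i => by
    fin_cases i
    · exact ⟨1, by decide, by decide⟩
    · exact ⟨0, by decide, by decide⟩
  -- a power of a coordinate lies in the extended ideal
  obtain ⟨j₀, hj₀, hj₀0⟩ := Submodule.exists_mem_ne_zero_of_ne_bot hker
  obtain ⟨i, hi⟩ : ∃ i, χ i (algebraMap A S j₀) ≠ 0 := by
    by_contra hall
    push Not at hall
    refine hj₀0 ((AdicCompletion.of_injective (maximalIdeal A) A) ?_)
    exact (hinj (algebraMap A S j₀) 0 fun m => by rw [hall m, map_zero]).trans (map_zero (algebraMap A S)).symm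
  obtain ⟨j, hji, hcover⟩ := hother i
  obtain ⟨a, ha⟩ : ∃ a : ℕ, Associated (χ i (algebraMap A S j₀)) (PowerSeries.X ^ a) :=
    IsDiscreteValuationRing.associated_pow_irreducible hi PowerSeries.X_irreducible
  obtain ⟨c, hc⟩ := ha.dvd
  obtain ⟨c', rfl⟩ := hχs i c
  have hpow : θ (MvPowerSeries.X i) ^ (a + 1) ∈ I := by
    have h0 : θ (MvPowerSeries.X i) ^ (a + 1) = algebraMap A S j₀ * c' * θ (MvPowerSeries.X i) := hinj _ _ fun m => by
      rcases hcover m with rfl | rfl
      · rw [map_pow, map_mul, map_mul, hχθ, H11Node.axis_X_self, ← hc, pow_succ]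
      · rw [map_pow, map_mul, map_mul, hχθ, H11Node.axis_X_of_ne hji.symm, zero_pow (Nat.succ_ne_zero a), mul_zero]
    rw [h0]
    exact Ideal.mul_mem_right _ _ (Ideal.mul_mem_right _ _ (Ideal.mem_map_of_mem _ hj₀))
  have hgen : maximalIdeal S ≤ Ideal.span {θ (MvPowerSeries.X i), θ (MvPowerSeries.X j)} := fun z hz => by
    obtain ⟨w, hw⟩ := Ideal.Quotient.mk_surjective (e z)
    have hzw : θ w = z := by show e.symm _ = z; rw [hw, e.symm_apply_apply]
    subst hzw
    have hw0 : w ∈ H02CA.PS.vars (Fin 2) K := H02CA.PS.mem_vars_iff.2 (by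
      by_contra h1
      exact hz ((MvPowerSeries.isUnit_iff_constantCoeff.2 (Ne.isUnit h1)).map θ))
    have h2 := Ideal.mem_map_of_mem θ hw0
    rw [Ideal.map_span, ← Set.range_comp] at h2
    refine Ideal.span_le.2 ?_ h2
    rintro _ ⟨m, rfl⟩
    rcases hcover m with rfl | rfl
    · exact Ideal.subset_span (Or.inl rfl)
    · exact Ideal.subset_span (Or.inr rfl)
  have htS : algebraMap A S t ∈ maximalIdeal S := completion_map_maximal.le (Ideal.mem_map_of_mem _ htm)
  obtain ⟨p₁, q₁, hpq⟩ := Ideal.mem_span_pair.1 (hgen htS)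
  have hxy : θ (MvPowerSeries.X i) * θ (MvPowerSeries.X j) = 0 := hinj _ _ fun m => by
    rcases hcover m with rfl | rfl
    · rw [map_mul, map_zero, hχθ m (MvPowerSeries.X j), H11Node.axis_X_of_ne hji, mul_zero]
    · rw [map_mul, map_zero, hχθ m (MvPowerSeries.X i), H11Node.axis_X_of_ne hji.symm, zero_mul]
  have hdesc : ∀ n : ℕ, θ (MvPowerSeries.X i) ^ (n + 1) ∈ I → θ (MvPowerSeries.X i) ∈ I := fun n => by
    induction n with
    | zero => intro h; simpa using h
    | succ n ih =>
      intro h
      refine ih (hcolon _ ?_)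
      rw [← hpq, show θ (MvPowerSeries.X i) ^ (n + 1) * (p₁ * θ (MvPowerSeries.X i) + q₁ * θ (MvPowerSeries.X j)) =
        p₁ * θ (MvPowerSeries.X i) ^ (n + 1 + 1) + q₁ * θ (MvPowerSeries.X i) ^ n * (θ (MvPowerSeries.X i) * θ (MvPowerSeries.X j)) by ring,
        hxy, mul_zero, add_zero]
      exact Ideal.mul_mem_left _ _ h
  have hXi := hdesc a hpow
  have hXj : θ (MvPowerSeries.X j) ∈ maximalIdeal S := fun hu => by
    have := hu.map (χ j)
    rw [hχθ, H11Node.axis_X_self] at this
    exact PowerSeries.X_irreducible.not_isUnit this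
  obtain ⟨p, hp, hp'⟩ := H11Node.exists_mem_sub_mem_sq hXj
  have hle : maximalIdeal A ≤ J ⊔ Ideal.span {p} ⊔ maximalIdeal A ^ 2 := by
    rw [← Ideal.comap_map_eq_self_of_faithfullyFlat (A := A) (B := S) (J ⊔ Ideal.span {p} ⊔ maximalIdeal A ^ 2),
      ← Ideal.map_le_iff_le_comap, completion_map_maximal]
    refine hgen.trans (Ideal.span_le.2 ?_)
    rintro z (rfl | rfl)
    · exact Ideal.map_mono (le_sup_of_le_left le_sup_left) hXi
    · rw [SetLike.mem_coe, show θ (MvPowerSeries.X j) = algebraMap A S p + (θ (MvPowerSeries.X j) - algebraMap A S p) by ring]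
      refine add_mem (Ideal.mem_map_of_mem _ (Ideal.mem_sup_left (Ideal.mem_sup_right (Ideal.mem_span_singleton_self p)))) ?_
      refine Ideal.map_mono (le_sup_right : maximalIdeal A ^ 2 ≤ _) ?_
      rwa [Ideal.map_pow, completion_map_maximal]
  have hmap : (maximalIdeal A).map ψ = maximalIdeal Q := IsLocalRing.map_maximalIdeal_of_surjective ψ hψ
  refine ⟨⟨ψ p, (span_eq_of_le_sup_sq ?_ ?_).symm⟩⟩
  · rw [Ideal.span_singleton_le_iff_mem, ← hmap]
    exact Ideal.mem_map_of_mem _ hp
  · show maximalIdeal Q ≤ Ideal.span {ψ p} ⊔ maximalIdeal Q ^ 2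
    rw [← hmap, ← Ideal.map_pow, ← Set.image_singleton, ← Ideal.map_span]
    refine (Ideal.map_mono hle).trans ?_
    rw [Ideal.map_sup, Ideal.map_sup, show J.map ψ = ⊥ from (Ideal.map_eq_bot_iff_le_ker ψ).2 le_rfl, bot_sup_eq]

/-- Over an algebraically closed field a node is an ordinary double point of the scheme itself. -/
theorem isNode_iff_ord {K : Type u} [Field K] [IsAlgClosed K] {X : Scheme.{u}} [X.Over (Spec (CommRingCat.of K))] {x : X} :
    Curv2.IsNode K X x ↔ IsClosed ({x} : Set X) ∧
      (letI := Curv2.stalkAlgebra K X x; Curv2.IsOrdDoublePt K (X.presheaf.stalk x)) := by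
  let L := AlgebraicClosure K
  have hb : Function.Bijective (algebraMap K L) := IsAlgClosed.algebraMap_bijective_of_isIntegral
  haveI : IsIso (CommRingCat.ofHom (algebraMap K L)) := (ConcreteCategory.isIso_iff_bijective _).2 hb
  letI : (Curv2.bc K X L).Over (Spec (CommRingCat.of L)) := ⟨Curv2.bcSnd K X L⟩
  haveI : IsIso (Curv2.bcFst K X L) := inferInstanceAs (IsIso (pullback.fst _ _))
  have hiff : ∀ w, (letI := Curv2.stalkAlgebra K X (Curv2.bcFst K X L w);
      Curv2.IsOrdDoublePt K (X.presheaf.stalk (Curv2.bcFst K X L w))) ↔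
      (letI := Curv2.stalkAlgebra L (Curv2.bc K X L) w; Curv2.IsOrdDoublePt L ((Curv2.bc K X L).presheaf.stalk w)) :=
    fun w => isOrdDoublePt_iff_of_openImmersion (Curv2.bcFst K X L) (RingEquiv.ofBijective _ hb) pullback.condition w
  constructor
  · rintro ⟨hx, w, rfl, hO⟩
    exact ⟨hx, (hiff w).2 hO⟩
  · rintro ⟨hx, hO⟩
    obtain ⟨w, rfl⟩ := (Curv2.bcFst K X L).surjective x
    exact ⟨hx, w, rfl, (hiff w).1 hO⟩

/-- A reduced closed subscheme, pure of dimension one, of an at-worst-nodal scheme over an algebraically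
closed field is at worst nodal. -/
theorem atWorstNodal_of_closedImmersion {K : Type u} [Field K] [IsAlgClosed K] {X Y : Scheme.{u}}
    [X.Over (Spec (CommRingCat.of K))] [Y.Over (Spec (CommRingCat.of K))]
    [LocallyOfFiniteType (X ↘ Spec (CommRingCat.of K))] (i : Y ⟶ X) [IsClosedImmersion i]
    (hi : i ≫ (X ↘ Spec (CommRingCat.of K)) = Y ↘ Spec (CommRingCat.of K)) [AlgebraicGeometry.IsReduced Y]
    (hXp : ∀ T ∈ irreducibleComponents X, topologicalKrullDim T = 1)
    (hY : ∀ T ∈ irreducibleComponents Y, topologicalKrullDim T = 1)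
    (hX : Curv2.AtWorstNodal K X) : Curv2.AtWorstNodal K Y := by
  intro y hy
  haveI : LocallyOfFiniteType (Y ↘ Spec (CommRingCat.of K)) := by rw [← hi]; infer_instance
  haveI : LocallyOfFinitePresentation (X ↘ Spec (CommRingCat.of K)) := inferInstance
  haveI : LocallyOfFinitePresentation (Y ↘ Spec (CommRingCat.of K)) := inferInstance
  haveI := LocallyOfFiniteType.isLocallyNoetherian (X ↘ Spec (CommRingCat.of K))
  haveI := LocallyOfFiniteType.isLocallyNoetherian (Y ↘ Spec (CommRingCat.of K))
  let A := X.presheaf.stalk (i y)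
  let Q := Y.presheaf.stalk y
  have hx : IsClosed ({i y} : Set X) := by
    rw [← Set.image_singleton]
    exact i.isClosedMap _ hy
  have hsurj : Function.Surjective (i.stalkMap y).hom := i.stalkMap_surjective y
  have smooth_of_regular : IsRegularLocalRing Q → ∃ U : Y.Opens, y ∈ U ∧ Smooth (U.ι ≫ (Y ↘ Spec (CommRingCat.of K))) := by
    intro hreg
    letI := Curv2.stalkAlgebra K Y y
    exact ⟨_, H22Alg.GeomRegularAt.mem_smoothLocus_of_isAdicFormallySmooth K Y y
      (H05EGA4.isAdicFormallySmooth_of_perfectField K Q), H17.LocusBC.smooth_restrict_smoothLocus _⟩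
  -- no isolated points
  have hQF : ¬ IsField Q := fun hF => by
    have h1 := H8Props.FieldDim.localDim_eq_stalk_add_cdim (Y ↘ Spec (CommRingCat.of K)) y
    rw [H8Props.FieldDim.localDim_eq_of_pure (Y ↘ Spec (CommRingCat.of K)) y 1 hY, H8Props.FieldDim.cdim, hy.closure_eq,
      ringKrullDim_eq_zero_of_isField hF, zero_add] at h1
    haveI : Subsingleton (IrreducibleCloseds ({y} : Set Y)) := ⟨fun a b => SetLike.coe_injective (by
      haveI : Subsingleton ({y} : Set Y) := Set.subsingleton_singleton.coe_sort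
      exact Subsingleton.eq_univ_of_nonempty a.isIrreducible'.nonempty |>.trans
        (Subsingleton.eq_univ_of_nonempty b.isIrreducible'.nonempty).symm)⟩
    have h0 : topologicalKrullDim ({y} : Set Y) ≤ 0 := Order.krullDim_nonpos_of_subsingleton
    rw [← h1] at h0
    exact absurd h0 (by decide)
  have hAd : ringKrullDim A ≤ 1 := by
    have h1 := H8Props.FieldDim.localDim_eq_stalk_add_cdim (X ↘ Spec (CommRingCat.of K)) (i y)
    rw [H8Props.FieldDim.localDim_eq_of_pure (X ↘ Spec (CommRingCat.of K)) (i y) 1 hXp] at h1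
    haveI : Nonempty (IrreducibleCloseds (closure ({i y} : Set X))) :=
      ⟨⟨{⟨i y, subset_closure rfl⟩}, isIrreducible_singleton, by
        convert hx.preimage (continuous_subtype_val (p := (· ∈ closure ({i y} : Set X)))) using 1
        ext z; simp [Subtype.ext_iff]⟩⟩
    exact (le_add_of_nonneg_right Order.krullDim_nonneg).trans h1.ge
  rcases hX (i y) hx with ⟨U, hU, hsm⟩ | hn
  · -- smooth points
    refine Or.inl (smooth_of_regular (isRegularLocalRing_of_principal ?_))
    haveI : IsRegularLocalRing A := H22Alg.GeomRegularAt.regular_of_mem_smoothLocus K X (i y)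
      ((H17.LocusBC.mem_smoothLocus_iff_exists _ _).2 ⟨U, hU, hsm⟩)
    obtain ⟨π, hπ⟩ := (H11Node.isPrincipal_maximalIdeal A hAd).principal
    refine ⟨⟨(i.stalkMap y).hom π, ?_⟩⟩
    rw [← IsLocalRing.map_maximalIdeal_of_surjective (i.stalkMap y).hom hsurj]
    exact (congrArg (Ideal.map (i.stalkMap y).hom) hπ).trans (by rw [Ideal.submodule_span_eq, Ideal.map_span, Set.image_singleton])
  · obtain ⟨-, hO⟩ := isNode_iff_ord.1 hn
    by_cases hker : RingHom.ker (i.stalkMap y).hom = ⊥
    · refine Or.inr (isNode_iff_ord.2 ⟨hy, ?_⟩)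
      letI := Curv2.stalkAlgebra K X (i y)
      letI := Curv2.stalkAlgebra K Y y
      refine (isOrdDoublePt_congr (RingEquiv.ofBijective (i.stalkMap y).hom ⟨(RingHom.injective_iff_ker_eq_bot _).2 hker, hsurj⟩)
        (RingEquiv.refl K) fun c => ?_).1 hO
      show i.stalkMap y (X.presheaf.germ ⊤ (i y) trivial ((X ↘ Spec (CommRingCat.of K)).appTop _)) =
        Y.presheaf.germ ⊤ y trivial ((Y ↘ Spec (CommRingCat.of K)).appTop _)
      rw [Scheme.Hom.germ_stalkMap_apply]
      refine congrArg (Y.presheaf.germ ⊤ y trivial) ?_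
      rw [← hi, Scheme.Hom.comp_appTop]
      rfl
    · obtain ⟨e, -⟩ := hO
      exact Or.inl (smooth_of_regular (isRegularLocalRing_of_principal
        (principal_of_node_quotient e (i.stalkMap y).hom hsurj hker hQF)))

end Groth.Agent.H29Node
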