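import Groth.Agent.H29Node.SingLocus
import Groth.Agent.H29Node.SubNode
import Groth.Agent.H06GeomRed.Open

/-!
# The nodal locus of a flat family of curves

A point of a flat family of curves is a smooth point or a node of its fibre exactly if the fibre is
geometrically reduced there and the singular scheme is unramified there; so the set of these points is open.
-/

set_option autoImplicit false
set_option linter.style.haveILetI false

universe u

open CategoryTheory CategoryTheory.Limits AlgebraicGeometry TopologicalSpace IsLocalRing TensorProduct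

namespace Groth.Agent.H29Node

open SingLocus

section ClosedField

variable {K : Type u} [Field K] [IsAlgClosed K] {Z : Scheme.{u}} [Z.Over (Spec (CommRingCat.of K))]
  [LocallyOfFiniteType (Z ↘ Spec (CommRingCat.of K))]
  (hZ : ∀ T ∈ irreducibleComponents Z, topologicalKrullDim T = 1)

include K hZ in
theorem ringKrullDim_stalk_of_pure_one {z : Z} (hz : IsClosed ({z} : Set Z)) :
    ringKrullDim (Z.presheaf.stalk z) = 1 := by
  have h1 := H8Props.FieldDim.localDim_eq_stalk_add_cdim (Z ↘ Spec (CommRingCat.of K)) z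
  rw [H8Props.FieldDim.localDim_eq_of_pure (Z ↘ Spec (CommRingCat.of K)) z 1 hZ, H8Props.FieldDim.cdim,
    hz.closure_eq] at h1
  haveI : Subsingleton ({z} : Set Z) := Set.subsingleton_singleton.coe_sort
  haveI : Subsingleton (IrreducibleCloseds ({z} : Set Z)) := ⟨fun a b => SetLike.coe_injective
    ((Subsingleton.eq_univ_of_nonempty a.isIrreducible'.nonempty).trans
      (Subsingleton.eq_univ_of_nonempty b.isIrreducible'.nonempty).symm)⟩
  haveI : Nonempty (IrreducibleCloseds ({z} : Set Z)) := ⟨⟨{⟨z, rfl⟩}, isIrreducible_singleton, by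
    convert hz.preimage (continuous_subtype_val (p := (· ∈ ({z} : Set Z)))) using 1
    ext w; simp only [Set.mem_preimage, Set.mem_singleton_iff, Subtype.ext_iff]⟩⟩
  have h0 : topologicalKrullDim ({z} : Set Z) = 0 :=
    le_antisymm Order.krullDim_nonpos_of_subsingleton Order.krullDim_nonneg
  rw [h0, add_zero] at h1
  exact h1.symm

include hZ in
theorem mem_smoothLocus_of_isReduced_of_not_isClosed {z : Z} [_root_.IsReduced (Z.presheaf.stalk z)]
    (hz : ¬ IsClosed ({z} : Set Z)) : z ∈ (Z ↘ Spec (CommRingCat.of K)).smoothLocus := by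
  haveI : LocallyOfFinitePresentation (Z ↘ Spec (CommRingCat.of K)) := inferInstance
  haveI := LocallyOfFiniteType.isLocallyNoetherian (Z ↘ Spec (CommRingCat.of K))
  have hpr : ∀ P : Spec (Z.presheaf.stalk z), P = IsLocalRing.closedPoint (Z.presheaf.stalk z) := fun P => by
    refine (Z.fromSpecStalk z).isEmbedding.injective ?_
    rw [Scheme.fromSpecStalk_closedPoint]
    have hs : Z.fromSpecStalk z P ⤳ z := by
      have : Z.fromSpecStalk z P ∈ Set.range (Z.fromSpecStalk z) := ⟨P, rfl⟩
      rwa [Scheme.range_fromSpecStalk] at this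
    by_contra hne
    exact hz (isClosed_of_pure_one (k := K) hZ _ _ hs (Ne.symm hne))
  have hfield : IsField (Z.presheaf.stalk z) := by
    rw [IsLocalRing.isField_iff_maximalIdeal_eq, eq_bot_iff]
    intro a ha
    refine (Submodule.mem_bot _).2 (IsNilpotent.eq_zero (mem_nilradical.1 ?_))
    rw [nilradical_eq_sInf, Submodule.mem_sInf]
    intro P hP
    have e : P = maximalIdeal (Z.presheaf.stalk z) := congrArg PrimeSpectrum.asIdeal (hpr ⟨P, hP⟩)
    rw [e]; exact ha
  letI := hfield.toField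
  haveI : IsRegularLocalRing (Z.presheaf.stalk z) := inferInstance
  letI := Curv2.stalkAlgebra K Z z
  exact H22Alg.GeomRegularAt.mem_smoothLocus_of_isAdicFormallySmooth K Z z
    (H05EGA4.isAdicFormallySmooth_of_perfectField K _)

variable {A : Type u} [CommRing A] [Algebra K A] [Algebra.FiniteType K A]
  (c : Spec (CommRingCat.of A) ⟶ Z) [IsOpenImmersion c]
  (hc : c ≫ (Z ↘ Spec (CommRingCat.of K)) = Spec.map (CommRingCat.ofHom (algebraMap K A)))

include hZ hc in
/-- The criterion at a closed point over an algebraically closed field. -/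
theorem smooth_or_ord_iff_of_isClosed (q : PrimeSpectrum A) (hq : IsClosed ({c q} : Set Z)) :
    (c q ∈ (Z ↘ Spec (CommRingCat.of K)).smoothLocus ∨
        (letI := Curv2.stalkAlgebra K Z (c q); Curv2.IsOrdDoublePt K (Z.presheaf.stalk (c q)))) ↔
      (_root_.IsReduced (Z.presheaf.stalk (c q)) ∧ q ∉ bad K A) := by
  haveI : LocallyOfFinitePresentation (Z ↘ Spec (CommRingCat.of K)) := inferInstance
  haveI := LocallyOfFiniteType.isLocallyNoetherian (Z ↘ Spec (CommRingCat.of K))
  letI := Curv2.stalkAlgebra K Z (c q)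
  let B := (Spec.structureSheaf A).presheaf.stalk q
  haveI : IsLocalization.AtPrime B q.asIdeal := StructureSheaf.IsLocalization.to_stalk A q
  letI : Algebra K B := ((algebraMap A B).comp (algebraMap K A)).toAlgebra
  haveI : IsScalarTower K A B := IsScalarTower.of_algebraMap_eq fun _ => rfl
  haveI : Algebra.EssFiniteType A B := Algebra.EssFiniteType.of_isLocalization _ q.asIdeal.primeCompl
  haveI : Algebra.EssFiniteType K B := Algebra.EssFiniteType.comp K A B
  haveI : IsNoetherianRing B := Algebra.EssFiniteType.isNoetherianRing K B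
  haveI : IsLocalRing B := IsLocalization.AtPrime.isLocalRing B q.asIdeal
  let φ : Z.presheaf.stalk (c q) ≃+* B := (asIso (c.stalkMap q)).commRingCatIsoToRingEquiv
  have hφ : ∀ t : K, φ (algebraMap K _ t) = algebraMap K B t := fun t => by
    show c.stalkMap q (Z.presheaf.germ ⊤ (c q) trivial ((Z ↘ Spec (CommRingCat.of K)).appTop
      ((Scheme.ΓSpecIso (CommRingCat.of K)).inv t))) = algebraMap A B (algebraMap K A t)
    rw [Scheme.Hom.germ_stalkMap_apply]
    have h1 := congrArg (fun ψ : Spec (CommRingCat.of A) ⟶ Spec (CommRingCat.of K) =>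
      ψ.appTop ((Scheme.ΓSpecIso (CommRingCat.of K)).inv t)) hc
    simp only [Scheme.Hom.comp_appTop, CommRingCat.comp_apply] at h1
    refine (congrArg ((Spec (CommRingCat.of A)).presheaf.germ ⊤ q trivial) (h1.trans
      (ConcreteCategory.congr_hom (Scheme.ΓSpecIso_inv_naturality (CommRingCat.ofHom (algebraMap K A))) t).symm)).trans ?_
    rfl
  have hcl : IsClosed ({q} : Set (Spec (CommRingCat.of A))) := by
    have := hq.preimage c.continuous
    convert this using 1
    ext w
    exact ⟨fun h => congrArg c h, fun h => c.isOpenEmbedding.injective h⟩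
  have hmax : q.asIdeal.IsMaximal := (PrimeSpectrum.isClosed_singleton_iff_isMaximal q).1 hcl
  have hresA : ∀ a : A, ∃ t : K, a - algebraMap K A t ∈ q.asIdeal := fun a => by
    haveI := hmax
    letI := Ideal.Quotient.field q.asIdeal
    haveI : Module.Finite K (A ⧸ q.asIdeal) := finite_of_finite_type_of_isJacobsonRing K (A ⧸ q.asIdeal)
    obtain ⟨t, ht⟩ := (IsAlgClosed.algebraMap_bijective_of_isIntegral (k := K) (K := A ⧸ q.asIdeal)).2
      (Ideal.Quotient.mk _ a)
    exact ⟨t, Ideal.Quotient.eq.1 ht.symm⟩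
  have hresB : ∀ b : B, ∃ t : K, b - algebraMap K B t ∈ maximalIdeal B := fun b => by
    obtain ⟨t, ht⟩ := exists_const_sub_mem (K := K) hq (φ.symm b)
    refine ⟨t, fun hu => ht ?_⟩
    have := hu.map φ.symm
    rwa [map_sub, ← hφ, φ.symm_apply_apply] at this
  have hbad := notMem_bad_iff_le_fitt A q.asIdeal B (K := K) hmax hresA
  have hred : _root_.IsReduced (Z.presheaf.stalk (c q)) ↔ _root_.IsReduced B :=
    ⟨fun _ => isReduced_of_injective φ.symm φ.symm.injective, fun _ => isReduced_of_injective φ φ.injective⟩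
  have hOD : Curv2.IsOrdDoublePt K (Z.presheaf.stalk (c q)) ↔ Curv2.IsOrdDoublePt K B :=
    isOrdDoublePt_congr φ (RingEquiv.refl K) hφ
  rw [hred, hOD, hbad]
  constructor
  · rintro (hsm | hO)
    · haveI := H22Alg.GeomRegularAt.regular_of_mem_smoothLocus K Z (c q) hsm
      haveI : IsRegularLocalRing B := IsRegularLocalRing.of_ringEquiv φ
      haveI := H4Depth.isDomain_of_isRegularLocalRing B
      have hd : ringKrullDim B ≤ 1 := by
        rw [← ringKrullDim_eq_of_ringEquiv φ, ringKrullDim_stalk_of_pure_one (K := K) hZ hq]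
      have h1 := (FittLocal.fitt_eq_top_iff hresB).2 (H11Node.isPrincipal_maximalIdeal B hd)
      exact ⟨inferInstance, le_top.trans h1.ge⟩
    · obtain ⟨x, y, hxy⟩ := exists_pair_of_isOrdDoublePt hO
      obtain ⟨e, -⟩ := hO
      exact ⟨H11Node.isReduced_of_completion e, FittLocal.le_fitt_of_pair hresB hxy⟩
  · rintro ⟨_, hF⟩
    by_cases hp : (maximalIdeal B).IsPrincipal
    · haveI := isRegularLocalRing_of_principal hp
      haveI : IsRegularLocalRing (Z.presheaf.stalk (c q)) := IsRegularLocalRing.of_ringEquiv φ.symm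
      exact Or.inl (H22Alg.GeomRegularAt.mem_smoothLocus_of_isAdicFormallySmooth K Z (c q)
        (H05EGA4.isAdicFormallySmooth_of_perfectField K _))
    · exact Or.inr (FittLocal.isOrdDoublePt_of_fitt hresB hp hF)

include hZ hc in
/-- The criterion at any point over an algebraically closed field. -/
theorem smooth_or_ord_iff (q : PrimeSpectrum A) :
    (c q ∈ (Z ↘ Spec (CommRingCat.of K)).smoothLocus ∨ (IsClosed ({c q} : Set Z) ∧
        (letI := Curv2.stalkAlgebra K Z (c q); Curv2.IsOrdDoublePt K (Z.presheaf.stalk (c q))))) ↔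
      (_root_.IsReduced (Z.presheaf.stalk (c q)) ∧ q ∉ bad K A) := by
  haveI : LocallyOfFinitePresentation (Z ↘ Spec (CommRingCat.of K)) := inferInstance
  by_cases hq : IsClosed ({c q} : Set Z)
  · rw [← smooth_or_ord_iff_of_isClosed hZ c hc q hq]
    exact or_congr_right ⟨fun h => h.2, fun h => ⟨hq, h⟩⟩
  constructor
  · intro h
    have hsm : c q ∈ (Z ↘ Spec (CommRingCat.of K)).smoothLocus := h.resolve_right fun h' => hq h'.1
    haveI := H22Alg.GeomRegularAt.regular_of_mem_smoothLocus K Z (c q) hsm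
    haveI := H4Depth.isDomain_of_isRegularLocalRing (Z.presheaf.stalk (c q))
    refine ⟨inferInstance, fun hbq => ?_⟩
    haveI : JacobsonSpace Z := LocallyOfFiniteType.jacobsonSpace (Z ↘ Spec (CommRingCat.of K))
    let W : Set Z := ((Z ↘ Spec (CommRingCat.of K)).smoothLocus : Set Z) ∩ Set.range c
    obtain ⟨z, ⟨hzW, hzcl⟩, hzc⟩ := nonempty_inter_closedPoints (Z := W ∩ closure ({c q} : Set Z))
      ⟨c q, ⟨⟨hsm, q, rfl⟩, subset_closure rfl⟩⟩
      ((((Z ↘ Spec (CommRingCat.of K)).smoothLocus.isOpen.inter c.isOpenEmbedding.isOpen_range).isLocallyClosed).inter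
        isClosed_closure.isLocallyClosed)
    obtain ⟨hzs, q₀, rfl⟩ := hzW
    refine ((smooth_or_ord_iff_of_isClosed hZ c hc q₀ hzc).1 (Or.inl hzs)).2 ?_
    exact ((c.isOpenEmbedding.isInducing.specializes_iff).1 (specializes_iff_mem_closure.2 hzcl)).mem_closed
      (isClosed_bad K A) hbq
  · rintro ⟨_, -⟩
    exact Or.inl (mem_smoothLocus_of_isReduced_of_not_isClosed hZ hq)

end ClosedField

section Family

variable {X S : Scheme.{u}}

/-- A fibre as a scheme over the residue field. -/
noncomputable local instance fibreOver (f : X ⟶ S) (s : S) :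
    (f.fiber s).Over (Spec (CommRingCat.of (S.residueField s))) :=
  ⟨f.fiberToSpecResidueField s⟩

/-- A point is smooth or a node of its fibre. -/
def NodalAt (f : X ⟶ S) [LocallyOfFinitePresentation f] (x : X) : Prop :=
  x ∈ f.smoothLocus ∨
    @Curv2.IsNode (S.residueField (f x)) _ (f.fiber (f x)) ⟨f.fiberToSpecResidueField (f x)⟩ (f.asFiber x)

variable (f : X ⟶ S) [Flat f] [LocallyOfFinitePresentation f]

omit [Flat f] [LocallyOfFinitePresentation f] in
/-- A chart of a base change of `f` to an affine scheme. -/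
theorem exists_chart {R A K : Type u} [CommRing R] [CommRing A] [Algebra R A] [CommRing K] [Algebra R K]
    (a : Spec (CommRingCat.of A) ⟶ X) (b : Spec (CommRingCat.of R) ⟶ S) [IsOpenImmersion a] [IsOpenImmersion b]
    (w : Spec.map (CommRingCat.ofHom (algebraMap R A)) ≫ b = a ≫ f) {Z : Scheme.{u}} (p₁ : Z ⟶ X)
    (p₂ : Z ⟶ Spec (CommRingCat.of K))
    (hbig : IsPullback p₁ p₂ f (Spec.map (CommRingCat.ofHom (algebraMap R K)) ≫ b))
    (z : Z) (p : PrimeSpectrum A) (hz : p₁ z = a p) :
    ∃ (c : Spec (CommRingCat.of (K ⊗[R] A)) ⟶ Z) (q : PrimeSpectrum (K ⊗[R] A)),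
      IsOpenImmersion c ∧ c q = z ∧ c ≫ p₂ = Spec.map (CommRingCat.ofHom (algebraMap K (K ⊗[R] A))) ∧
      q.comap (Algebra.TensorProduct.includeRight : A →ₐ[R] K ⊗[R] A).toRingHom = p ∧
      c ≫ p₁ = Spec.map (CommRingCat.ofHom (Algebra.TensorProduct.includeRight : A →ₐ[R] K ⊗[R] A).toRingHom) ≫ a := by
  let g₀ := Spec.map (CommRingCat.ofHom (algebraMap R K))
  let x₀ := Spec.map (CommRingCat.ofHom (algebraMap R A))
  have sq₀ : IsPullback
      (Spec.map (CommRingCat.ofHom (Algebra.TensorProduct.includeRight : A →ₐ[R] K ⊗[R] A).toRingHom))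
      (Spec.map (CommRingCat.ofHom (algebraMap K (K ⊗[R] A)))) x₀ g₀ :=
    (isPullback_SpecMap_of_isPushout _ _ _ _ (CommRingCat.isPushout_tensorProduct R K A)).flip
  let j : pullback x₀ g₀ ⟶ pullback f (g₀ ≫ b) :=
    pullback.map _ _ _ _ a (𝟙 _) b w (Category.id_comp _).symm
  haveI : IsOpenImmersion j := by dsimp only [j]; infer_instance
  let c := sq₀.isoPullback.hom ≫ j ≫ hbig.isoPullback.inv
  have hc₁ : c ≫ p₁ =
      Spec.map (CommRingCat.ofHom (Algebra.TensorProduct.includeRight : A →ₐ[R] K ⊗[R] A).toRingHom) ≫ a := by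
    simp only [c, Category.assoc, hbig.isoPullback_inv_fst]
    rw [show j ≫ pullback.fst f (g₀ ≫ b) = pullback.fst _ _ ≫ a from pullback.lift_fst _ _ _,
      sq₀.isoPullback_hom_fst_assoc]
  have hc₂ : c ≫ p₂ = Spec.map (CommRingCat.ofHom (algebraMap K (K ⊗[R] A))) := by
    simp only [c, Category.assoc, hbig.isoPullback_inv_snd]
    rw [show j ≫ pullback.snd f (g₀ ≫ b) = pullback.snd _ _ ≫ 𝟙 _ from pullback.lift_snd _ _ _,
      Category.comp_id, sq₀.isoPullback_hom_snd]
  obtain ⟨t₀, ht₀⟩ : hbig.isoPullback.hom z ∈ Set.range j := by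
    rw [Scheme.Pullback.range_map]
    refine ⟨⟨p, ?_⟩, ⟨pullback.snd f (g₀ ≫ b) (hbig.isoPullback.hom z), rfl⟩⟩
    show a p = (hbig.isoPullback.hom ≫ pullback.fst f (g₀ ≫ b)) z
    rw [hbig.isoPullback_hom_fst, hz]
  obtain ⟨q, hq⟩ : ∃ q, sq₀.isoPullback.hom q = t₀ := sq₀.isoPullback.hom.surjective t₀
  have hcq : c q = z := by
    show hbig.isoPullback.inv (j (sq₀.isoPullback.hom q)) = z
    rw [hq, ht₀]
    show (hbig.isoPullback.hom ≫ hbig.isoPullback.inv) z = z
    rw [Iso.hom_inv_id]; rfl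
  refine ⟨c, q, inferInstance, hcq, hc₂, a.isOpenEmbedding.injective ?_, hc₁⟩
  have h := congrArg (fun ψ : Spec (CommRingCat.of (K ⊗[R] A)) ⟶ X => ψ q) hc₁
  simp only [Scheme.Hom.comp_apply, hcq, hz] at h
  exact h.symm

omit [Flat f] [LocallyOfFinitePresentation f] in
/-- The geometric fibre over a point, with a chart. -/
theorem exists_geometric_chart {R A : Type u} [CommRing R] [CommRing A] [Algebra R A]
    (a : Spec (CommRingCat.of A) ⟶ X) (b : Spec (CommRingCat.of R) ⟶ S) [IsOpenImmersion a] [IsOpenImmersion b]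
    (w : Spec.map (CommRingCat.ofHom (algebraMap R A)) ≫ b = a ≫ f) (p : PrimeSpectrum A)
    (K : Type u) [Field K] [Algebra (S.residueField (f (a p))) K]
    (z : (Curv2.bc (S.residueField (f (a p))) (f.fiber (f (a p))) K : Scheme.{u}))
    (hz : Curv2.bcFst (S.residueField (f (a p))) (f.fiber (f (a p))) K z = f.asFiber (a p)) :
    ∃ (_ : Algebra R K) (c : Spec (CommRingCat.of (K ⊗[R] A)) ⟶
        Curv2.bc (S.residueField (f (a p))) (f.fiber (f (a p))) K)
      (q : PrimeSpectrum (K ⊗[R] A)), IsOpenImmersion c ∧ c q = z ∧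
      c ≫ Curv2.bcSnd (S.residueField (f (a p))) (f.fiber (f (a p))) K =
        Spec.map (CommRingCat.ofHom (algebraMap K (K ⊗[R] A))) ∧
      q.comap (Algebra.TensorProduct.includeRight : A →ₐ[R] K ⊗[R] A).toRingHom = p := by
  let θ := Spec.map (CommRingCat.ofHom (algebraMap (S.residueField (f (a p))) K))
  let g : Spec (CommRingCat.of K) ⟶ S := θ ≫ S.fromSpecResidueField (f (a p))
  obtain ⟨g₀, hg₀⟩ : ∃ g₀ : Spec (CommRingCat.of K) ⟶ Spec (CommRingCat.of R), g₀ ≫ b = g := by
    refine ⟨IsOpenImmersion.lift b g ?_, IsOpenImmersion.lift_fac _ _ _⟩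
    rintro _ ⟨t, rfl⟩
    refine ⟨Spec.map (CommRingCat.ofHom (algebraMap R A)) p, ?_⟩
    rw [← Scheme.Hom.comp_apply, w, Scheme.Hom.comp_apply]
    show _ = S.fromSpecResidueField (f (a p)) (θ t)
    rw [Scheme.fromSpecResidueField_apply]
  obtain ⟨ρ, rfl⟩ := Spec.map_surjective g₀
  letI : Algebra R K := ρ.hom.toAlgebra
  have hbig : IsPullback (Curv2.bcFst (S.residueField (f (a p))) (f.fiber (f (a p))) K ≫ f.fiberι (f (a p)))
      (Curv2.bcSnd (S.residueField (f (a p))) (f.fiber (f (a p))) K) f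
      (Spec.map (CommRingCat.ofHom (algebraMap R K)) ≫ b) := by
    rw [show Spec.map (CommRingCat.ofHom (algebraMap R K)) ≫ b = θ ≫ S.fromSpecResidueField (f (a p)) from hg₀]
    exact (IsPullback.of_hasPullback (f.fiberToSpecResidueField (f (a p))) θ).paste_horiz
      (IsPullback.of_hasPullback f (S.fromSpecResidueField (f (a p))))
  obtain ⟨c, q, h1, h2, h3, h4, -⟩ := exists_chart f a b w _ _ hbig z p (by
    rw [Scheme.Hom.comp_apply, hz, f.fiberι_asFiber])
  exact ⟨inferInstance, c, q, h1, h2, h3, h4⟩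

variable {R A : Type u} [CommRing R] [CommRing A] [Algebra R A]
  (a : Spec (CommRingCat.of A) ⟶ X) (b : Spec (CommRingCat.of R) ⟶ S) [IsOpenImmersion a] [IsOpenImmersion b]
  (w : Spec.map (CommRingCat.ofHom (algebraMap R A)) ≫ b = a ≫ f) (p : PrimeSpectrum A)
  (hfib : ∀ Z ∈ irreducibleComponents (↥(f.fiber (f (a p))) : Type u), topologicalKrullDim Z = 1)

include w hfib in
/-- The nodal condition at a geometric point. -/
theorem nodalAt_iff_of_point (K : Type u) [Field K] [IsAlgClosed K] [Algebra (S.residueField (f (a p))) K]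
    (z : (Curv2.bc (S.residueField (f (a p))) (f.fiber (f (a p))) K : Scheme.{u}))
    (hz : Curv2.bcFst (S.residueField (f (a p))) (f.fiber (f (a p))) K z = f.asFiber (a p)) :
    NodalAt f (a p) ↔ _root_.IsReduced ((Curv2.bc (S.residueField (f (a p))) (f.fiber (f (a p))) K).presheaf.stalk z) ∧ p ∉ bad R A := by
  let F := f.fiber (f (a p))
  let κ := S.residueField (f (a p))
  letI : (Curv2.bc κ F K).Over (Spec (CommRingCat.of K)) := ⟨Curv2.bcSnd κ F K⟩
  haveI : LocallyOfFinitePresentation (f.fiberToSpecResidueField (f (a p))) :=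
    MorphismProperty.pullback_snd _ _ inferInstance
  haveI : LocallyOfFiniteType (F ↘ Spec (CommRingCat.of κ)) :=
    inferInstanceAs (LocallyOfFiniteType (f.fiberToSpecResidueField (f (a p))))
  haveI : LocallyOfFiniteType (Curv2.bcSnd κ F K) := MorphismProperty.pullback_snd _ _ inferInstance
  haveI : LocallyOfFiniteType (Curv2.bc κ F K ↘ Spec (CommRingCat.of K)) := ‹_›
  haveI : LocallyOfFinitePresentation (Curv2.bc κ F K ↘ Spec (CommRingCat.of K)) := inferInstance
  have sq := IsPullback.of_hasPullback (F ↘ Spec (CommRingCat.of κ)) (Spec.map (CommRingCat.ofHom (algebraMap κ K)))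
  have hZ := (pure_iff_bc (k := κ) (K := K) (Z := F) (Z' := Curv2.bc κ F K) (Curv2.bcFst κ F K) sq 1).2 hfib
  have hdim := isClosed_of_pure_one (k := κ) (Z := F) hfib
  obtain ⟨_, c, q, _, rfl, hc, hqp⟩ := exists_geometric_chart f a b w p K z hz
  haveI : Algebra.FinitePresentation R A := H17.LocusBC.finitePresentation_of_chart f a b w
  have hbad : q ∈ bad K (K ⊗[R] A) ↔ p ∈ bad R A := by
    letI : Algebra A (K ⊗[R] A) := Algebra.TensorProduct.rightAlgebra
    rw [mem_bad_baseChange R A K (K ⊗[R] A), ← hqp]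
    rfl
  have hnode : Curv2.IsNode κ F (f.asFiber (a p)) ↔ IsClosed ({c q} : Set (Curv2.bc κ F K)) ∧
      (letI := Curv2.stalkAlgebra K (Curv2.bc κ F K) (c q);
        Curv2.IsOrdDoublePt K ((Curv2.bc κ F K).presheaf.stalk (c q))) := by
    rw [← hz]
    exact isNode_iff_point hdim K (c q)
  have hsm : a p ∈ f.smoothLocus ↔ c q ∈ (Curv2.bc κ F K ↘ Spec (CommRingCat.of K)).smoothLocus := by
    have hfi : IsPullback (f.fiberι (f (a p))) (f.fiberToSpecResidueField (f (a p))) f
      (S.fromSpecResidueField (f (a p))) := IsPullback.of_hasPullback _ _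
    constructor
    · intro h
      have h1 : f.asFiber (a p) ∈ (f.fiberToSpecResidueField (f (a p))).smoothLocus := by
        refine H17.LocusBC.preimage_smoothLocus_le hfi ?_
        show f.fiberι _ (f.asFiber (a p)) ∈ f.smoothLocus
        rwa [f.fiberι_asFiber]
      refine H17.LocusBC.preimage_smoothLocus_le sq ?_
      show Curv2.bcFst κ F K (c q) ∈ (F ↘ Spec (CommRingCat.of κ)).smoothLocus
      rw [hz]; exact h1
    · intro h
      haveI : Flat (Spec.map (CommRingCat.ofHom (algebraMap κ K))) := by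
        rw [HasRingHomProperty.Spec_iff (P := @Flat)]
        exact RingHom.flat_algebraMap_iff.2 inferInstance
      refine H17.LocusBC.mem_smoothLocus_of_flat_of_fiber f (a p) (Flat.stalkMap f (a p)) ?_
      have h2 := H17.LocusBC.mem_smoothLocus_of_flat_baseChange sq (c q) h
      exact (congrArg (· ∈ (F ↘ Spec (CommRingCat.of κ)).smoothLocus) hz).mp h2
  rw [NodalAt, hsm]
  refine (or_congr_right hnode).trans ?_
  rw [smooth_or_ord_iff (K := K) (Z := Curv2.bc κ F K) hZ c (show c ≫ (Curv2.bc κ F K ↘ Spec (CommRingCat.of K)) = _ from hc) q, hbad]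

include w hfib in
/-- Smooth points and nodes: geometrically reduced fibre and unramified singular scheme. -/
theorem nodalAt_iff : NodalAt f (a p) ↔ a p ∈ H06GeomRed.Locus f ∧ p ∉ bad R A := by
  let F := f.fiber (f (a p))
  let κ := S.residueField (f (a p))
  constructor
  · intro hN
    have hgood : ∀ (L : Type u) [Field L] [IsAlgClosed L] [Algebra κ L] (z : (Curv2.bc κ F L : Scheme.{u})),
        Curv2.bcFst κ F L z = f.asFiber (a p) →
          _root_.IsReduced ((Curv2.bc κ F L).presheaf.stalk z) ∧ p ∉ bad R A :=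
      fun L _ _ _ z hz => (nodalAt_iff_of_point f a b w p hfib L z hz).1 hN
    haveI : Surjective (Curv2.bcFst κ F (AlgebraicClosure κ)) :=
      MorphismProperty.pullback_fst _ _ ⟨fun t => ⟨IsLocalRing.closedPoint _, Subsingleton.elim (α := PrimeSpectrum κ) _ _⟩⟩
    obtain ⟨z₀, hz₀⟩ := (Curv2.bcFst κ F (AlgebraicClosure κ)).surjective (f.asFiber (a p))
    refine ⟨?_, (hgood (AlgebraicClosure κ) z₀ hz₀).2⟩
    show FBase.IsGeomReducedAt (f.fiberToSpecResidueField (f (a p))) (f.asFiber (a p))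
    intro K' _ hK' u hu
    letI : Algebra κ K' := hK'
    let L := AlgebraicClosure K'
    letI : (Curv2.bc κ F K').Over (Spec (CommRingCat.of K')) := ⟨Curv2.bcSnd κ F K'⟩
    obtain ⟨Ψ, _, hΨ₁, -⟩ := exists_bc_tower κ K' L F
    haveI : Surjective (Curv2.bcFst K' (Curv2.bc κ F K') L) :=
      MorphismProperty.pullback_fst _ _ ⟨fun t => ⟨IsLocalRing.closedPoint _, Subsingleton.elim (α := PrimeSpectrum K') _ _⟩⟩
    haveI : Flat (Curv2.bcFst K' (Curv2.bc κ F K') L) := by
      refine MorphismProperty.pullback_fst _ _ ?_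
      rw [HasRingHomProperty.Spec_iff (P := @Flat)]
      exact RingHom.flat_algebraMap_iff.2 inferInstance
    obtain ⟨v, hv⟩ := (Curv2.bcFst K' (Curv2.bc κ F K') L).surjective u
    haveI hr := (hgood L (Ψ v) (by
      rw [← Scheme.Hom.comp_apply, hΨ₁, Scheme.Hom.comp_apply, hv]; exact hu)).1
    subst hv
    have hinj := H8Props.injective_of_flat_of_isLocalHom _
      (Flat.stalkMap (Curv2.bcFst K' (Curv2.bc κ F K') L) v)
    haveI : _root_.IsReduced ((Curv2.bc K' (Curv2.bc κ F K') L).presheaf.stalk v) :=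
      isReduced_of_injective (asIso (Ψ.stalkMap v)).commRingCatIsoToRingEquiv.symm
        (asIso (Ψ.stalkMap v)).commRingCatIsoToRingEquiv.symm.injective
    exact isReduced_of_injective _ hinj
  · rintro ⟨hL, hp⟩
    haveI : Surjective (Curv2.bcFst κ F (AlgebraicClosure κ)) :=
      MorphismProperty.pullback_fst _ _ ⟨fun t => ⟨IsLocalRing.closedPoint _, Subsingleton.elim (α := PrimeSpectrum κ) _ _⟩⟩
    obtain ⟨z₀, hz₀⟩ := (Curv2.bcFst κ F (AlgebraicClosure κ)).surjective (f.asFiber (a p))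
    letI hAlg : Algebra κ (AlgebraicClosure κ) := inferInstance
    exact (nodalAt_iff_of_point f a b w p hfib (AlgebraicClosure κ) z₀ hz₀).2 ⟨@hL (AlgebraicClosure κ) _ hAlg z₀ hz₀, hp⟩

end Family

/-- In a flat family of curves the smooth points and nodes of the fibres form an open set. -/
theorem isOpen_setOf_nodalAt {X S : Scheme.{u}} (f : X ⟶ S) [Flat f] [LocallyOfFinitePresentation f]
    (hfib : ∀ s : S, ∀ Z ∈ irreducibleComponents (↥(f.fiber s) : Type u), topologicalKrullDim Z = 1) :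
    IsOpen {x : X | NodalAt f x} := by
  refine isOpen_iff_forall_mem_open.2 fun x hx => ?_
  obtain ⟨V, hV, hxV, -⟩ := exists_isAffineOpen_mem_and_subset (x := f x) (U := (⊤ : S.Opens)) trivial
  obtain ⟨W, hW, hxW, hWle⟩ := exists_isAffineOpen_mem_and_subset (x := x) (U := f ⁻¹ᵁ V) hxV
  letI := (f.appLE V W hWle).hom.toAlgebra
  have w : Spec.map (CommRingCat.ofHom (algebraMap Γ(S, V) Γ(X, W))) ≫ hV.fromSpec = hW.fromSpec ≫ f :=
    IsAffineOpen.SpecMap_appLE_fromSpec f hV hW hWle
  haveI : Algebra.FinitePresentation Γ(S, V) Γ(X, W) := H17.LocusBC.finitePresentation_of_chart f hW.fromSpec hV.fromSpec w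
  refine ⟨hW.fromSpec '' ((hW.fromSpec ⁻¹' {y | (f.stalkMap y).hom.Flat ∧ y ∈ H06GeomRed.Locus f}) \
    SingLocus.bad Γ(S, V) Γ(X, W)), ?_, ?_, ?_⟩
  · rintro _ ⟨p, ⟨⟨-, hL⟩, hp⟩, rfl⟩
    exact (nodalAt_iff f hW.fromSpec hV.fromSpec w p (hfib _)).2 ⟨hL, hp⟩
  · exact hW.fromSpec.isOpenEmbedding.isOpenMap _
      (((H06GeomRed.isOpen_setOf_flat_and_mem_locus f).preimage hW.fromSpec.continuous).sdiff (SingLocus.isClosed_bad _ _))
  · obtain ⟨p, rfl⟩ : x ∈ Set.range hW.fromSpec := by rw [hW.range_fromSpec]; exact hxW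
    obtain ⟨hL, hp⟩ := (nodalAt_iff f hW.fromSpec hV.fromSpec w p (hfib _)).1 hx
    exact ⟨p, ⟨⟨Flat.stalkMap f _, hL⟩, hp⟩, rfl⟩

end Groth.Agent.H29Node
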