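import Groth.Agent.H29Node.NodalLocus
import Groth.Agent.H8Props.FlatFibreConst
import Groth.Agent.H8Props.FlatDepth
import Groth.Agent.H13CI.FibreOpen
import Groth.Agent.S7912
import Groth.Agent.S1592

/-!
# The largest open on which a morphism is a nodal family of curves

A morphism is a nodal family exactly if at every point the fibre has dimension one and is smooth or nodal; both
conditions descend along base change and spread out to neighbourhoods.
-/

set_option autoImplicit false
set_option linter.style.haveILetI false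

universe u

open CategoryTheory CategoryTheory.Limits AlgebraicGeometry TopologicalSpace IsLocalRing TensorProduct
open Groth.Agent.H8Props.FieldDim
open scoped Topology

namespace Groth.Agent.H29Node

/-- A reduced Noetherian local ring of dimension at most one is Cohen–Macaulay. -/
theorem isCM_of_isReduced_of_dim_le_one (R : Type u) [CommRing R] [IsLocalRing R] [IsNoetherianRing R]
    [_root_.IsReduced R] (h : ringKrullDim R ≤ 1) : LocCoh.IsCohenMacaulayLocalRing R := by
  by_cases h0 : ringKrullDim R = 0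
  · exact H13CI.isCM_of_dim_zero R h0
  have hm : maximalIdeal R ∉ minimalPrimes R := fun hm => h0 (le_antisymm ((Ring.krullDimLE_iff).1
    (Ring.KrullDimLE.mk₀ fun P hP => by
      have : P = maximalIdeal R := le_antisymm (IsLocalRing.le_maximalIdeal hP.ne_top)
        (hm.2 ⟨hP, bot_le⟩ (IsLocalRing.le_maximalIdeal hP.ne_top))
      rw [this]; infer_instance)) ringKrullDim_nonneg_of_nontrivial)
  obtain ⟨x, hx, hreg⟩ : ∃ x ∈ maximalIdeal R, IsSMulRegular R x := by
    by_contra hcon
    push Not at hcon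
    have hsub : (maximalIdeal R : Set R) ⊆ ⋃ P ∈ (minimalPrimes.finite_of_isNoetherianRing R).toFinset, ↑P := by
      intro x hx
      by_contra hxP
      simp only [Set.mem_iUnion, Set.Finite.mem_toFinset, SetLike.mem_coe, not_exists] at hxP
      refine hcon x hx fun a b hab => ?_
      have hn : a - b ∈ nilradical R := by
        rw [nilradical_eq_sInf, Submodule.mem_sInf]
        intro P hP
        haveI : Ideal.IsPrime P := hP
        obtain ⟨Q, hQ, hQP⟩ := Ideal.exists_minimalPrimes_le (I := (⊥ : Ideal R)) (J := (P : Ideal R)) bot_le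
        refine hQP ((hQ.1.1.mem_or_mem ?_).resolve_left (hxP Q hQ))
        have : x * (a - b) = 0 := by
          simp only [smul_eq_mul] at hab
          rw [mul_sub, hab, sub_self]
        rw [this]; exact Q.zero_mem
      exact sub_eq_zero.1 (IsNilpotent.eq_zero (mem_nilradical.1 hn))
    obtain ⟨P, hP, hle⟩ := (Ideal.subset_union_prime ⊥ ⊥ fun P hP _ _ =>
      (((minimalPrimes.finite_of_isNoetherianRing R).mem_toFinset).1 hP).1.1).1 hsub
    have hP' := ((minimalPrimes.finite_of_isNoetherianRing R).mem_toFinset).1 hP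
    exact hm (le_antisymm hle (IsLocalRing.le_maximalIdeal hP'.1.1.ne_top) ▸ hP')
  rw [H8Props.FlatDepth.isCM_iff_dim]
  refine le_antisymm (h.trans ?_) (H8Props.FlatDepth.depth_le_dim R)
  have : (1 : ℕ∞) ≤ LocCoh.depth R R := by
    rw [LocCoh.depth, LocCoh.idealDepth]
    split
    · exact le_top
    · refine le_iSup₂_of_le [x] ⟨?_, by simpa using hx⟩ (by simp)
      exact (RingTheory.Sequence.isWeaklyRegular_cons_iff R x []).2 ⟨hreg, RingTheory.Sequence.IsWeaklyRegular.nil R _⟩
  exact_mod_cast this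

variable {X S : Scheme.{u}}

/-- All components of all fibres are curves exactly if the fibre dimension is one at every point. -/
theorem pure_fibres_iff (f : X ⟶ S) [LocallyOfFiniteType f] :
    (∀ s : S, ∀ Z ∈ irreducibleComponents (↥(f.fiber s) : Type u), topologicalKrullDim Z = 1) ↔
      ∀ x, FlatMor.fibreDimAt f x = 1 := by
  constructor
  · intro h x
    haveI := locallyOfFiniteType_fiberToSpec f (f x)
    rw [← f.fiberι_asFiber x, fibreDimAt_eq_localDim f]
    exact localDim_eq_of_pure (k := S.residueField (f x)) (f.fiberToSpecResidueField (f x)) _ 1 (h _)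
  · intro h s Z hZ
    haveI := locallyOfFiniteType_fiberToSpec f s
    obtain ⟨η, rfl, hmax⟩ := mem_irreducibleComponents_iff hZ
    have h1 := (fibreDimAt_eq_localDim f η).symm.trans (h _)
    rw [localDim_of_maximal (k := S.residueField s) (f.fiberToSpecResidueField s) η hmax] at h1
    exact h1

/-- At a point, the nodal condition is that of the fibre. -/
theorem nodalAt_fiberι_iff (f : X ⟶ S) [Flat f] [LocallyOfFinitePresentation f] (s : S) (v : f.fiber s) :
    NodalAt f (f.fiberι s v) ↔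
      ((∃ U : (f.fiber s).Opens, v ∈ U ∧ Smooth (U.ι ≫ f.fiberToSpecResidueField s)) ∨
        @Curv2.IsNode (S.residueField s) _ (f.fiber s) ⟨f.fiberToSpecResidueField s⟩ v) := by
  have hs : f (f.fiberι s v) = s := by
    have h : f.fiberι s v ∈ Set.range (f.fiberι s) := ⟨v, rfl⟩
    rwa [f.range_fiberι] at h
  generalize hx : f.fiberι s v = x at hs ⊢
  subst hs
  obtain rfl : v = f.asFiber x := (f.fiberι (f x)).isEmbedding.injective (hx.trans (f.fiberι_asFiber x).symm)
  haveI : LocallyOfFinitePresentation (f.fiberToSpecResidueField (f x)) :=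
    MorphismProperty.pullback_snd _ _ inferInstance
  refine or_congr ?_ Iff.rfl
  rw [← H17.LocusBC.mem_smoothLocus_iff_exists]
  constructor
  · intro h
    refine H17.LocusBC.preimage_smoothLocus_le (IsPullback.of_hasPullback f (S.fromSpecResidueField (f x))) ?_
    show f.fiberι _ (f.asFiber x) ∈ f.smoothLocus
    rwa [f.fiberι_asFiber]
  · exact H17.LocusBC.mem_smoothLocus_of_flat_of_fiber f x (Flat.stalkMap f x)

/-- Nodal families, pointwise. -/
theorem isNodalFamily_iff (f : X ⟶ S) [Flat f] [LocallyOfFinitePresentation f] :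
    Curv2.IsNodalFamily f ↔ ∀ x, FlatMor.fibreDimAt f x = 1 ∧ NodalAt f x := by
  constructor
  · rintro ⟨-, -, h⟩ x
    have hp : ∀ s : S, ∀ Z ∈ irreducibleComponents (↥(f.fiber s) : Type u), topologicalKrullDim Z = 1 :=
      fun s => (h s).1
    refine ⟨(pure_fibres_iff f).1 hp x, ?_⟩
    haveI := locallyOfFiniteType_fiberToSpec f (f x)
    haveI : JacobsonSpace (f.fiber (f x)) := LocallyOfFiniteType.jacobsonSpace (f.fiberToSpecResidueField (f x))
    obtain ⟨v, hv, hvc⟩ := nonempty_inter_closedPoints (Z := closure ({f.asFiber x} : Set (f.fiber (f x))))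
      ⟨_, subset_closure rfl⟩ isClosed_closure.isLocallyClosed
    have hg := (nodalAt_fiberι_iff f (f x) v).2 ((h (f x)).2 v hvc)
    have hsp : x ⤳ f.fiberι (f x) v := by
      have := (specializes_iff_mem_closure.2 hv).map (f.fiberι (f x)).continuous
      rwa [f.fiberι_asFiber] at this
    exact hsp.mem_open (isOpen_setOf_nodalAt f hp) hg
  · intro h
    exact ⟨inferInstance, inferInstance, fun s => ⟨(pure_fibres_iff f).2 (fun x => (h x).1) s,
      fun v _ => (nodalAt_fiberι_iff f s v).1 (h _).2⟩⟩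

/-- A chart at a point inside a given open. -/
theorem exists_chart_in (f : X ⟶ S) (x : X) (O : X.Opens) (hx : x ∈ O) :
    ∃ (R A : Type u) (_ : CommRing R) (_ : CommRing A) (_ : Algebra R A) (a : Spec (CommRingCat.of A) ⟶ X)
      (b : Spec (CommRingCat.of R) ⟶ S) (p : PrimeSpectrum A), IsOpenImmersion a ∧ IsOpenImmersion b ∧
        a p = x ∧ Set.range a ⊆ O ∧ Spec.map (CommRingCat.ofHom (algebraMap R A)) ≫ b = a ≫ f := by
  obtain ⟨V, hV, hxV, -⟩ := exists_isAffineOpen_mem_and_subset (x := f x) (U := (⊤ : S.Opens)) trivial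
  obtain ⟨W, hW, hxW, hWle⟩ := exists_isAffineOpen_mem_and_subset (x := x) (U := O ⊓ f ⁻¹ᵁ V) ⟨hx, hxV⟩
  have e : W ≤ f ⁻¹ᵁ V := fun y hy => (hWle hy).2
  letI := (f.appLE V W e).hom.toAlgebra
  obtain ⟨p, hp⟩ : x ∈ Set.range hW.fromSpec := by rw [hW.range_fromSpec]; exact hxW
  exact ⟨Γ(S, V), Γ(X, W), inferInstance, inferInstance, inferInstance, hW.fromSpec, hV.fromSpec, p,
    inferInstance, inferInstance, hp, by rw [hW.range_fromSpec]; exact fun y hy => (hWle hy).1,
    IsAffineOpen.SpecMap_appLE_fromSpec f hV hW e⟩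

/-- The nodal condition is local on the source. -/
theorem nodalAt_openImmersion_comp {Y : Scheme.{u}} (j : Y ⟶ X) [IsOpenImmersion j] (f : X ⟶ S) [Flat f]
    [LocallyOfFinitePresentation f] (hY : ∀ y, FlatMor.fibreDimAt (j ≫ f) y = 1)
    (hX : ∀ x, FlatMor.fibreDimAt f x = 1) (y : Y) : NodalAt (j ≫ f) y ↔ NodalAt f (j y) := by
  obtain ⟨R, A, _, _, _, a, b, p, _, _, rfl, -, w⟩ := exists_chart_in (j ≫ f) y ⊤ trivial
  rw [nodalAt_iff (j ≫ f) a b w p ((pure_fibres_iff _).2 hY _),
    show j (a p) = (a ≫ j) p from rfl,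
    nodalAt_iff f (a ≫ j) b (by rw [w, Category.assoc]) p ((pure_fibres_iff _).2 hX _),
    H06GeomRed.mem_locus_openImmersion_comp]
  rfl

/-- A point of a fibre of dimension one where the fibre is reduced: the dimension is one nearby. -/
theorem eventually_fibreDimAt_eq_one (f : X ⟶ S) [Flat f] [LocallyOfFinitePresentation f] (x : X)
    (hd : FlatMor.fibreDimAt f x = 1) (hL : x ∈ H06GeomRed.Locus f) :
    ∀ᶠ y in 𝓝 x, FlatMor.fibreDimAt f y = 1 := by
  haveI := locallyOfFiniteType_fiberToSpec f (f x)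
  haveI := LocallyOfFiniteType.isLocallyNoetherian (f.fiberToSpecResidueField (f x))
  haveI : _root_.IsReduced ((f.fiber (f x)).presheaf.stalk (f.asFiber x)) :=
    (H06GeomRed.mem_locus_iff f x).1 hL (S.residueField (f x)) (S.fromSpecResidueField (f x)) (f.asFiber x)
      (f.fiberι_asFiber x)
  have hdim : ringKrullDim ((f.fiber (f x)).presheaf.stalk (f.asFiber x)) ≤ 1 := by
    have h1 := localDim_eq_stalk_add_cdim (k := S.residueField (f x)) (f.fiberToSpecResidueField (f x)) (f.asFiber x)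
    rw [← fibreDimAt_eq_localDim f, f.fiberι_asFiber, hd] at h1
    haveI : Nonempty (IrreducibleCloseds (closure ({f.asFiber x} : Set (f.fiber (f x))))) :=
      ⟨⟨closure {⟨f.asFiber x, subset_closure rfl⟩}, isIrreducible_singleton.closure, isClosed_closure⟩⟩
    have h0 : (0 : WithBot ℕ∞) ≤ cdim (f.asFiber x) := Order.krullDim_nonneg
    calc _ ≤ ringKrullDim ((f.fiber (f x)).presheaf.stalk (f.asFiber x)) + cdim (f.asFiber x) :=
          le_add_of_nonneg_right h0
      _ = _ := h1.symm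
  filter_upwards [eventually_fibreDimAt_eq f x (isCM_of_isReduced_of_dim_le_one _ hdim)] with y hy
  rw [hy, hd]

/-- A point below a nodal point of a base change has a nodal neighbourhood. -/
theorem exists_nodal_nhd (f : X ⟶ S) [Flat f] [LocallyOfFinitePresentation f] {S' : Scheme.{u}} (g : S' ⟶ S)
    (V : (pullback f g).Opens) (hV : Curv2.IsNodalFamily (V.ι ≫ pullback.snd f g)) {x' : ↥(pullback f g)}
    (hx' : x' ∈ V) :
    ∃ O : X.Opens, pullback.fst f g x' ∈ O ∧ Curv2.IsNodalFamily (O.ι ≫ f) := by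
  haveI : Flat (pullback.snd f g) := MorphismProperty.pullback_snd _ _ inferInstance
  haveI : LocallyOfFinitePresentation (pullback.snd f g) := MorphismProperty.pullback_snd _ _ inferInstance
  have hV' := (isNodalFamily_iff (V.ι ≫ pullback.snd f g)).1 hV
  have hd : FlatMor.fibreDimAt f (pullback.fst f g x') = 1 := by
    rw [← fibreDimAt_baseChange f (IsPullback.of_hasPullback f g) x',
      show x' = V.ι ⟨x', hx'⟩ from rfl, ← fibreDimAt_openImmersion_comp V.ι (pullback.snd f g)]
    exact (hV' _).1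
  have hL : pullback.fst f g x' ∈ H06GeomRed.Locus f := by
    obtain ⟨R, A, _, _, _, a, b, p, _, _, hp, -, w⟩ := exists_chart_in (V.ι ≫ pullback.snd f g) ⟨x', hx'⟩ ⊤ trivial
    have h1 := ((nodalAt_iff _ a b w p ((pure_fibres_iff _).2 (fun y => (hV' y).1) _)).1 (hp ▸ (hV' ⟨x', hx'⟩).2)).1
    rw [hp, H06GeomRed.mem_locus_openImmersion_comp] at h1
    exact (H06GeomRed.preimage_locus (IsPullback.of_hasPullback f g)).ge h1
  obtain ⟨W, hW1, hWo, hxW⟩ := eventually_nhds_iff.1 (eventually_fibreDimAt_eq_one f _ hd hL)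
  let Wo : X.Opens := ⟨W, hWo⟩
  let gW := Wo.ι ≫ f
  have hdW : ∀ w, FlatMor.fibreDimAt gW w = 1 := fun w => by
    rw [fibreDimAt_openImmersion_comp]; exact hW1 _ w.2
  have hG := isOpen_setOf_nodalAt gW ((pure_fibres_iff gW).2 hdW)
  let G : (Wo : Scheme.{u}).Opens := ⟨_, hG⟩
  have hxG : (⟨pullback.fst f g x', hxW⟩ : Wo) ∈ G := by
    obtain ⟨R, A, _, _, _, a, b, p, _, _, hp, -, w⟩ := exists_chart_in gW ⟨pullback.fst f g x', hxW⟩ ⊤ trivial
    refine hp ▸ (nodalAt_iff gW a b w p ((pure_fibres_iff gW).2 hdW _)).2 ⟨?_, ?_⟩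
    · rw [hp, H06GeomRed.mem_locus_openImmersion_comp]; exact hL
    -- an affine piece of the base change around `x'`
    have hpf : f (pullback.fst f g x') = b (Spec.map (CommRingCat.ofHom (algebraMap R A)) p) := by
      rw [← Scheme.Hom.comp_apply (f := Spec.map (CommRingCat.ofHom (algebraMap R A))) (g := b), w,
        Scheme.Hom.comp_apply, hp]
      rfl
    obtain ⟨V', hV'', hxV', hle⟩ := exists_isAffineOpen_mem_and_subset (x := pullback.snd f g x')
      (U := g ⁻¹ᵁ b.opensRange) ⟨Spec.map (CommRingCat.ofHom (algebraMap R A)) p, by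
        rw [← Scheme.Hom.comp_apply (f := pullback.snd f g) (g := g), ← pullback.condition, Scheme.Hom.comp_apply, hpf]⟩
    obtain ⟨h₀, hh₀⟩ : ∃ h₀ : Spec (CommRingCat.of Γ(S', V')) ⟶ Spec (CommRingCat.of R), h₀ ≫ b = hV''.fromSpec ≫ g :=
      ⟨IsOpenImmersion.lift b (hV''.fromSpec ≫ g) (by
        rintro _ ⟨t, rfl⟩
        exact hle (hV''.range_fromSpec.le ⟨t, rfl⟩)), IsOpenImmersion.lift_fac _ _ _⟩
    obtain ⟨ρ, rfl⟩ := Spec.map_surjective h₀
    letI : Algebra R Γ(S', V') := ρ.hom.toAlgebra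
    let P := pullback (pullback.snd f g) hV''.fromSpec
    obtain ⟨z, hz, -⟩ := Scheme.Pullback.exists_preimage_pullback (f := pullback.snd f g) (g := hV''.fromSpec) x'
      (hV''.primeIdealOf ⟨_, hxV'⟩) (hV''.fromSpec_primeIdealOf ⟨_, hxV'⟩).symm
    have hbig : IsPullback (pullback.fst (pullback.snd f g) hV''.fromSpec ≫ pullback.fst f g)
        (pullback.snd (pullback.snd f g) hV''.fromSpec) f
        (Spec.map (CommRingCat.ofHom (algebraMap R Γ(S', V'))) ≫ b) := by
      rw [show Spec.map (CommRingCat.ofHom (algebraMap R Γ(S', V'))) ≫ b = hV''.fromSpec ≫ g from hh₀]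
      exact (IsPullback.of_hasPullback (pullback.snd f g) hV''.fromSpec).paste_horiz (IsPullback.of_hasPullback f g)
    obtain ⟨c, q, _, hcq, hc, hqp, hc₁⟩ := exists_chart f (a ≫ Wo.ι) b (by rw [w, Category.assoc]) _ _ hbig z p (by
      rw [Scheme.Hom.comp_apply, hz]; show _ = Wo.ι (a p); rw [hp]; rfl)
    let a' := c ≫ pullback.fst (pullback.snd f g) hV''.fromSpec
    have w' : Spec.map (CommRingCat.ofHom (algebraMap Γ(S', V') (Γ(S', V') ⊗[R] A))) ≫ hV''.fromSpec =
        a' ≫ pullback.snd f g := by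
      rw [Category.assoc, pullback.condition, ← Category.assoc, hc]
    have ha'q : a' q = x' := by
      show pullback.fst (pullback.snd f g) hV''.fromSpec (c q) = x'
      rw [hcq, hz]
    -- transport the nodal condition to the part of the base change over `Wo`
    let W' : (pullback f g).Opens := pullback.fst f g ⁻¹ᵁ Wo
    let g' := W'.ι ≫ pullback.snd f g
    have hd' : ∀ v, FlatMor.fibreDimAt g' v = 1 := fun v => by
      rw [fibreDimAt_openImmersion_comp, fibreDimAt_baseChange f (IsPullback.of_hasPullback f g)]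
      exact hW1 _ v.2
    have hn : NodalAt g' ⟨x', hxW⟩ := by
      let T : (pullback f g).Opens := V ⊓ W'
      let i₁ := (pullback f g).homOfLE (inf_le_left : T ≤ V)
      let i₂ := (pullback f g).homOfLE (inf_le_right : T ≤ W')
      have hi₁ : i₁ ≫ V.ι ≫ pullback.snd f g = T.ι ≫ pullback.snd f g := by
        rw [← Category.assoc, Scheme.homOfLE_ι]
      have hi₂ : i₂ ≫ g' = T.ι ≫ pullback.snd f g := by
        show i₂ ≫ W'.ι ≫ _ = _
        rw [← Category.assoc, Scheme.homOfLE_ι]
      haveI : Flat g' := inferInstanceAs (Flat (W'.ι ≫ _))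
      haveI : LocallyOfFinitePresentation g' := inferInstanceAs (LocallyOfFinitePresentation (W'.ι ≫ _))
      have hdT : ∀ t, FlatMor.fibreDimAt (i₂ ≫ g') t = 1 := fun t => by
        rw [fibreDimAt_openImmersion_comp]; exact hd' _
      have h2 := nodalAt_openImmersion_comp i₂ g' hdT hd' ⟨x', hx', hxW⟩
      have h1 := nodalAt_openImmersion_comp i₁ (V.ι ≫ pullback.snd f g)
        (fun t => by rw [fibreDimAt_openImmersion_comp]; exact (hV' _).1) (fun y => (hV' y).1) ⟨x', hx', hxW⟩
      have h3 : NodalAt (i₂ ≫ g') ⟨x', hx', hxW⟩ := by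
        have h4 := h1.2 (hV' _).2
        convert h4 using 1
        rw [hi₁, hi₂]
      have h5 : i₂ ⟨x', hx', hxW⟩ = (⟨x', hxW⟩ : W') := W'.ι.isOpenEmbedding.injective (by
        rw [← Scheme.Hom.comp_apply, Scheme.homOfLE_ι]; rfl)
      exact h5 ▸ h2.1 h3
    obtain ⟨a'', ha''⟩ : ∃ a'' : Spec (CommRingCat.of (Γ(S', V') ⊗[R] A)) ⟶ W', a'' ≫ W'.ι = a' := by
      refine ⟨IsOpenImmersion.lift W'.ι a' ?_, IsOpenImmersion.lift_fac _ _ _⟩
      rintro _ ⟨t, rfl⟩
      rw [Scheme.Opens.range_ι]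
      show pullback.fst f g (a' t) ∈ Wo
      have h5 : a' ≫ pullback.fst f g =
          Spec.map (CommRingCat.ofHom (Algebra.TensorProduct.includeRight : A →ₐ[R] Γ(S', V') ⊗[R] A).toRingHom) ≫
            a ≫ Wo.ι := by
        rw [Category.assoc]
        exact hc₁
      rw [← Scheme.Hom.comp_apply, h5, Scheme.Hom.comp_apply, Scheme.Hom.comp_apply]
      exact (a _).2
    haveI : IsOpenImmersion (a'' ≫ W'.ι) := by rw [ha'']; infer_instance
    haveI : IsOpenImmersion a'' := IsOpenImmersion.of_comp a'' W'.ι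
    have hq : a'' q = ⟨x', hxW⟩ := W'.ι.isOpenEmbedding.injective (by
      rw [← Scheme.Hom.comp_apply, ha'', ha'q]; rfl)
    haveI : Algebra.FinitePresentation R A := H17.LocusBC.finitePresentation_of_chart gW a b w
    have hbad := ((nodalAt_iff g' a'' hV''.fromSpec (by rw [w', ← ha'', Category.assoc]) q
      ((pure_fibres_iff g').2 hd' _)).1 (hq ▸ hn)).2
    intro hpb
    refine hbad ?_
    letI : Algebra A (Γ(S', V') ⊗[R] A) := Algebra.TensorProduct.rightAlgebra
    rw [SingLocus.mem_bad_baseChange R A Γ(S', V') (Γ(S', V') ⊗[R] A)]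
    exact hqp.symm ▸ hpb
  refine ⟨Wo.ι ''ᵁ G, ⟨⟨_, hxW⟩, hxG, rfl⟩, ?_⟩
  have h6 : Curv2.IsNodalFamily (G.ι ≫ gW) := by
    refine (isNodalFamily_iff _).2 fun v => ?_
    have hd1 : ∀ v, FlatMor.fibreDimAt (G.ι ≫ gW) v = 1 := fun v => by
      rw [fibreDimAt_openImmersion_comp]; exact hdW _
    exact ⟨hd1 v, (nodalAt_openImmersion_comp G.ι gW hd1 hdW v).2 v.2⟩
  have h7 := S1592.result _ h6 (Wo.ι.isoImage G).inv
  rw [show (Wo.ι.isoImage G).inv ≫ G.ι ≫ gW = (Wo.ι ''ᵁ G).ι ≫ f by
    rw [← Category.assoc, ← Category.assoc]; simp] at h7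
  exact h7

/-- There is a largest open on which a flat morphism is a nodal family, compatibly with base change. -/
theorem exists_max_nodal (f : X ⟶ S) [Flat f] [LocallyOfFinitePresentation f] :
    ∃ U : X.Opens, (Curv2.IsNodalFamily (U.ι ≫ f) ∧ ∀ V : X.Opens, Curv2.IsNodalFamily (V.ι ≫ f) → V ≤ U) ∧
      ∀ (S' : Scheme.{u}) (g : S' ⟶ S),
        Curv2.IsNodalFamily ((pullback.fst f g ⁻¹ᵁ U).ι ≫ pullback.snd f g) ∧
        ∀ V : (pullback f g).Opens, Curv2.IsNodalFamily (V.ι ≫ pullback.snd f g) → V ≤ pullback.fst f g ⁻¹ᵁ U := by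
  let 𝒱 := {V : X.Opens // Curv2.IsNodalFamily (V.ι ≫ f)}
  let U : X.Opens := ⨆ V : 𝒱, V.1
  have hdU : ∀ y : U, FlatMor.fibreDimAt (U.ι ≫ f) y = 1 := fun y => by
    obtain ⟨V, hyV⟩ := Opens.mem_iSup.1 y.2
    rw [fibreDimAt_openImmersion_comp, show U.ι y = V.1.ι ⟨y.1, hyV⟩ from rfl, ← fibreDimAt_openImmersion_comp V.1.ι f]
    exact ((isNodalFamily_iff _).1 V.2 _).1
  have hU : Curv2.IsNodalFamily (U.ι ≫ f) := by
    refine (isNodalFamily_iff _).2 fun y => ⟨hdU y, ?_⟩
    obtain ⟨V, hyV⟩ := Opens.mem_iSup.1 y.2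
    let i := X.homOfLE (le_iSup (fun V : 𝒱 => V.1) V)
    have hi : i ≫ U.ι ≫ f = V.1.ι ≫ f := by rw [← Category.assoc, Scheme.homOfLE_ι]
    have h1 := nodalAt_openImmersion_comp i (U.ι ≫ f) (fun t => by
      rw [fibreDimAt_openImmersion_comp]; exact hdU _) hdU ⟨y.1, hyV⟩
    have h2 : NodalAt (i ≫ U.ι ≫ f) ⟨y.1, hyV⟩ := by
      convert ((isNodalFamily_iff _).1 V.2 ⟨y.1, hyV⟩).2 using 1
    have h3 := h1.1 h2
    convert h3 using 1
    exact U.ι.isOpenEmbedding.injective (by rw [← Scheme.Hom.comp_apply, Scheme.homOfLE_ι]; rfl)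
  refine ⟨U, ⟨hU, fun V hV => le_iSup (fun V : 𝒱 => V.1) ⟨V, hV⟩⟩, fun S' g => ⟨?_, fun V hV x' hx' => ?_⟩⟩
  · have hP : IsPullback (pullback.fst f g ∣_ U) ((pullback.fst f g ⁻¹ᵁ U).ι ≫ pullback.snd f g) (U.ι ≫ f) g :=
      (isPullback_morphismRestrict _ _).paste_vert (IsPullback.of_hasPullback f g)
    have h1 := S1592.result _ (S7912.result _ hU g) hP.isoPullback.hom
    rwa [hP.isoPullback_hom_snd] at h1
  · obtain ⟨O, hxO, hO⟩ := exists_nodal_nhd f g V hV hx'
    exact Opens.mem_iSup.2 ⟨⟨O, hO⟩, hxO⟩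

end Groth.Agent.H29Node
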