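import Groth.Agent.H29Node.NodalMax
import Groth.Agent.H13CI.Syntomic
import Groth.Agent.H13CI.SyntomicLocal
import Groth.Agent.H7Flat.CMSlice
import Groth.Agent.H02CA.PowerSeries
import Groth.Agent.H24Filt.PureCM
import Groth.Agent.H8Props.Devissage.LocalFibre
import Groth.Agent.S2063

/-!
# Nodal points and complete intersections

Where the singular scheme is unramified, a one-dimensional geometric fibre is reduced exactly if it is a
complete intersection; so a family is nodal exactly if it is syntomic of relative dimension one with unramified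
singular scheme.
-/

set_option autoImplicit false
set_option linter.style.haveILetI false

universe u

open CategoryTheory CategoryTheory.Limits AlgebraicGeometry TopologicalSpace IsLocalRing TensorProduct
open Groth.Agent.H8Props.FieldDim

namespace Groth.Agent.H29Node

open SingLocus

/-- An ordinary double point is a complete intersection. -/
theorem isCI_of_isOrdDoublePt {K B : Type u} [Field K] [CommRing B] [IsLocalRing B] [Algebra K B]
    (h : Curv2.IsOrdDoublePt K B) : Pi1.IsCompleteIntersection B := by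
  obtain ⟨e, -⟩ := h
  let P : MvPowerSeries (Fin 2) K := MvPowerSeries.X 0 * MvPowerSeries.X 1
  haveI : IsRegularLocalRing (MvPowerSeries (Fin 2) K) := H02CA.PS.isRegularLocalRing_fin 2
  have hm : P ∈ maximalIdeal (MvPowerSeries (Fin 2) K) := by
    rw [IsLocalRing.mem_maximalIdeal, mem_nonunits_iff, MvPowerSeries.isUnit_iff_constantCoeff]
    simp [P]
  have hP : P ≠ 0 := mul_ne_zero
    (fun h => by simpa [MvPowerSeries.coeff_X] using congrArg (MvPowerSeries.coeff (Finsupp.single (0 : Fin 2) 1)) h)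
    (fun h => by simpa [MvPowerSeries.coeff_X] using congrArg (MvPowerSeries.coeff (Finsupp.single (1 : Fin 2) 1)) h)
  haveI := H4Depth.isDomain_of_isRegularLocalRing (MvPowerSeries (Fin 2) K)
  refine ⟨MvPowerSeries (Fin 2) K, inferInstance, inferInstance, [P], by simpa using hm, ⟨?_, ?_⟩, ⟨e.trans ?_⟩⟩
  · exact (RingTheory.Sequence.isWeaklyRegular_cons_iff _ P []).2
      ⟨fun a b hab => mul_left_cancel₀ hP hab, RingTheory.Sequence.IsWeaklyRegular.nil _ _⟩
  · rw [ne_eq, smul_eq_mul, Ideal.mul_top, eq_comm, Ideal.ofList_singleton, Ideal.span_singleton_eq_top]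
    exact hm
  · exact Ideal.quotEquivOfEq (by congr 1; ext r; simp [P])

section ClosedField

variable {K : Type u} [Field K] [IsAlgClosed K] {Z : Scheme.{u}} [Z.Over (Spec (CommRingCat.of K))]
  [LocallyOfFiniteType (Z ↘ Spec (CommRingCat.of K))]
  (hZ : ∀ T ∈ irreducibleComponents Z, topologicalKrullDim T = 1)
  {A : Type u} [CommRing A] [Algebra K A] [Algebra.FiniteType K A]
  (c : Spec (CommRingCat.of A) ⟶ Z) [IsOpenImmersion c]
  (hc : c ≫ (Z ↘ Spec (CommRingCat.of K)) = Spec.map (CommRingCat.ofHom (algebraMap K A)))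

/-- At a non-closed point where the singular scheme is unramified, the differentials have rank at most one. -/
theorem fitt_not_le_of_not_isMaximal {q : PrimeSpectrum A} (hq : ¬ q.asIdeal.IsMaximal) (hbad : q ∉ bad K A) :
    ¬ fitt K A ≤ q.asIdeal := by
  intro hle
  haveI : IsJacobsonRing A := isJacobsonRing_of_finiteType (A := K) (B := A)
  haveI : Algebra.EssFiniteType K A := inferInstance
  obtain ⟨q₀, ⟨hq₀b, hq₀⟩, hq₀c⟩ :=
    nonempty_inter_closedPoints (Z := (bad K A)ᶜ ∩ closure ({q} : Set (PrimeSpectrum A)))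
      ⟨q, hbad, subset_closure rfl⟩
      ((isClosed_bad K A).isOpen_compl.isLocallyClosed.inter isClosed_closure.isLocallyClosed)
  have hmax : q₀.asIdeal.IsMaximal := (PrimeSpectrum.isClosed_singleton_iff_isMaximal q₀).1 hq₀c
  have hle' : q.asIdeal ≤ q₀.asIdeal :=
    (PrimeSpectrum.le_iff_specializes q q₀).2 (specializes_iff_mem_closure.2 hq₀)
  have hresA : ∀ a : A, ∃ t : K, a - algebraMap K A t ∈ q₀.asIdeal := fun a => by
    haveI := hmax
    letI := Ideal.Quotient.field q₀.asIdeal
    haveI : Module.Finite K (A ⧸ q₀.asIdeal) := finite_of_finite_type_of_isJacobsonRing K (A ⧸ q₀.asIdeal)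
    obtain ⟨t, ht⟩ := (IsAlgClosed.algebraMap_bijective_of_isIntegral (k := K) (K := A ⧸ q₀.asIdeal)).2
      (Ideal.Quotient.mk _ a)
    exact ⟨t, Ideal.Quotient.eq.1 ht.symm⟩
  let B := Localization.AtPrime q₀.asIdeal
  haveI : IsNoetherianRing B := IsLocalization.isNoetherianRing q₀.asIdeal.primeCompl _ (Algebra.FiniteType.isNoetherianRing K A)
  have hm := (notMem_bad_iff_le_fitt A q₀.asIdeal B (K := K) hmax hresA).1 hq₀b
  rw [fitt_localization A q₀.asIdeal B] at hm
  have h1 : q₀.asIdeal ≤ q.asIdeal := fun a ha => by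
    have h2 : algebraMap A B a ∈ maximalIdeal B := (IsLocalization.AtPrime.to_map_mem_maximal_iff B q₀.asIdeal a _).2 ha
    obtain ⟨⟨⟨i, hi⟩, s⟩, hs⟩ := (IsLocalization.mem_map_algebraMap_iff q₀.asIdeal.primeCompl B).1 (hm h2)
    rw [← map_mul] at hs
    obtain ⟨t, ht⟩ := (IsLocalization.eq_iff_exists q₀.asIdeal.primeCompl B).1 hs
    have h3 : (t : A) * (a * (s : A)) ∈ q.asIdeal := ht ▸ Ideal.mul_mem_left _ _ (hle hi)
    exact ((q.isPrime.mem_or_mem ((q.isPrime.mem_or_mem h3).resolve_left fun h => t.2 (hle' h)))).resolve_right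
      fun h => s.2 (hle' h)
  exact hq (le_antisymm hle' h1 ▸ hmax)

include hZ hc in
/-- Rank at most one differentials give smoothness. -/
theorem mem_smoothLocus_of_fitt_not_le {q : PrimeSpectrum A} (hF : ¬ fitt K A ≤ q.asIdeal) :
    c q ∈ (Z ↘ Spec (CommRingCat.of K)).smoothLocus := by
  haveI : LocallyOfFinitePresentation (Z ↘ Spec (CommRingCat.of K)) := inferInstance
  have hr := (H29Fitt.not_le_prime_iff_finrank_le 1 q.asIdeal).1 hF
  have hd : FlatMor.localDim (PrimeSpectrum A) q = 1 := by
    refine (H8Props.Devissage.localDim_openEmbedding c.isOpenEmbedding q).trans ?_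
    exact localDim_eq_of_pure (k := K) (Z ↘ Spec (CommRingCat.of K)) (c q) 1 hZ
  have hsm : Algebra.IsSmoothAt K q.asIdeal := (S2063.result q.asIdeal).2 (by rw [hd]; exact_mod_cast hr)
  haveI : Algebra.FinitePresentation K A := Algebra.FinitePresentation.of_finiteType.1 ‹_›
  obtain ⟨r, hr0, hr1⟩ := Algebra.IsSmoothAt.exists_notMem_smooth K q.asIdeal
  let j := Spec.map (CommRingCat.ofHom (algebraMap A (Localization.Away r)))
  haveI : IsOpenImmersion j := IsOpenImmersion.of_isLocalization r
  obtain ⟨t, rfl⟩ : q ∈ Set.range (PrimeSpectrum.comap (algebraMap A (Localization.Away r))) := by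
    rw [PrimeSpectrum.localization_away_comap_range (Localization.Away r) r]
    exact hr0
  have heq : (j ≫ c) ≫ (Z ↘ Spec (CommRingCat.of K)) =
      Spec.map (CommRingCat.ofHom (algebraMap K (Localization.Away r))) := by
    rw [Category.assoc, hc, ← Spec.map_comp, ← CommRingCat.ofHom_comp, ← IsScalarTower.algebraMap_eq]
  haveI : Smooth ((j ≫ c) ≫ (Z ↘ Spec (CommRingCat.of K))) := by
    rw [heq, HasRingHomProperty.Spec_iff (P := @Smooth)]
    exact RingHom.smooth_algebraMap.2 hr1
  show t ∈ (j ≫ c) ⁻¹ᵁ (Z ↘ Spec (CommRingCat.of K)).smoothLocus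
  rw [Scheme.Hom.preimage_smoothLocus_eq, Scheme.Hom.smoothLocus_eq_top]
  trivial

include hZ hc in
/-- Where the singular scheme is unramified, reduced is the same as complete intersection. -/
theorem isReduced_iff_isCI {q : PrimeSpectrum A} (hbad : q ∉ bad K A) :
    _root_.IsReduced (Z.presheaf.stalk (c q)) ↔ Pi1.IsCompleteIntersection (Z.presheaf.stalk (c q)) := by
  haveI : LocallyOfFinitePresentation (Z ↘ Spec (CommRingCat.of K)) := inferInstance
  haveI := LocallyOfFiniteType.isLocallyNoetherian (Z ↘ Spec (CommRingCat.of K))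
  have hsmooth : ∀ {q' : PrimeSpectrum A}, c q' ∈ (Z ↘ Spec (CommRingCat.of K)).smoothLocus →
      IsRegularLocalRing (Z.presheaf.stalk (c q')) := fun h => H22Alg.GeomRegularAt.regular_of_mem_smoothLocus K Z _ h
  constructor
  · intro hr
    rcases (smooth_or_ord_iff hZ c hc q).2 ⟨hr, hbad⟩ with hs | ⟨-, ho⟩
    · haveI := hsmooth hs
      exact H13CI.isCI_of_regular _
    · letI := Curv2.stalkAlgebra K Z (c q)
      exact isCI_of_isOrdDoublePt ho
  intro hci
  by_cases hmax : q.asIdeal.IsMaximal
  swap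
  · haveI := hsmooth (mem_smoothLocus_of_fitt_not_le hZ c hc (fitt_not_le_of_not_isMaximal hmax hbad))
    haveI := H4Depth.isDomain_of_isRegularLocalRing (Z.presheaf.stalk (c q))
    infer_instance
  let B := (Spec.structureSheaf A).presheaf.stalk q
  haveI : IsLocalization.AtPrime B q.asIdeal := StructureSheaf.IsLocalization.to_stalk A q
  haveI : IsLocalRing B := IsLocalization.AtPrime.isLocalRing B q.asIdeal
  let φ : Z.presheaf.stalk (c q) ≃+* B := (asIso (c.stalkMap q)).commRingCatIsoToRingEquiv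
  haveI : IsNoetherianRing B := isNoetherianRing_of_ringEquiv _ φ
  haveI hcm : LocCoh.IsCohenMacaulayLocalRing B :=
    haveI := H13CI.isCM_of_isCI _ hci
    H24Filt.PureCM.isCM_of_ringEquiv φ
  have hclZ : IsClosed ({c q} : Set Z) := by
    haveI : JacobsonSpace Z := LocallyOfFiniteType.jacobsonSpace (Z ↘ Spec (CommRingCat.of K))
    have hcl : IsClosed ({q} : Set (PrimeSpectrum A)) := (PrimeSpectrum.isClosed_singleton_iff_isMaximal q).2 hmax
    refine isClosed_singleton_of_isLocallyClosed_singleton ?_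
    rw [← Set.image_singleton (f := ⇑c)]
    exact hcl.isLocallyClosed.image c.isOpenEmbedding.isInducing c.isOpenEmbedding.isOpen_range.isLocallyClosed
  have hdim : ringKrullDim B = 1 := by
    rw [← ringKrullDim_eq_of_ringEquiv φ, ringKrullDim_stalk_of_pure_one (K := K) hZ hclZ]
  obtain ⟨x, hxm, hxr⟩ : ∃ x ∈ maximalIdeal B, IsSMulRegular B x := by
    obtain ⟨xs, hxs, hxm, hmin⟩ := H7Flat.CMSlice.exists_regular_sop B
    cases xs with
    | nil =>
      exfalso
      have h0 : ringKrullDim B ≤ 0 := (Ring.krullDimLE_iff).1 (Ring.KrullDimLE.mk₀ fun P hP => by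
        rw [hmin P hP (by simp)]; infer_instance)
      rw [hdim] at h0
      exact absurd h0 (not_le.2 (by exact_mod_cast zero_lt_one))
    | cons x xs => exact ⟨x, hxm x (by simp), ((RingTheory.Sequence.isWeaklyRegular_cons_iff B x xs).1 hxs).1⟩
  suffices hB : _root_.IsReduced B from isReduced_of_injective φ φ.injective
  refine ⟨fun a ha => ?_⟩
  obtain ⟨n, hn⟩ : x ∈ (Submodule.colon (⊥ : Submodule B B) ({a} : Set B)).radical := by
    rw [Ideal.radical_eq_sInf, Submodule.mem_sInf]
    rintro P ⟨hle, hP⟩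
    by_contra hxP
    haveI : Ideal.IsPrime P := hP
    let q' : PrimeSpectrum A := ⟨Ideal.comap (algebraMap A B) P, inferInstance⟩
    have hq' : ¬ q'.asIdeal.IsMaximal := fun h => by
      refine hxP ?_
      have h1 : q'.asIdeal = q.asIdeal := by
        refine h.eq_of_le hmax.ne_top fun a ha => ?_
        exact (IsLocalization.AtPrime.to_map_mem_maximal_iff B q.asIdeal a _).1 (IsLocalRing.le_maximalIdeal hP.ne_top ha)
      obtain ⟨⟨a₁, s⟩, hs⟩ := IsLocalization.surj q.asIdeal.primeCompl x
      refine (hP.mem_or_mem (show x * algebraMap A B s.1 ∈ P from ?_)).resolve_right fun hsP =>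
        s.2 (h1.le (show (s : A) ∈ q'.asIdeal from hsP))
      rw [hs]
      have h4 : algebraMap A B a₁ ∈ maximalIdeal B := hs ▸ Ideal.mul_mem_right _ _ hxm
      exact show a₁ ∈ q'.asIdeal from h1.ge ((IsLocalization.AtPrime.to_map_mem_maximal_iff B q.asIdeal a₁).1 h4)
    have hbad' : q' ∉ bad K A := fun hb => hbad <| by
      have hsp : q' ⤳ q := (PrimeSpectrum.le_iff_specializes q' q).1 fun a ha =>
        (IsLocalization.AtPrime.to_map_mem_maximal_iff B q.asIdeal a _).1 (IsLocalRing.le_maximalIdeal hP.ne_top ha)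
      exact hsp.mem_closed (isClosed_bad K A) hb
    haveI := hsmooth (mem_smoothLocus_of_fitt_not_le hZ c hc (fitt_not_le_of_not_isMaximal hq' hbad'))
    haveI := H4Depth.isDomain_of_isRegularLocalRing (Z.presheaf.stalk (c q'))
    let B' := (Spec.structureSheaf A).presheaf.stalk q'
    haveI : IsLocalization.AtPrime B' q'.asIdeal := StructureSheaf.IsLocalization.to_stalk A q'
    let φ' : Z.presheaf.stalk (c q') ≃+* B' := (asIso (c.stalkMap q')).commRingCatIsoToRingEquiv
    haveI : _root_.IsReduced B' := isReduced_of_injective φ'.symm φ'.symm.injective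
    obtain ⟨⟨a', s⟩, hs⟩ := IsLocalization.surj q.asIdeal.primeCompl a
    have hnil : IsNilpotent (algebraMap A B' a') := by
      obtain ⟨N, hN⟩ := ha
      have h2 : algebraMap A B (a' ^ N) = 0 := by rw [map_pow, ← hs, mul_pow, hN, zero_mul]
      obtain ⟨u, hu⟩ := (IsLocalization.map_eq_zero_iff q.asIdeal.primeCompl B _).1 h2
      refine ⟨N, ?_⟩
      rw [← map_pow]
      refine (IsLocalization.map_eq_zero_iff q'.asIdeal.primeCompl B' _).2 ⟨⟨u.1, fun h => ?_⟩, hu⟩
      exact hP.ne_top (Ideal.eq_top_of_isUnit_mem P h (IsLocalization.map_units B u))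
    obtain ⟨u, hu⟩ := (IsLocalization.map_eq_zero_iff q'.asIdeal.primeCompl B' _).1 hnil.eq_zero
    refine u.2 (hle (Submodule.mem_colon.2 fun y hy => ?_))
    rw [Set.mem_singleton_iff.1 hy, Submodule.mem_bot]
    refine (IsLocalization.map_units B s).mul_left_injective ?_
    simp only [smul_eq_mul, mul_assoc, hs, zero_mul, ← map_mul]
    rw [hu, map_zero]
  have h3 : x ^ n • a = 0 := (Submodule.mem_bot _).1 (Submodule.mem_colon.1 hn a rfl)
  exact (hxr.pow n) (h3.trans (smul_zero _).symm)

end ClosedField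

section Family

variable {X S : Scheme.{u}} (f : X ⟶ S) [Flat f] [LocallyOfFinitePresentation f] {R A : Type u} [CommRing R] [CommRing A]
  [Algebra R A] (a : Spec (CommRingCat.of A) ⟶ X) (b : Spec (CommRingCat.of R) ⟶ S) [IsOpenImmersion a] [IsOpenImmersion b]
  (w : Spec.map (CommRingCat.ofHom (algebraMap R A)) ≫ b = a ≫ f) (p : PrimeSpectrum A)
  (hfib : ∀ Z ∈ irreducibleComponents (↥(f.fiber (f (a p))) : Type u), topologicalKrullDim Z = 1)

include w hfib in
/-- Smooth points and nodes: complete intersection fibre and unramified singular scheme. -/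
theorem nodalAt_iff_isCI :
    NodalAt f (a p) ↔ Pi1.IsCompleteIntersection (CInt.fiberStalk f (a p)) ∧ p ∉ bad R A := by
  let F := f.fiber (f (a p))
  let κ := S.residueField (f (a p))
  let K := AlgebraicClosure κ
  letI hAlg : Algebra κ K := inferInstance
  letI : F.Over (Spec (CommRingCat.of κ)) := ⟨f.fiberToSpecResidueField (f (a p))⟩
  haveI : Surjective (Curv2.bcFst κ F K) :=
    MorphismProperty.pullback_fst _ _ ⟨fun t => ⟨IsLocalRing.closedPoint _, Subsingleton.elim (α := PrimeSpectrum κ) _ _⟩⟩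
  obtain ⟨z, hz⟩ := (Curv2.bcFst κ F K).surjective (f.asFiber (a p))
  letI : (Curv2.bc κ F K).Over (Spec (CommRingCat.of K)) := ⟨Curv2.bcSnd κ F K⟩
  haveI : LocallyOfFiniteType (F ↘ Spec (CommRingCat.of κ)) :=
    locallyOfFiniteType_fiberToSpec f (f (a p))
  haveI : LocallyOfFiniteType (Curv2.bcSnd κ F K) := MorphismProperty.pullback_snd _ _ inferInstance
  haveI : LocallyOfFiniteType (Curv2.bc κ F K ↘ Spec (CommRingCat.of K)) := ‹_›
  have sq := IsPullback.of_hasPullback (F ↘ Spec (CommRingCat.of κ)) (Spec.map (CommRingCat.ofHom (algebraMap κ K)))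
  have hZ := (pure_iff_bc (k := κ) (K := K) (Z := F) (Z' := Curv2.bc κ F K) (Curv2.bcFst κ F K) sq 1).2 hfib
  rw [nodalAt_iff_of_point f a b w p hfib K z hz]
  refine and_congr_left fun hp => ?_
  obtain ⟨_, c, q, _, rfl, hc, hqp⟩ := exists_geometric_chart f a b w p K z hz
  haveI : Algebra.FinitePresentation R A := H17.LocusBC.finitePresentation_of_chart f a b w
  have hq : q ∉ bad K (K ⊗[R] A) := fun hq => by
    letI : Algebra A (K ⊗[R] A) := Algebra.TensorProduct.rightAlgebra
    rw [mem_bad_baseChange R A K (K ⊗[R] A)] at hq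
    exact hp (hqp ▸ hq)
  refine (isReduced_iff_isCI hZ c (show c ≫ (Curv2.bc κ F K ↘ Spec (CommRingCat.of K)) = _ from hc) hq).trans
    ((H13CI.isCI_stalk_iff_baseChange (K := κ) (K' := K) (p := F ↘ Spec (CommRingCat.of κ)) sq (c q)).trans ?_)
  exact Iff.of_eq (congrArg (fun y : F => Pi1.IsCompleteIntersection (F.presheaf.stalk y)) hz)

end Family

end Groth.Agent.H29Node
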