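import Groth.Agent.H29Node.Family
import Mathlib.FieldTheory.IsAlgClosed.AlgebraicClosure
import Mathlib.AlgebraicGeometry.AlgClosed.Basic
import Mathlib.RingTheory.MvPowerSeries.Basic

/-!
# Nodes and finite separable extensions of the ground field
-/

set_option autoImplicit false
set_option linter.style.haveILetI false

universe u

open CategoryTheory CategoryTheory.Limits AlgebraicGeometry TopologicalSpace IsLocalRing

namespace Groth.Agent.H29Node

/-- The node ring only depends on the field up to isomorphism. -/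
theorem exists_node_equiv {K L : Type u} [Field K] [Field L] (e : K ≃+* L) :
    ∃ ν : (MvPowerSeries (Fin 2) K ⧸ Ideal.span {(MvPowerSeries.X 0 * MvPowerSeries.X 1 : MvPowerSeries (Fin 2) K)}) ≃+*
        (MvPowerSeries (Fin 2) L ⧸ Ideal.span {(MvPowerSeries.X 0 * MvPowerSeries.X 1 : MvPowerSeries (Fin 2) L)}),
      ∀ c : K, ν (Ideal.Quotient.mk _ (MvPowerSeries.C c)) = Ideal.Quotient.mk _ (MvPowerSeries.C (e c)) := by
  have h : ∀ {R S : Type u} [Field R] [Field S] (f : R ≃+* S) (z : MvPowerSeries (Fin 2) R),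
      MvPowerSeries.map f.symm.toRingHom (MvPowerSeries.map f.toRingHom z) = z := fun f z => by
    ext n
    simp
  let m : MvPowerSeries (Fin 2) K ≃+* MvPowerSeries (Fin 2) L :=
    RingEquiv.ofRingHom (MvPowerSeries.map e.toRingHom) (MvPowerSeries.map e.symm.toRingHom)
      (RingHom.ext fun z => h e.symm z) (RingHom.ext fun z => h e z)
  have hI : Ideal.span {(MvPowerSeries.X 0 * MvPowerSeries.X 1 : MvPowerSeries (Fin 2) L)} =
      (Ideal.span {(MvPowerSeries.X 0 * MvPowerSeries.X 1 : MvPowerSeries (Fin 2) K)}).map m.toRingHom := by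
    rw [Ideal.map_span, Set.image_singleton]
    congr 2
    show _ = MvPowerSeries.map e.toRingHom _
    rw [map_mul, MvPowerSeries.map_X, MvPowerSeries.map_X]
  refine ⟨Ideal.quotientEquiv _ _ m hI, fun c => ?_⟩
  rw [Ideal.quotientEquiv_mk]
  exact congrArg _ (MvPowerSeries.map_C e.toRingHom c)

/-- Ordinary double points along an isomorphism of local rings over an isomorphism of fields. -/
theorem isOrdDoublePt_congr {K L A B : Type u} [Field K] [Field L] [CommRing A] [CommRing B] [IsLocalRing A]
    [IsLocalRing B] [Algebra K A] [Algebra L B] (φ : A ≃+* B) (e : K ≃+* L)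
    (h : ∀ c, φ (algebraMap K A c) = algebraMap L B (e c)) :
    Curv2.IsOrdDoublePt K A ↔ Curv2.IsOrdDoublePt L B := by
  letI : Algebra A B := φ.toRingHom.toAlgebra
  haveI : IsLocalHom (algebraMap A B) :=
    ⟨fun a (ha : IsUnit (φ a)) => by simpa using ha.map φ.symm⟩
  haveI : Module.Flat A B := Module.Flat.of_linearEquiv
    (AlgEquiv.ofRingEquiv (f := φ) (fun _ => rfl) : A ≃ₐ[A] B).toLinearEquiv.symm
  obtain ⟨E, hE⟩ := exists_completion_equiv A B (by
      refine le_antisymm ?_ fun b hb => ?_
      · exact ((IsLocalRing.local_hom_TFAE (algebraMap A B)).out 0 2 rfl rfl).mp ‹_›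
      · rw [← φ.apply_symm_apply b]
        exact Ideal.mem_map_of_mem _ ((mem_maximalIdeal _).2 fun hu => (mem_maximalIdeal b).1 hb (by
          simpa using hu.map φ)))
    fun b => ⟨φ.symm b, by
      show b - φ (φ.symm b) ∈ _
      rw [φ.apply_symm_apply, sub_self]; exact zero_mem _⟩
  obtain ⟨ν, hν⟩ := exists_node_equiv e
  constructor
  · rintro ⟨e₀, he₀⟩
    refine ⟨E.symm.trans (e₀.trans ν), fun c => ?_⟩
    obtain ⟨c, rfl⟩ := e.surjective c
    show ν (e₀ (E.symm (algebraMap B _ (algebraMap L B (e c))))) = _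
    rw [← h, show algebraMap B (AdicCompletion (maximalIdeal B) B) (φ (algebraMap K A c)) =
      E (algebraMap A _ (algebraMap K A c)) from (hE _).symm, E.symm_apply_apply, he₀, hν]
  · rintro ⟨e₀, he₀⟩
    refine ⟨E.trans (e₀.trans ν.symm), fun c => ?_⟩
    show ν.symm (e₀ (E (algebraMap A _ (algebraMap K A c)))) = _
    rw [hE, show algebraMap A B (algebraMap K A c) = algebraMap L B (e c) from h c, he₀, ← hν, ν.symm_apply_apply]

variable {k k' : Type u} [Field k] [Field k'] [Algebra k k'] [FiniteDimensional k k'] [Algebra.IsSeparable k k']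
  {X : Scheme.{u}} [hX : X.Over (Spec (CommRingCat.of k'))] [LocallyOfFiniteType (X ↘ Spec (CommRingCat.of k'))]

/-- The geometric fibre over the big field is open in the one over the small field. -/
theorem exists_open_bc {str : X ⟶ Spec (CommRingCat.of k)}
    (hstr : (X ↘ Spec (CommRingCat.of k')) ≫ Spec.map (CommRingCat.ofHom (algebraMap k k')) = str)
    (K K' : Type u) [Field K] [Field K'] [Algebra k K] [Algebra k' K'] (e : K ≃+* K')
    (he : ∀ c, e (algebraMap k K c) = algebraMap k' K' (algebraMap k k' c)) :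
    ∃ j : Curv2.bc k' X K' ⟶ pullback str (Spec.map (CommRingCat.ofHom (algebraMap k K))), IsOpenImmersion j ∧
      j ≫ pullback.fst _ _ = Curv2.bcFst k' X K' ∧
      j ≫ pullback.snd _ _ = Curv2.bcSnd k' X K' ≫ Spec.map (CommRingCat.ofHom e.toRingHom) := by
  subst hstr
  let i := Spec.map (CommRingCat.ofHom (algebraMap k k'))
  let β := Spec.map (CommRingCat.ofHom (algebraMap k' K'))
  let f := X ↘ Spec (CommRingCat.of k')
  haveI : Etale i := by
    rw [HasRingHomProperty.Spec_iff (P := @Etale)]
    haveI : Algebra.FormallyEtale k k' := (Algebra.FormallyEtale.iff_isSeparable k k').2 inferInstance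
    haveI : Algebra.FinitePresentation k k' := Algebra.FinitePresentation.of_finiteType.1 inferInstance; exact RingHom.etale_algebraMap.2 (⟨inferInstance, inferInstance⟩ : Algebra.Etale k k')
  let m := pullback.map f β (f ≫ i) (β ≫ i) (𝟙 _) (𝟙 _) i (Category.id_comp _).symm (Category.id_comp _).symm
  haveI : IsOpenImmersion m :=
    MorphismProperty.of_isPullback (pullback_map_diagonal_isPullback f β i) inferInstance
  haveI : IsIso (CommRingCat.ofHom e.toRingHom) := (ConcreteCategory.isIso_iff_bijective _).2 e.bijective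
  have hb : β ≫ i = Spec.map (CommRingCat.ofHom e.toRingHom) ≫ Spec.map (CommRingCat.ofHom (algebraMap k K)) := by
    rw [← Spec.map_comp, ← Spec.map_comp]
    exact congrArg Spec.map (CommRingCat.hom_ext (RingHom.ext fun c => (he c).symm))
  let m' := pullback.map (f ≫ i) (β ≫ i) (f ≫ i) (Spec.map (CommRingCat.ofHom (algebraMap k K))) (𝟙 _)
    (Spec.map (CommRingCat.ofHom e.toRingHom)) (𝟙 _) (by simp) (by rw [Category.comp_id]; exact hb)
  haveI : IsIso m' := inferInstance
  refine ⟨m ≫ m', inferInstance, ?_, ?_⟩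
  · show (m ≫ m') ≫ pullback.fst _ _ = pullback.fst f β
    rw [Category.assoc, pullback.lift_fst, Category.comp_id, pullback.lift_fst, Category.comp_id]
  · show (m ≫ m') ≫ pullback.snd _ _ = pullback.snd f β ≫ _
    rw [Category.assoc, pullback.lift_snd, pullback.lift_snd_assoc, Category.comp_id]

/-- A node over a finite separable extension is a node over the small field, and conversely. -/
theorem isNode_iff_of_separable [X.Over (Spec (CommRingCat.of k))]
    (hstr : (X ↘ Spec (CommRingCat.of k')) ≫ Spec.map (CommRingCat.ofHom (algebraMap k k')) =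
      X ↘ Spec (CommRingCat.of k)) {x : X} (hx : IsClosed ({x} : Set X)) :
    Curv2.IsNode k' X x ↔ Curv2.IsNode k X x := by
  let K := AlgebraicClosure k
  let K' := AlgebraicClosure k'
  haveI : LocallyOfFiniteType (X ↘ Spec (CommRingCat.of k)) := by
    haveI : Etale (Spec.map (CommRingCat.ofHom (algebraMap k k'))) := by
      rw [HasRingHomProperty.Spec_iff (P := @Etale)]
      haveI : Algebra.FormallyEtale k k' := (Algebra.FormallyEtale.iff_isSeparable k k').2 inferInstance
      haveI : Algebra.FinitePresentation k k' := Algebra.FinitePresentation.of_finiteType.1 inferInstance; exact RingHom.etale_algebraMap.2 (⟨inferInstance, inferInstance⟩ : Algebra.Etale k k')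
    rw [← hstr]; infer_instance
  letI : (Curv2.bc k X K).Over (Spec (CommRingCat.of K)) := ⟨Curv2.bcSnd k X K⟩
  letI : (Curv2.bc k' X K').Over (Spec (CommRingCat.of K')) := ⟨Curv2.bcSnd k' X K'⟩
  -- comparison along an isomorphism of the two closures
  have key : ∀ (e : K ≃+* K') (_ : ∀ c, e (algebraMap k K c) = algebraMap k' K' (algebraMap k k' c)),
      ∃ j : Curv2.bc k' X K' ⟶ Curv2.bc k X K, j ≫ Curv2.bcFst k X K = Curv2.bcFst k' X K' ∧
        j ≫ Curv2.bcSnd k X K = Curv2.bcSnd k' X K' ≫ Spec.map (CommRingCat.ofHom e.toRingHom) ∧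
        IsOpenImmersion j ∧
        ∀ z, (letI := Curv2.stalkAlgebra K (Curv2.bc k X K) (j z); Curv2.IsOrdDoublePt K ((Curv2.bc k X K).presheaf.stalk (j z))) ↔
          (letI := Curv2.stalkAlgebra K' (Curv2.bc k' X K') z; Curv2.IsOrdDoublePt K' ((Curv2.bc k' X K').presheaf.stalk z)) := by
    intro e he
    obtain ⟨j, hj, hj₁, hj₂⟩ := exists_open_bc hstr K K' e he
    refine ⟨j, hj₁, hj₂, hj, fun z => ?_⟩
    haveI := hj
    letI := Curv2.stalkAlgebra K (Curv2.bc k X K) (j z)
    letI := Curv2.stalkAlgebra K' (Curv2.bc k' X K') z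
    refine isOrdDoublePt_congr (asIso (j.stalkMap z)).commRingCatIsoToRingEquiv e fun c => ?_
    show j.stalkMap z ((Curv2.bc k X K).presheaf.germ ⊤ (j z) trivial ((Curv2.bcSnd k X K).appTop
        ((Scheme.ΓSpecIso (CommRingCat.of K)).inv c))) =
      (Curv2.bc k' X K').presheaf.germ ⊤ z trivial ((Curv2.bcSnd k' X K').appTop
        ((Scheme.ΓSpecIso (CommRingCat.of K')).inv (e c)))
    rw [Scheme.Hom.germ_stalkMap_apply]
    refine congrArg ((Curv2.bc k' X K').presheaf.germ ⊤ z trivial) ?_
    have h1 := congrArg (fun φ : Curv2.bc k' X K' ⟶ Spec (CommRingCat.of K) =>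
      φ.appTop ((Scheme.ΓSpecIso (CommRingCat.of K)).inv c)) hj₂
    simp only [Scheme.Hom.comp_appTop, CommRingCat.comp_apply] at h1
    refine h1.trans (congrArg _ ?_)
    exact (ConcreteCategory.congr_hom (Scheme.ΓSpecIso_inv_naturality (CommRingCat.ofHom e.toRingHom)) c).symm
  constructor
  · rintro ⟨-, z, hz, hO⟩
    haveI : IsAlgClosure k K' := ⟨inferInstance, Algebra.IsAlgebraic.trans k k' K'⟩
    let σ : K ≃ₐ[k] K' := IsAlgClosure.equiv k K K'
    obtain ⟨j, hj₁, -, -, hj⟩ := key σ.toRingEquiv fun c =>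
      (σ.commutes c).trans (IsScalarTower.algebraMap_apply k k' K' c)
    exact ⟨hx, j z, by rw [← Scheme.Hom.comp_apply, hj₁]; exact hz, (hj z).2 hO⟩
  · rintro ⟨-, w, hw, hO⟩
    -- the embedding of `k'` singled out by `w`
    haveI : IsIntegralHom (Curv2.bcFst k X K) := by
      refine MorphismProperty.pullback_fst _ _ ?_
      rw [IsIntegralHom.SpecMap_iff]
      exact Algebra.IsIntegral.isIntegral
    haveI : LocallyOfFiniteType (Curv2.bcSnd k X K) := MorphismProperty.pullback_snd _ _ inferInstance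
    have hwc : IsClosed ({w} : Set (Curv2.bc k X K)) := isClosed_of_isIntegralHom _ (hw.symm ▸ hx)
    obtain ⟨⟨t, ht⟩, htw⟩ := (pointEquivClosedPoint (Curv2.bcSnd k X K)).surjective ⟨w, hwc⟩
    let φ : CommRingCat.of k' ⟶ CommRingCat.of K :=
      Spec.preimage (t ≫ Curv2.bcFst k X K ≫ (X ↘ Spec (CommRingCat.of k')))
    have hφ : ∀ c, φ.hom (algebraMap k k' c) = algebraMap k K c := fun c => by
      refine congrArg (fun ψ : CommRingCat.of k ⟶ CommRingCat.of K => ψ.hom c) (Spec.map_injective (a₁ := CommRingCat.ofHom (algebraMap k k') ≫ φ) (a₂ := CommRingCat.ofHom (algebraMap k K)) ?_)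
      rw [Spec.map_comp, Spec.map_preimage, Category.assoc, Category.assoc, hstr, pullback.condition,
        ← Category.assoc]
      erw [ht]
      exact Category.id_comp _
    letI : Algebra k' K := φ.hom.toAlgebra
    haveI : IsScalarTower k k' K := IsScalarTower.of_algebraMap_eq fun c => (hφ c).symm
    haveI : IsAlgClosure k' K := ⟨inferInstance, Algebra.IsAlgebraic.tower_top (K := k) k'⟩
    let σ : K ≃ₐ[k'] K' := IsAlgClosure.equiv k' K K'
    obtain ⟨j, hj₁, hj₂, -, hj⟩ := key σ.toRingEquiv fun c => by rw [← hφ]; exact σ.commutes _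
    haveI : IsIso (CommRingCat.ofHom σ.toRingEquiv.toRingHom) :=
      (ConcreteCategory.isIso_iff_bijective _).2 σ.bijective
    let a := inv (Spec.map (CommRingCat.ofHom σ.toRingEquiv.toRingHom))
    let t' : Spec (CommRingCat.of K) ⟶ Curv2.bc k' X K' := pullback.lift (t ≫ Curv2.bcFst k X K) a (by
      rw [Category.assoc, IsIso.eq_inv_comp]
      show _ ≫ t ≫ _ = _
      rw [← Spec.map_preimage (t ≫ Curv2.bcFst k X K ≫ (X ↘ Spec (CommRingCat.of k'))), ← Spec.map_comp]
      exact congrArg Spec.map (CommRingCat.hom_ext (RingHom.ext fun c => σ.commutes c)))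
    have htj : t' ≫ j = t := by
      refine pullback.hom_ext ?_ ?_
      · rw [Category.assoc, hj₁]; exact pullback.lift_fst _ _ _
      · rw [Category.assoc, hj₂, ← Category.assoc, pullback.lift_snd, IsIso.inv_hom_id]
        exact ht.symm
    have hjw : j (t' (IsLocalRing.closedPoint K)) = w := by
      rw [← Scheme.Hom.comp_apply, htj]
      exact congrArg Subtype.val htw
    refine ⟨hx, t' (IsLocalRing.closedPoint K), ?_, (hj _).1 (hjw.symm ▸ hO)⟩
    rw [← hw, ← hjw]
    show _ = (j ≫ Curv2.bcFst k X K) _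
    rw [hj₁]

end Groth.Agent.H29Node
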