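import Groth.Agent.H29Node.BaseField

/-!
# Galois conjugate points over a node
-/

set_option autoImplicit false
set_option linter.style.haveILetI false

universe u

open CategoryTheory CategoryTheory.Limits AlgebraicGeometry TopologicalSpace IsLocalRing

namespace Groth.Agent.H29Node

/-- Ordinary double points along an open immersion which is semilinear for an isomorphism of fields. -/
theorem isOrdDoublePt_iff_of_openImmersion {K L : Type u} [Field K] [Field L] {W V : Scheme.{u}}
    [hW : W.Over (Spec (CommRingCat.of L))] [hV : V.Over (Spec (CommRingCat.of K))] (j : W ⟶ V) [IsOpenImmersion j]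
    (e : K ≃+* L)
    (hj : j ≫ (V ↘ Spec (CommRingCat.of K)) = (W ↘ Spec (CommRingCat.of L)) ≫ Spec.map (CommRingCat.ofHom e.toRingHom))
    (z : W) :
    (letI := Curv2.stalkAlgebra K V (j z); Curv2.IsOrdDoublePt K (V.presheaf.stalk (j z))) ↔
      (letI := Curv2.stalkAlgebra L W z; Curv2.IsOrdDoublePt L (W.presheaf.stalk z)) := by
  letI := Curv2.stalkAlgebra K V (j z)
  letI := Curv2.stalkAlgebra L W z
  refine isOrdDoublePt_congr (asIso (j.stalkMap z)).commRingCatIsoToRingEquiv e fun c => ?_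
  show j.stalkMap z (V.presheaf.germ ⊤ (j z) trivial ((V ↘ Spec (CommRingCat.of K)).appTop
      ((Scheme.ΓSpecIso (CommRingCat.of K)).inv c))) =
    W.presheaf.germ ⊤ z trivial ((W ↘ Spec (CommRingCat.of L)).appTop
      ((Scheme.ΓSpecIso (CommRingCat.of L)).inv (e c)))
  rw [Scheme.Hom.germ_stalkMap_apply]
  refine congrArg (W.presheaf.germ ⊤ z trivial) ?_
  have h1 := congrArg (fun φ : W ⟶ Spec (CommRingCat.of K) =>
    φ.appTop ((Scheme.ΓSpecIso (CommRingCat.of K)).inv c)) hj
  simp only [Scheme.Hom.comp_appTop, CommRingCat.comp_apply] at h1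
  refine h1.trans (congrArg _ ?_)
  exact (ConcreteCategory.congr_hom (Scheme.ΓSpecIso_inv_naturality (CommRingCat.ofHom e.toRingHom)) c).symm

/-- Two algebraic embeddings into an algebraically closed field are conjugate. -/
theorem exists_equiv_comp_eq {κ K : Type u} [Field κ] [Field K] [IsAlgClosed K] (α β : κ →+* K)
    (hα : α.IsIntegral) (hβ : β.IsIntegral) : ∃ σ : K ≃+* K, ∀ a, σ (α a) = β a := by
  have h : ∀ γ : κ →+* K, γ.IsIntegral →
      @IsAlgClosure κ K _ _ γ.toAlgebra _ := fun γ hγ => by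
    letI := γ.toAlgebra
    haveI : Algebra.IsIntegral κ K := ⟨hγ⟩
    exact ⟨inferInstance, Algebra.IsAlgebraic.mk fun z => (Algebra.IsIntegral.isIntegral z).isAlgebraic⟩
  have key : ∀ (L M : Type u) [Field L] [Field M] [Algebra κ L] [Algebra κ M] [IsAlgClosure κ L] [IsAlgClosure κ M],
      ∃ σ : L ≃+* M, ∀ a, σ (algebraMap κ L a) = algebraMap κ M a :=
    fun L M _ _ _ _ _ _ => ⟨(IsAlgClosure.equiv κ L M).toRingEquiv, fun a => (IsAlgClosure.equiv κ L M).commutes a⟩
  exact @key K K _ _ α.toAlgebra β.toAlgebra (h α hα) (h β hβ)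

/-- A closed point of the geometric fibre gives an embedding of the residue field. -/
theorem exists_embedding {k K : Type u} [Field k] [Field K] [IsAlgClosed K] [Algebra k K] [Algebra.IsAlgebraic k K]
    {X : Scheme.{u}} [X.Over (Spec (CommRingCat.of k))] [LocallyOfFiniteType (X ↘ Spec (CommRingCat.of k))]
    {x : X} (hx : IsClosed ({x} : Set X)) {w : (Curv2.bc k X K : Scheme.{u})} (hw : Curv2.bcFst k X K w = x) :
    ∃ (t : Spec (CommRingCat.of K) ⟶ Curv2.bc k X K) (α : X.residueField x ⟶ CommRingCat.of K),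
      t (IsLocalRing.closedPoint K) = w ∧ t ≫ Curv2.bcSnd k X K = 𝟙 _ ∧
      t ≫ Curv2.bcFst k X K = Spec.map α ≫ X.fromSpecResidueField x ∧
      α.hom.IsIntegral ∧
      ∀ c, α.hom ((Spec.preimage (X.fromSpecResidueField x ≫ (X ↘ Spec (CommRingCat.of k)))).hom c) =
        algebraMap k K c := by
  haveI : IsIntegralHom (Curv2.bcFst k X K) := by
    refine MorphismProperty.pullback_fst _ _ ?_
    rw [IsIntegralHom.SpecMap_iff]
    exact Algebra.IsIntegral.isIntegral
  haveI : LocallyOfFiniteType (Curv2.bcSnd k X K) := MorphismProperty.pullback_snd _ _ inferInstance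
  have hwc : IsClosed ({w} : Set (Curv2.bc k X K)) := isClosed_of_isIntegralHom _ (hw.symm ▸ hx)
  obtain ⟨⟨t, ht⟩, htw⟩ := (pointEquivClosedPoint (Curv2.bcSnd k X K)).surjective ⟨w, hwc⟩
  have htw' : t (IsLocalRing.closedPoint K) = w := congrArg Subtype.val htw
  let q := Scheme.SpecToEquivOfField K X (t ≫ Curv2.bcFst k X K)
  have hq : Spec.map q.2 ≫ X.fromSpecResidueField q.1 = t ≫ Curv2.bcFst k X K :=
    (Scheme.SpecToEquivOfField K X).symm_apply_apply _
  have hq1 : q.1 = x := by
    have := congrArg (fun φ : Spec (CommRingCat.of K) ⟶ X => φ (IsLocalRing.closedPoint K)) hq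
    simp only [Scheme.Hom.comp_apply, Scheme.fromSpecResidueField_apply] at this
    rw [this, htw', hw]
  refine ⟨t, (X.residueFieldCongr hq1.symm).hom ≫ q.2, htw', ht, ?_, ?_⟩
  · rw [Spec.map_comp, Category.assoc, Scheme.residueFieldCongr_fromSpecResidueField, hq]
  set α := (X.residueFieldCongr hq1.symm).hom ≫ q.2
  have hc : ∀ c, α.hom ((Spec.preimage (X.fromSpecResidueField x ≫ (X ↘ Spec (CommRingCat.of k)))).hom c) =
      algebraMap k K c := fun c => by
    refine congrArg (fun ψ : CommRingCat.of k ⟶ CommRingCat.of K => ψ.hom c)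
      (Spec.map_injective (a₁ := Spec.preimage _ ≫ α) (a₂ := CommRingCat.ofHom (algebraMap k K)) ?_)
    rw [Spec.map_comp, Spec.map_preimage, ← Category.assoc]
    rw [Spec.map_comp, Category.assoc (Spec.map _), Scheme.residueFieldCongr_fromSpecResidueField, hq,
      Category.assoc, pullback.condition, ← Category.assoc]
    erw [ht]
    exact Category.id_comp _
  refine ⟨fun z => ?_, hc⟩
  obtain ⟨p, hp, hpz⟩ := (Algebra.IsIntegral.isIntegral (R := k) z)
  refine ⟨p.map (Spec.preimage (X.fromSpecResidueField x ≫ (X ↘ Spec (CommRingCat.of k)))).hom, hp.map _, ?_⟩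
  rw [Polynomial.eval₂_map, RingHom.ext (f := α.hom.comp _) (g := algebraMap k K) hc]
  exact hpz

/-- All points over a node of the geometric fibre are ordinary double points. -/
theorem isOrdDoublePt_of_over {k : Type u} [Field k] {X : Scheme.{u}} [X.Over (Spec (CommRingCat.of k))]
    [LocallyOfFiniteType (X ↘ Spec (CommRingCat.of k))] {x : X} (hx : Curv2.IsNode k X x)
    (xb : (Curv2.bc k X (AlgebraicClosure k) : Scheme.{u})) (hxb : Curv2.bcFst k X (AlgebraicClosure k) xb = x) :
    @Curv2.IsOrdDoublePt (AlgebraicClosure k) _ ((Curv2.bc k X (AlgebraicClosure k)).presheaf.stalk xb) _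
      (@Curv2.stalkAlgebra (AlgebraicClosure k) _ (Curv2.bc k X (AlgebraicClosure k)) ⟨Curv2.bcSnd k X (AlgebraicClosure k)⟩ xb) _ := by
  obtain ⟨hxc, w, hw, hO⟩ := hx
  let K := AlgebraicClosure k
  letI : (Curv2.bc k X K).Over (Spec (CommRingCat.of K)) := ⟨Curv2.bcSnd k X K⟩
  obtain ⟨t₁, α₁, ht₁, hs₁, hf₁, hi₁, hc₁⟩ := exists_embedding (K := K) hxc hw
  obtain ⟨t₂, α₂, ht₂, hs₂, hf₂, hi₂, hc₂⟩ := exists_embedding (K := K) hxc hxb
  obtain ⟨σ, hσ⟩ := exists_equiv_comp_eq α₁.hom α₂.hom hi₁ hi₂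
  have hσk : ∀ c, σ (algebraMap k K c) = algebraMap k K c := fun c => by rw [← hc₁, hσ, hc₂, hc₁]
  let g := Spec.map (CommRingCat.ofHom (algebraMap k K))
  let f := X ↘ Spec (CommRingCat.of k)
  let s := Spec.map (CommRingCat.ofHom σ.toRingHom)
  let s' := Spec.map (CommRingCat.ofHom σ.symm.toRingHom)
  haveI : IsIso (CommRingCat.ofHom σ.symm.toRingHom) := (ConcreteCategory.isIso_iff_bijective _).2 σ.symm.bijective
  have hg : g = s' ≫ g := by
    rw [← Spec.map_comp]
    exact congrArg Spec.map (CommRingCat.hom_ext (RingHom.ext fun c => (σ.symm_apply_eq.2 (hσk c).symm).symm))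
  let j : Curv2.bc k X K ⟶ Curv2.bc k X K :=
    pullback.map f g f g (𝟙 _) s' (𝟙 _) (by simp) (by rw [Category.comp_id]; exact hg)
  haveI : IsIso j := inferInstanceAs (IsIso (pullback.map f g f g (𝟙 _) s' (𝟙 _) _ _))
  have hj₁ : j ≫ Curv2.bcFst k X K = Curv2.bcFst k X K := (pullback.lift_fst _ _ _).trans (Category.comp_id _)
  have hj₂ : j ≫ Curv2.bcSnd k X K = Curv2.bcSnd k X K ≫ s' := pullback.lift_snd _ _ _
  have hst : s ≫ t₁ ≫ j = t₂ := by
    refine pullback.hom_ext ?_ ?_
    · rw [Category.assoc, Category.assoc]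
      erw [hj₁, hf₁, hf₂]
      rw [← Category.assoc, ← Spec.map_comp]
      congr 2
      exact CommRingCat.hom_ext (RingHom.ext hσ)
    · rw [Category.assoc, Category.assoc]
      erw [hj₂, reassoc_of% hs₁, hs₂]
      rw [← Spec.map_comp]
      convert Spec.map_id (CommRingCat.of K) using 2
      exact CommRingCat.hom_ext (RingHom.ext fun c => σ.apply_symm_apply c)
  have hjw : j w = xb := by
    rw [← ht₁, ← ht₂, ← hst, Scheme.Hom.comp_apply, Scheme.Hom.comp_apply]
    exact congrArg (fun z => j (t₁ z)) (Subsingleton.elim _ _)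
  subst hjw
  exact (isOrdDoublePt_iff_of_openImmersion j σ.symm hj₂ w).2 hO

end Groth.Agent.H29Node
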