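import Groth.Agent.H29Node.Criterion
import Groth.Agent.H29Node.Galois
import Groth.Agent.H8Props.NilThickTor
import Groth.Agent.H22Alg.DimOneDiv
import Groth.Agent.H22Alg.GeomRegularAt
import Groth.Agent.H05EGA4.FieldSmooth
import Groth.Agent.H11Node.Geom
import Mathlib.RingTheory.Ideal.KrullsHeightTheorem

/-!
# Nodes and arbitrary extensions of the ground field
-/

set_option autoImplicit false
set_option linter.style.haveILetI false

universe u

open CategoryTheory CategoryTheory.Limits AlgebraicGeometry TopologicalSpace IsLocalRing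

namespace Groth.Agent.H29Node

/-- Evaluation at a rational point splits the constants. -/
theorem stalk_residue {K : Type u} [Field K] {X : Scheme.{u}} [hX : X.Over (Spec (CommRingCat.of K))]
    (t : Spec (CommRingCat.of K) ⟶ X) (ht : t ≫ (X ↘ Spec (CommRingCat.of K)) = 𝟙 _) :
    letI := Curv2.stalkAlgebra K X (t (IsLocalRing.closedPoint K))
    ∀ a : X.presheaf.stalk (t (IsLocalRing.closedPoint K)), ∃ c : K,
      a - algebraMap K _ c ∈ maximalIdeal (X.presheaf.stalk (t (IsLocalRing.closedPoint K))) := by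
  letI := Curv2.stalkAlgebra K X (t (IsLocalRing.closedPoint K))
  intro a
  let φ := Scheme.stalkClosedPointTo t
  have hφ : ∀ c : K, φ.hom (algebraMap K _ c) = c := fun c => by
    show φ (X.presheaf.germ ⊤ (t (IsLocalRing.closedPoint K)) trivial ((X ↘ Spec (CommRingCat.of K)).appTop
      ((Scheme.ΓSpecIso (CommRingCat.of K)).inv c))) = c
    have h1 := H8Props.FibreStalk.stalkClosedPointTo_comp_germ t (X ↘ Spec (CommRingCat.of K)) ⊤ trivial
      ((Scheme.ΓSpecIso (CommRingCat.of K)).inv c)
    refine h1.symm.trans ?_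
    have key : ∀ (g : Spec (CommRingCat.of K) ⟶ Spec (CommRingCat.of K)) (_ : g = 𝟙 _) (s : Γ(Spec (CommRingCat.of K), ⊤)),
        Scheme.stalkClosedPointTo g ((Spec (CommRingCat.of K)).presheaf.germ ⊤ (g (IsLocalRing.closedPoint K)) trivial s) =
          (Scheme.ΓSpecIso (CommRingCat.of K)).hom s := by
      rintro g rfl s
      have := congr($(Scheme.germ_stalkClosedPointTo (𝟙 (Spec (CommRingCat.of K))) ⊤ trivial) s)
      simp at this
      exact this
    refine (key _ ht _).trans ?_
    exact (ConcreteCategory.congr_hom (Scheme.ΓSpecIso (CommRingCat.of K)).inv_hom_id c)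
  refine ⟨φ a, fun hu => ?_⟩
  have h0 : φ.hom (a - algebraMap K _ (φ a)) = 0 := by rw [map_sub, hφ]; exact sub_self _
  exact (hu.map φ.hom).ne_zero h0

section Rational

variable {K L : Type u} [Field K] [Field L] [Algebra K L] {X : Scheme.{u}} [X.Over (Spec (CommRingCat.of K))]
  (t : Spec (CommRingCat.of K) ⟶ X) (ht : t ≫ (X ↘ Spec (CommRingCat.of K)) = 𝟙 _)
  (t' : Spec (CommRingCat.of L) ⟶ Curv2.bc K X L) (ht'₂ : t' ≫ Curv2.bcSnd K X L = 𝟙 _)
  (ht'₁ : t' ≫ Curv2.bcFst K X L = Spec.map (CommRingCat.ofHom (algebraMap K L)) ≫ t)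

include ht ht'₂ ht'₁ in
theorem isPullback_rational : IsPullback t' (Spec.map (CommRingCat.ofHom (algebraMap K L))) (Curv2.bcFst K X L) t := by
  have hr : IsPullback (Curv2.bcSnd K X L) (Curv2.bcFst K X L) (Spec.map (CommRingCat.ofHom (algebraMap K L)))
      (X ↘ Spec (CommRingCat.of K)) := (IsPullback.of_hasPullback _ _).flip
  refine IsPullback.of_right ?_ ht'₁ hr
  rw [ht'₂, ht]
  exact IsPullback.of_horiz_isIso ⟨by simp⟩

include ht ht'₂ ht'₁ in
/-- Ordinary double points at rational points are invariant under extension of the algebraically closed field. -/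
theorem isOrdDoublePt_iff_rational [IsAlgClosed K] [LocallyOfFiniteType (X ↘ Spec (CommRingCat.of K))] :
    (letI := Curv2.stalkAlgebra K X (t (IsLocalRing.closedPoint K));
      Curv2.IsOrdDoublePt K (X.presheaf.stalk (t (IsLocalRing.closedPoint K)))) ↔
    (letI : (Curv2.bc K X L).Over (Spec (CommRingCat.of L)) := ⟨Curv2.bcSnd K X L⟩;
      letI := Curv2.stalkAlgebra L (Curv2.bc K X L) (t' (IsLocalRing.closedPoint L));
      Curv2.IsOrdDoublePt L ((Curv2.bc K X L).presheaf.stalk (t' (IsLocalRing.closedPoint L)))) := by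
  letI : (Curv2.bc K X L).Over (Spec (CommRingCat.of L)) := ⟨Curv2.bcSnd K X L⟩
  haveI : IsClosedImmersion t := by
    haveI : IsImmersion (t ≫ (X ↘ Spec (CommRingCat.of K))) := by rw [ht]; infer_instance
    haveI := IsImmersion.of_comp t (X ↘ Spec (CommRingCat.of K))
    refine IsClosedImmersion.of_isPreimmersion t ?_
    have hc := (pointEquivClosedPoint (X ↘ Spec (CommRingCat.of K)) ⟨t, ht⟩).2
    have hr : Set.range t = ({t (IsLocalRing.closedPoint K)} : Set X) :=
      Set.eq_singleton_iff_unique_mem.2 ⟨⟨IsLocalRing.closedPoint K, rfl⟩, by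
        rintro _ ⟨a, rfl⟩; exact congrArg (fun z => t z) (Subsingleton.elim _ _)⟩
    rw [hr]
    exact hc
  haveI : LocallyOfFiniteType (Curv2.bcSnd K X L) := MorphismProperty.pullback_snd _ _ inferInstance
  haveI := LocallyOfFiniteType.isLocallyNoetherian (X ↘ Spec (CommRingCat.of K))
  haveI := LocallyOfFiniteType.isLocallyNoetherian (Curv2.bcSnd K X L)
  haveI : Flat (Curv2.bcFst K X L) := by
    refine MorphismProperty.pullback_fst _ _ ?_
    rw [HasRingHomProperty.Spec_iff (P := @Flat)]
    exact RingHom.flat_algebraMap_iff.2 inferInstance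
  have sq := isPullback_rational t ht t' ht'₂ ht'₁
  let w := t' (IsLocalRing.closedPoint L)
  let p := Curv2.bcFst K X L
  have hz : p w = t (IsLocalRing.closedPoint K) :=
    (H8Props.NilThick.base_eq sq (IsLocalRing.closedPoint L)).trans (congrArg (fun z => t z) (Subsingleton.elim _ _))
  rw [show (letI := Curv2.stalkAlgebra K X (t (IsLocalRing.closedPoint K));
      Curv2.IsOrdDoublePt K (X.presheaf.stalk (t (IsLocalRing.closedPoint K)))) ↔
    (letI := Curv2.stalkAlgebra K X (p w); Curv2.IsOrdDoublePt K (X.presheaf.stalk (p w))) by rw [hz]]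
  letI := Curv2.stalkAlgebra K X (p w)
  letI := Curv2.stalkAlgebra L (Curv2.bc K X L) w
  letI : Algebra (X.presheaf.stalk (p w)) ((Curv2.bc K X L).presheaf.stalk w) := (p.stalkMap w).hom.toAlgebra
  haveI : IsLocalHom (algebraMap (X.presheaf.stalk (p w)) ((Curv2.bc K X L).presheaf.stalk w)) :=
    inferInstanceAs (IsLocalHom (p.stalkMap w).hom)
  haveI : Module.Flat (X.presheaf.stalk (p w)) ((Curv2.bc K X L).presheaf.stalk w) :=
    RingHom.flat_algebraMap_iff.1 (Flat.stalkMap p w)
  refine isOrdDoublePt_iff_of_flat ?_ ?_ (stalk_residue t' ht'₂)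
  · refine le_antisymm (Ideal.map_le_iff_le_comap.2 fun a ha hu => ha ((isUnit_map_iff _ a).1 hu)) ?_
    haveI : IsClosedImmersion t' := MorphismProperty.of_isPullback sq.flip inferInstance
    have hker : maximalIdeal ((Curv2.bc K X L).presheaf.stalk w) ≤ RingHom.ker (t'.stalkMap (IsLocalRing.closedPoint L)).hom := by
      intro a ha
      rw [RingHom.mem_ker]
      have hm := (mem_maximalIdeal _).2 (map_nonunit (t'.stalkMap (IsLocalRing.closedPoint L)).hom a ha)
      rwa [IsLocalRing.isField_iff_maximalIdeal_eq.mp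
        (H8Props.FibreStalk.isField_stalk_Spec (CommRingCat.of L) (Field.toIsField L) _), Ideal.mem_bot] at hm
    rw [H8Props.NilThick.ker_stalkMap_eq sq] at hker
    refine hker.trans (Ideal.map_mono ?_)
    exact IsLocalRing.le_maximalIdeal (RingHom.ker_ne_top _)
  · rw [hz]
    exact stalk_residue t ht

end Rational

/-- An ordinary double point has dimension at most one. -/
theorem ringKrullDim_le_one_of_pair {A : Type u} [CommRing A] [IsLocalRing A] [IsNoetherianRing A] {x y : A}
    (h : IsNodePair x y) : ringKrullDim A ≤ 1 := by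
  have hle : maximalIdeal A ^ 2 ≤ Ideal.span {x + y} := by
    refine Submodule.le_of_le_smul_of_le_jacobson_bot (I := maximalIdeal A)
      (IsNoetherian.noetherian _) (IsLocalRing.maximalIdeal_le_jacobson _) ?_
    rw [smul_eq_mul, ← pow_succ']
    intro z hz
    obtain ⟨a, b, hab⟩ := h.decomp (n := 2) (by norm_num) hz
    rw [show z = (a * x + b * y) * (x + y) + ((z - a * x ^ 2 - b * y ^ 2) - (a + b) * (x * y)) by ring]
    exact Submodule.add_mem_sup (Ideal.mem_span_singleton'.2 ⟨_, rfl⟩) (sub_mem hab (Ideal.mul_mem_left _ _ h.mul))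
  rw [← IsLocalRing.maximalIdeal_height_eq_ringKrullDim]
  have hmin : maximalIdeal A ∈ (Ideal.span {x + y}).minimalPrimes := by
    refine ⟨⟨inferInstance, (Ideal.span_singleton_le_iff_mem _).2 (add_mem h.mem_left h.mem_right)⟩, fun q hq _ => ?_⟩
    intro z hz
    exact hq.1.mem_of_pow_mem 2 (hq.2 (hle (Ideal.pow_mem_pow hz 2)))
  exact_mod_cast Ideal.height_le_one_of_isPrincipal_of_mem_minimalPrimes _ _ hmin

/-- A regular local ring is not an ordinary double point. -/
theorem not_isNodePair_of_regular {A : Type u} [CommRing A] [IsRegularLocalRing A] {x y : A} :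
    ¬ IsNodePair x y := fun h => by
  obtain ⟨π, hπ⟩ := (H11Node.isPrincipal_maximalIdeal A (ringKrullDim_le_one_of_pair h)).principal
  have hπ' : maximalIdeal A = Ideal.span {π} := hπ
  have hπm : π ∈ maximalIdeal A := hπ'.ge (Ideal.mem_span_singleton_self π)
  obtain ⟨a, ha⟩ := Ideal.mem_span_singleton'.1 (hπ'.le h.mem_left)
  obtain ⟨b, hb⟩ := Ideal.mem_span_singleton'.1 (hπ'.le h.mem_right)
  obtain ⟨-, ha'⟩ := h.indep 1 le_rfl b (-a) (by
    rw [show b * x ^ 1 + -a * y ^ 1 = 0 by rw [← ha, ← hb]; ring]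
    exact zero_mem _)
  refine (h.indep 1 le_rfl 1 0 ?_).1 isUnit_one
  rw [one_mul, zero_mul, add_zero, pow_one, ← ha, pow_two]
  exact Ideal.mul_mem_mul (neg_mem_iff.1 ha') hπm

/-- A point below an ordinary double point in a field extension of an algebraically closed field is closed,
on a scheme of dimension at most one. -/
theorem isClosed_of_ordDoublePt_over {k K : Type u} [Field k] [IsAlgClosed k] [Field K] [IsAlgClosed K] [Algebra k K]
    {X : Scheme.{u}} [X.Over (Spec (CommRingCat.of k))] [LocallyOfFiniteType (X ↘ Spec (CommRingCat.of k))]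
    (z : (Curv2.bc k X K : Scheme.{u}))
    (hgen : ∀ w', w' ⤳ Curv2.bcFst k X K z → w' = Curv2.bcFst k X K z)
    (hO : letI : (Curv2.bc k X K).Over (Spec (CommRingCat.of K)) := ⟨Curv2.bcSnd k X K⟩
      letI := Curv2.stalkAlgebra K (Curv2.bc k X K) z
      Curv2.IsOrdDoublePt K ((Curv2.bc k X K).presheaf.stalk z)) : False := by
  letI : (Curv2.bc k X K).Over (Spec (CommRingCat.of K)) := ⟨Curv2.bcSnd k X K⟩
  haveI : LocallyOfFiniteType (Curv2.bcSnd k X K) := MorphismProperty.pullback_snd _ _ inferInstance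
  haveI : LocallyOfFiniteType (Curv2.bc k X K ↘ Spec (CommRingCat.of K)) := ‹_›
  haveI := LocallyOfFiniteType.isLocallyNoetherian (X ↘ Spec (CommRingCat.of k))
  haveI := LocallyOfFiniteType.isLocallyNoetherian (Curv2.bcSnd k X K)
  let w := Curv2.bcFst k X K z
  letI := Curv2.stalkAlgebra K (Curv2.bc k X K) z
  obtain ⟨x, y, hxy⟩ := exists_pair_of_isOrdDoublePt hO
  obtain ⟨e, -⟩ := hO
  haveI := H11Node.isReduced_of_completion e
  haveI : Flat (Curv2.bcFst k X K) := by
    refine MorphismProperty.pullback_fst _ _ ?_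
    rw [HasRingHomProperty.Spec_iff (P := @Flat)]
    exact RingHom.flat_algebraMap_iff.2 inferInstance
  haveI : _root_.IsReduced (X.presheaf.stalk w) := isReduced_of_injective ((Curv2.bcFst k X K).stalkMap z).hom
    (H8Props.injective_of_flat_of_isLocalHom _ (Flat.stalkMap _ _))
  have hpr : ∀ P : Spec (X.presheaf.stalk w), P = IsLocalRing.closedPoint (X.presheaf.stalk w) := fun P => by
    refine (X.fromSpecStalk w).isEmbedding.injective ?_
    rw [Scheme.fromSpecStalk_closedPoint]
    refine hgen _ ?_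
    have : X.fromSpecStalk w P ∈ Set.range (X.fromSpecStalk w) := ⟨P, rfl⟩
    rwa [Scheme.range_fromSpecStalk] at this
  have hfield : IsField (X.presheaf.stalk w) := by
    rw [IsLocalRing.isField_iff_maximalIdeal_eq, eq_bot_iff]
    intro a ha
    refine (Submodule.mem_bot _).2 (IsNilpotent.eq_zero (mem_nilradical.1 ?_))
    rw [nilradical_eq_sInf, Submodule.mem_sInf]
    intro P hP
    have := congrArg PrimeSpectrum.asIdeal (hpr ⟨P, hP⟩)
    have e : P = maximalIdeal (X.presheaf.stalk w) := this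
    rw [e]; exact ha
  letI := hfield.toField
  haveI : IsRegularLocalRing (X.presheaf.stalk w) := inferInstance
  haveI : LocallyOfFinitePresentation (X ↘ Spec (CommRingCat.of k)) := inferInstance
  letI := Curv2.stalkAlgebra k X w
  have hsm : w ∈ (X ↘ Spec (CommRingCat.of k)).smoothLocus :=
    H22Alg.GeomRegularAt.mem_smoothLocus_of_isAdicFormallySmooth k X w
      (H05EGA4.isAdicFormallySmooth_of_perfectField k (X.presheaf.stalk w))
  obtain ⟨U, hwU, hU⟩ := (H17.LocusBC.mem_smoothLocus_iff_exists _ w).mp hsm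
  let p := Curv2.bcFst k X K
  let V := p ⁻¹ᵁ U
  have hsq : IsPullback (p ∣_ U) (V.ι ≫ Curv2.bcSnd k X K) (U.ι ≫ (X ↘ Spec (CommRingCat.of k)))
      (Spec.map (CommRingCat.ofHom (algebraMap k K))) :=
    (isPullback_morphismRestrict p U).paste_vert (IsPullback.of_hasPullback _ _)
  haveI : Smooth (V.ι ≫ Curv2.bcSnd k X K) := MorphismProperty.of_isPullback (P := @Smooth) hsq hU
  have hzV : z ∈ V := hwU
  haveI := H19Grp.isRegularLocalRing_stalk_of_smooth (V.ι ≫ Curv2.bcSnd k X K) ⟨z, hzV⟩
  haveI : IsRegularLocalRing ((Curv2.bc k X K).presheaf.stalk z) :=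
    IsRegularLocalRing.of_ringEquiv (V.stalkIso ⟨z, hzV⟩).commRingCatIsoToRingEquiv
  exact not_isNodePair_of_regular hxy

end Groth.Agent.H29Node
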