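import Groth.Agent.H29Node.Pair
import Groth.Agent.H29Node.Completion
import Groth.Agent.H02CA.Node.Approx
import Groth.Agent.H11Node.Ring
import Groth.Agent.H02CA.Node.Completed
import Groth.Prelude.Def_CurvBase
import Mathlib.RingTheory.AdicCompletion.AsTensorProduct

/-!
# Ordinary double points and coordinates

A Noetherian local `K`-algebra with residue field `K` is an ordinary double point exactly when its
maximal ideal has node coordinates.
-/

set_option autoImplicit false
set_option linter.style.haveILetI false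

universe u

open IsLocalRing

namespace Groth.Agent.H29Node

variable {K A : Type u} [Field K] [CommRing A] [Algebra K A] [IsLocalRing A] [IsNoetherianRing A]

local notation "Â" => AdicCompletion (maximalIdeal A) A

theorem completion_map_maximal : (maximalIdeal A).map (algebraMap A Â) = maximalIdeal Â :=
  (AdicCompletion.maximalIdeal_eq_map (R := A)).symm

omit [Algebra K A] in
theorem exists_approx (z : Â) : ∃ a : A, algebraMap A Â a - z ∈ maximalIdeal Â := by
  obtain ⟨c, hc⟩ := (AdicCompletion.residueField_map_bijective_of_fg (IsNoetherian.noetherian _)).2 (residue Â z)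
  obtain ⟨a, rfl⟩ := residue_surjective c
  exact ⟨a, Ideal.Quotient.eq.1 hc⟩

/-- An ordinary double point has coordinates. -/
theorem exists_pair_of_isOrdDoublePt (h : Curv2.IsOrdDoublePt K A) : ∃ x y : A, IsNodePair x y := by
  obtain ⟨e, -⟩ := h
  haveI : Module.Flat A Â := AdicCompletion.flat_of_isNoetherian _
  haveI : IsNoetherianRing Â := isNoetherianRing_of_ringEquiv _ e.symm
  let P := MvPowerSeries (Fin 2) K
  let θ : P →+* Â := e.symm.toRingHom.comp (Ideal.Quotient.mk _)
  let χ : Fin 2 → (Â →+* PowerSeries K) := fun i => (H11Node.branch i).comp e.toRingHom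
  have hθs : Function.Surjective θ := e.symm.surjective.comp Ideal.Quotient.mk_surjective
  have hunit : ∀ f : P, IsUnit f → IsUnit (θ f) := fun f hf => hf.map θ
  have hbr : ∀ i f, χ i (θ f) = H11Node.axis i f := fun i f =>
    (congrArg (H11Node.branch i) (e.apply_symm_apply _)).trans (H11Node.branch_mk i f)
  have hXm : ∀ i : Fin 2, θ (MvPowerSeries.X i) ∈ maximalIdeal Â := fun i => by
    rw [mem_maximalIdeal, mem_nonunits_iff]
    intro hu
    have h1 := hu.map (χ i)
    rw [hbr, H11Node.axis_X_self, PowerSeries.isUnit_iff_constantCoeff] at h1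
    simp at h1
  have hχm : ∀ i, (maximalIdeal Â).map (χ i) ≤ Ideal.span {(PowerSeries.X : PowerSeries K)} := fun i =>
    Ideal.map_le_iff_le_comap.2 fun a ha => Ideal.mem_span_singleton.2
      (H11Node.X_dvd_branch i fun hu => ha (by simpa using hu.map e.symm))
  have hpair : IsNodePair (θ (MvPowerSeries.X 0)) (θ (MvPowerSeries.X 1)) := by
    refine ⟨le_antisymm (Ideal.span_le.2 ?_) fun z hz => ?_, ?_, fun n hn a b hab => ?_⟩
    · rintro w (rfl | rfl) <;> exact hXm _
    · obtain ⟨f, rfl⟩ := hθs z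
      have hf : f ∈ H02CA.PS.vars (Fin 2) K := H02CA.PS.mem_vars_iff.2 (by
        by_contra h0
        exact hz (hunit f (MvPowerSeries.isUnit_iff_constantCoeff.2 (Ne.isUnit h0))))
      have h2 := Ideal.mem_map_of_mem θ hf
      rw [Ideal.map_span, ← Set.range_comp] at h2
      convert h2 using 3
      ext w
      simp [eq_comm]
    · rw [← map_mul, show θ (MvPowerSeries.X 0 * MvPowerSeries.X 1) = 0 by
        show e.symm _ = 0
        rw [Ideal.Quotient.eq_zero_iff_mem.2 (Ideal.mem_span_singleton_self _), map_zero]]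
      exact zero_mem _
    · have key : ∀ (i j : Fin 2) (a b : Â), i ≠ j → a * θ (MvPowerSeries.X i) ^ n + b * θ (MvPowerSeries.X j) ^ n ∈
          maximalIdeal Â ^ (n + 1) → a ∈ maximalIdeal Â := by
        intro i j a b hij hmem
        have h1 := Ideal.mem_map_of_mem (χ i) hmem
        rw [Ideal.map_pow] at h1
        have h2 := Ideal.pow_right_mono (hχm i) (n + 1) h1
        rw [Ideal.span_singleton_pow, Ideal.mem_span_singleton] at h2
        rw [map_add, map_mul, map_mul, map_pow, map_pow, hbr, hbr, H11Node.axis_X_self, H11Node.axis_X_of_ne hij.symm,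
          zero_pow (by omega : n ≠ 0), mul_zero, add_zero, pow_succ'] at h2
        replace h2 := (mul_dvd_mul_iff_right (pow_ne_zero (M₀ := PowerSeries K) n PowerSeries.X_ne_zero)).1 h2
        rw [mem_maximalIdeal, mem_nonunits_iff]
        intro hu
        have := isUnit_of_dvd_unit h2 ((hu.map e).map (H11Node.branch i))
        rw [PowerSeries.isUnit_iff_constantCoeff] at this
        simp at this
      exact ⟨key 0 1 a b (by decide) hab, key 1 0 b a (by decide) (add_comm (a * _) (b * _) ▸ hab)⟩
  -- approximate by elements of `A`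
  obtain ⟨x, -, hx⟩ := H11Node.exists_mem_sub_mem_sq hpair.mem_left
  obtain ⟨y, -, hy⟩ := H11Node.exists_mem_sub_mem_sq hpair.mem_right
  set X := θ (MvPowerSeries.X 0)
  set Y := θ (MvPowerSeries.X 1)
  have hx' : algebraMap A Â x - X ∈ maximalIdeal Â ^ 2 := by simpa using neg_mem hx
  have hy' : algebraMap A Â y - Y ∈ maximalIdeal Â ^ 2 := by simpa using neg_mem hy
  refine ⟨x, y, IsNodePair.comap completion_map_maximal (hpair.congr hx' hy' ?_)⟩
  rw [show algebraMap A Â x * algebraMap A Â y = X * Y + (algebraMap A Â x - X) * algebraMap A Â y +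
    X * (algebraMap A Â y - Y) by ring]
  have hym : algebraMap A Â y ∈ maximalIdeal Â := by
    simpa using add_mem (Ideal.pow_le_self two_ne_zero hy') hpair.mem_right
  refine add_mem (add_mem hpair.mul ?_) ?_
  · rw [pow_succ (maximalIdeal Â) 2]; exact Ideal.mul_mem_mul hx' hym
  · rw [pow_succ' (maximalIdeal Â) 2]; exact Ideal.mul_mem_mul hpair.mem_left hy'

/-- In a complete ring, coordinates can be improved to have product zero. -/
theorem exists_pair_mul_eq_zero {S : Type u} [CommRing S] [IsLocalRing S] [IsNoetherianRing S]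
    [IsAdicComplete (maximalIdeal S) S] {x y : S} (h : IsNodePair x y) :
    ∃ x' y' : S, IsNodePair x' y' ∧ x' * y' = 0 := by
  have hstep : ∀ (k : ℕ) (s : S × S), ∃ t : S × S, IsNodePair s.1 s.2 → s.1 * s.2 ∈ maximalIdeal S ^ (k + 3) →
      IsNodePair t.1 t.2 ∧ t.1 * t.2 ∈ maximalIdeal S ^ (k + 1 + 3) ∧
      t.1 - s.1 ∈ maximalIdeal S ^ (k + 2) ∧ t.2 - s.2 ∈ maximalIdeal S ^ (k + 2) := by
    intro k s
    by_cases hs : IsNodePair s.1 s.2 ∧ s.1 * s.2 ∈ maximalIdeal S ^ (k + 3)
    · obtain ⟨x', y', h', hx, hy, hxy⟩ := hs.1.step (n := k + 2) (by omega) hs.2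
      exact ⟨(x', y'), fun _ _ => ⟨h', hxy, hx, hy⟩⟩
    · exact ⟨s, fun h1 h2 => absurd ⟨h1, h2⟩ hs⟩
  choose next hnext using hstep
  let s : ℕ → S × S := fun k => Nat.rec (x, y) next k
  have hs : ∀ k, IsNodePair (s k).1 (s k).2 ∧ (s k).1 * (s k).2 ∈ maximalIdeal S ^ (k + 3) := by
    intro k
    induction k with
    | zero => exact ⟨h, h.mul⟩
    | succ k ih => exact ⟨(hnext k _ ih.1 ih.2).1, (hnext k _ ih.1 ih.2).2.1⟩
  obtain ⟨x', hx'⟩ := H02CA.Node.exists_limit (maximalIdeal S) (fun k => (s k).1) fun k =>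
    Ideal.pow_le_pow_right (by omega) (hnext k _ (hs k).1 (hs k).2).2.2.1
  obtain ⟨y', hy'⟩ := H02CA.Node.exists_limit (maximalIdeal S) (fun k => (s k).2) fun k =>
    Ideal.pow_le_pow_right (by omega) (hnext k _ (hs k).1 (hs k).2).2.2.2
  have h0 : x' * y' = 0 := by
    refine IsHausdorff.haus (I := maximalIdeal S) inferInstance _ fun k => ?_
    rw [SModEq.zero, smul_eq_mul, Ideal.mul_top]
    rw [show x' * y' = (s k).1 * (s k).2 + (x' - (s k).1) * y' + (s k).1 * (y' - (s k).2) by ring]
    exact add_mem (add_mem (Ideal.pow_le_pow_right (by omega) (hs k).2) (Ideal.mul_mem_right _ _ (hx' k)))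
      (Ideal.mul_mem_left _ _ (hy' k))
  exact ⟨x', y', (hs 2).1.congr (hx' 2) (hy' 2) (by rw [h0]; exact zero_mem _), h0⟩

/-- Coordinates give an ordinary double point. -/
theorem isOrdDoublePt_of_pair (hres : ∀ a : A, ∃ c : K, a - algebraMap K A c ∈ maximalIdeal A) {x y : A}
    (h : IsNodePair x y) : Curv2.IsOrdDoublePt K A := by
  haveI : Module.Flat A Â := AdicCompletion.flat_of_isNoetherian _
  haveI : IsNoetherianRing Â := H05EGA4.isNoetherianRing_adicCompletion A (maximalIdeal A)
  obtain ⟨X, Y, hXY, h0⟩ := exists_pair_mul_eq_zero (h.map (completion_map_maximal (A := A)))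
  have hresK : ∀ z : Â, ∃ c : K, algebraMap K Â c - z ∈ maximalIdeal Â := fun z => by
    obtain ⟨a, ha⟩ := exists_approx z
    obtain ⟨c, hc⟩ := hres a
    refine ⟨c, ?_⟩
    have h1 : algebraMap A Â (a - algebraMap K A c) ∈ maximalIdeal Â :=
      completion_map_maximal.le (Ideal.mem_map_of_mem _ hc)
    have h2 := sub_mem ha h1
    rw [map_sub, ← IsScalarTower.algebraMap_apply] at h2
    convert h2 using 1
    ring
  have hgen : maximalIdeal Â = Ideal.span {X, Y} ⊔ (maximalIdeal K).map (algebraMap K Â) := by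
    rw [IsLocalRing.isField_iff_maximalIdeal_eq.mp (Field.toIsField K), Ideal.map_bot, sup_bot_eq, hXY.span]
  obtain ⟨ψ, hψ, hψ0, hψ1⟩ := H02CA.Node.exists_surjective hresK X Y hgen X Y (by simp) (by simp)
    hXY.mem_left hXY.mem_right
  let I := Ideal.span {(MvPowerSeries.X 0 * MvPowerSeries.X 1 : MvPowerSeries (Fin 2) K)}
  have hI : ∀ f ∈ I, ψ f = 0 := fun f hf => by
    obtain ⟨g, rfl⟩ := Ideal.mem_span_singleton'.1 hf
    rw [map_mul, map_mul, hψ0, hψ1, h0, mul_zero]
  have hloc : ∀ f, ψ f ∈ maximalIdeal Â → f ∈ maximalIdeal (MvPowerSeries (Fin 2) K) := fun f hf hu => hf (hu.map ψ)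
  have hmax : maximalIdeal (MvPowerSeries (Fin 2) K) = Ideal.span {MvPowerSeries.X 0, MvPowerSeries.X 1} := by
    refine le_antisymm (fun f hf => ?_) (Ideal.span_le.2 ?_)
    · have hf0 : f ∈ H02CA.PS.vars (Fin 2) K := H02CA.PS.mem_vars_iff.2 (by
        by_contra h1
        exact hf (MvPowerSeries.isUnit_iff_constantCoeff.2 (Ne.isUnit h1)))
      have hr : Set.range (MvPowerSeries.X : Fin 2 → MvPowerSeries (Fin 2) K) =
          {MvPowerSeries.X 0, MvPowerSeries.X 1} := Set.ext fun w => by simp [Fin.exists_fin_two, eq_comm]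
      rwa [H02CA.PS.vars, hr] at hf0
    · rintro w (rfl | rfl) <;> simp [MvPowerSeries.isUnit_iff_constantCoeff]
  have hker : ∀ f, ψ f = 0 → f ∈ I := fun f hf => H02CA.Node.mem_of_forall_mem_sup_pow I fun N => by
    induction N with
    | zero => simp
    | succ N ih =>
      rcases Nat.eq_zero_or_pos N with rfl | hN
      · refine Ideal.mem_sup_right ?_
        rw [pow_one]
        exact hloc f (by rw [hf]; exact zero_mem _)
      obtain ⟨g, hg, w, hw, rfl⟩ := Submodule.mem_sup.1 ih
      have key : ∀ {n : ℕ}, 1 ≤ n → ∀ {w}, w ∈ maximalIdeal (MvPowerSeries (Fin 2) K) ^ n →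
          ∃ a b, w - a * MvPowerSeries.X 0 ^ n - b * MvPowerSeries.X 1 ^ n ∈ I := by
        intro n hn
        induction n, hn using Nat.le_induction with
        | base =>
          intro w hw
          rw [pow_one, hmax, Ideal.mem_span_pair] at hw
          obtain ⟨a, b, rfl⟩ := hw
          exact ⟨a, b, by simp⟩
        | succ n hn ihn =>
          intro w hw
          rw [pow_succ] at hw
          induction hw using Submodule.mul_induction_on' with
          | mem_mul_mem p hp q hq =>
            obtain ⟨a, b, hab⟩ := ihn hp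
            rw [hmax, Ideal.mem_span_pair] at hq
            obtain ⟨c, d, rfl⟩ := hq
            obtain ⟨n, rfl⟩ : ∃ m, n = m + 1 := ⟨n - 1, by omega⟩
            refine ⟨a * c, b * d, ?_⟩
            rw [show p * (c * MvPowerSeries.X 0 + d * MvPowerSeries.X 1) - a * c * MvPowerSeries.X 0 ^ (n + 1 + 1) -
              b * d * MvPowerSeries.X 1 ^ (n + 1 + 1) =
              (p - a * MvPowerSeries.X 0 ^ (n + 1) - b * MvPowerSeries.X 1 ^ (n + 1)) *
                (c * MvPowerSeries.X 0 + d * MvPowerSeries.X 1) +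
              (a * d * MvPowerSeries.X 0 ^ n + b * c * MvPowerSeries.X 1 ^ n) *
                (MvPowerSeries.X 0 * MvPowerSeries.X 1) by ring]
            exact add_mem (Ideal.mul_mem_right _ _ hab) (Ideal.mul_mem_left _ _ (Ideal.mem_span_singleton_self _))
          | add p _ q _ hp hq =>
            obtain ⟨a, b, hab⟩ := hp
            obtain ⟨a', b', hab'⟩ := hq
            refine ⟨a + a', b + b', ?_⟩
            convert add_mem hab hab' using 1
            ring
      obtain ⟨a, b, hab⟩ := key hN hw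
      have hz : ψ a * X ^ N + ψ b * Y ^ N = 0 := by
        have h1 := hI _ hab
        rw [map_sub, map_sub, map_mul, map_mul, map_pow, map_pow, hψ0, hψ1] at h1
        rw [map_add, hI _ hg, zero_add] at hf
        linear_combination hf - h1
      obtain ⟨ha, hb⟩ := hXY.indep N hN (ψ a) (ψ b) (by rw [hz]; exact zero_mem _)
      rw [show g + w = (g + (w - a * MvPowerSeries.X 0 ^ N - b * MvPowerSeries.X 1 ^ N)) +
        (a * MvPowerSeries.X 0 ^ N + b * MvPowerSeries.X 1 ^ N) by ring]
      refine Submodule.add_mem_sup (add_mem hg hab) ?_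
      rw [pow_succ']
      exact add_mem (Ideal.mul_mem_mul (hloc a ha) (Ideal.pow_mem_pow (by rw [hmax]; exact Ideal.subset_span (by simp)) N))
        (Ideal.mul_mem_mul (hloc b hb) (Ideal.pow_mem_pow (by rw [hmax]; exact Ideal.subset_span (by simp)) N))
  let φ := Ideal.Quotient.lift I ψ.toRingHom hI
  have hφ : Function.Bijective φ := by
    refine ⟨(injective_iff_map_eq_zero _).2 fun q hq => ?_, fun z => ?_⟩
    · obtain ⟨f, rfl⟩ := Ideal.Quotient.mk_surjective q
      exact Ideal.Quotient.eq_zero_iff_mem.2 (hker f hq)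
    · obtain ⟨f, rfl⟩ := hψ z
      exact ⟨Ideal.Quotient.mk _ f, rfl⟩
  refine ⟨(RingEquiv.ofBijective φ hφ).symm, fun c => ?_⟩
  rw [RingEquiv.symm_apply_eq]
  show _ = ψ (MvPowerSeries.C c)
  rw [MvPowerSeries.c_eq_algebraMap, AlgHom.commutes, ← IsScalarTower.algebraMap_apply]

/-- Ordinary double points are the rings with coordinates. -/
theorem isOrdDoublePt_iff_pair (hres : ∀ a : A, ∃ c : K, a - algebraMap K A c ∈ maximalIdeal A) :
    Curv2.IsOrdDoublePt K A ↔ ∃ x y : A, IsNodePair x y :=
  ⟨exists_pair_of_isOrdDoublePt, fun ⟨_, _, h⟩ => isOrdDoublePt_of_pair hres h⟩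

/-- Ordinary double points along a flat extension with trivial closed fibre, over algebraically closed fields. -/
theorem isOrdDoublePt_iff_of_flat {L B : Type u} [Field L] [CommRing B] [Algebra L B] [IsLocalRing B]
    [IsNoetherianRing B] [IsAlgClosed K] [Algebra A B] [IsLocalHom (algebraMap A B)] [Module.Flat A B]
    (hm : (maximalIdeal A).map (algebraMap A B) = maximalIdeal B)
    (hA : ∀ a : A, ∃ c : K, a - algebraMap K A c ∈ maximalIdeal A)
    (hB : ∀ b : B, ∃ c : L, b - algebraMap L B c ∈ maximalIdeal B) :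
    Curv2.IsOrdDoublePt K A ↔ Curv2.IsOrdDoublePt L B := by
  rw [isOrdDoublePt_iff_pair hA, isOrdDoublePt_iff_pair hB]
  haveI : IsAlgClosed (ResidueField A) := by
    let φ : K →+* ResidueField A := (residue A).comp (algebraMap K A)
    have hφ : Function.Surjective φ := fun z => by
      obtain ⟨a, rfl⟩ := residue_surjective z
      obtain ⟨c, hc⟩ := hA a
      exact ⟨c, (Ideal.Quotient.eq.2 hc).symm⟩
    exact IsAlgClosed.of_ringEquiv K _ (RingEquiv.ofBijective φ ⟨φ.injective, hφ⟩)
  exact ⟨fun ⟨_, _, h⟩ => ⟨_, _, h.map hm⟩, fun ⟨_, _, h⟩ => h.exists_descend hm⟩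

end Groth.Agent.H29Node
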