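import Groth.Agent.H29Node.Completion
import Groth.Agent.H29Omega.LocalRingFE
import Groth.Agent.H22Alg.VarDim
import Groth.Prelude.Def_CurvBase

/-!
# Ordinary double points and etale morphisms
-/

set_option autoImplicit false
set_option linter.style.haveILetI false

universe u

open CategoryTheory CategoryTheory.Limits AlgebraicGeometry TopologicalSpace IsLocalRing

namespace Groth.Agent.H29Node

/-- A point over a closed point under an integral morphism is closed. -/
theorem isClosed_of_isIntegralHom {X Y : Scheme.{u}} (q : X ⟶ Y) [IsIntegralHom q] {z : X}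
    (h : IsClosed ({q z} : Set Y)) : IsClosed ({z} : Set X) := by
  obtain ⟨U, hU, hzU, -⟩ := exists_isAffineOpen_mem_and_subset (show q z ∈ (⊤ : Y.Opens) from trivial)
  have hW : IsAffineOpen (q ⁻¹ᵁ U) := hU.preimage q
  have hint : (q.app U).hom.IsIntegral := q.isIntegral_app U hU
  haveI := hU.primeIdealOf_isMaximal_of_isClosed ⟨q z, hzU⟩ h
  have hc := IsAffineOpen.comap_primeIdealOf_appLE (f := q) U hU (q ⁻¹ᵁ U) hW le_rfl (x := z) hzU
  rw [← Scheme.Hom.app_eq_appLE] at hc
  let P := hW.primeIdealOf ⟨z, hzU⟩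
  have hP : P.asIdeal.IsMaximal := Ideal.isMaximal_of_isIntegral_of_isMaximal_comap' _ hint P.asIdeal (by
    have := congrArg PrimeSpectrum.asIdeal hc
    rw [PrimeSpectrum.comap_asIdeal] at this
    exact this ▸ ‹_›)
  have hzP : IsClosed ({P} : Set (PrimeSpectrum _)) := (PrimeSpectrum.isClosed_singleton_iff_isMaximal P).2 hP
  refine isClosed_of_closure_subset fun w hw => ?_
  have hw' : q w = q z := (closure_minimal (t := q ⁻¹' {q z}) (Set.singleton_subset_iff.2 rfl) (h.preimage q.continuous)) hw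
  have hwU : w ∈ q ⁻¹ᵁ U := by show q w ∈ U; rw [hw']; exact hzU
  have hsp : hW.fromSpec P ⤳ hW.fromSpec (hW.primeIdealOf ⟨w, hwU⟩) := by
    rw [hW.fromSpec_primeIdealOf, hW.fromSpec_primeIdealOf]
    exact specializes_iff_mem_closure.2 hw
  have hsp' : P ⤳ hW.primeIdealOf ⟨w, hwU⟩ := hW.fromSpec.isOpenEmbedding.isInducing.specializes_iff.1 hsp
  have heq : hW.primeIdealOf ⟨w, hwU⟩ = P := by
    have := specializes_iff_mem_closure.1 hsp'
    rw [hzP.closure_eq] at this
    exact this
  show w = z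
  have := congrArg hW.fromSpec heq
  rwa [hW.fromSpec_primeIdealOf, hW.fromSpec_primeIdealOf] at this

variable {K : Type u} [Field K] [IsAlgClosed K]

/-- Closed points over an algebraically closed field are rational. -/
theorem exists_const_sub_mem {X : Scheme.{u}} [X.Over (Spec (CommRingCat.of K))]
    [LocallyOfFiniteType (X ↘ Spec (CommRingCat.of K))] {x : X} (hx : IsClosed ({x} : Set X))
    (b : X.presheaf.stalk x) :
    ∃ c : K, b - Curv2.stalkMap K X x c ∈ maximalIdeal (X.presheaf.stalk x) := by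
  let f := X ↘ Spec (CommRingCat.of K)
  let r := (AlgebraicGeometry.residueFieldIsoBase f x hx).inv
  have hr : r = CommRingCat.ofHom (Curv2.resMap K X x) := Spec.map_injective (by
    rw [SpecMap_residueFieldIsoBase_inv]
    exact H22Alg.VarDim.fromSpecResidueField_over K X x)
  obtain ⟨c, hc⟩ := (ConcreteCategory.bijective_of_isIso r).2 (X.residue x b)
  refine ⟨c, ?_⟩
  rw [← residue_eq_zero_iff]
  show X.residue x (b - Curv2.stalkMap K X x c) = 0
  rw [map_sub, sub_eq_zero, ← hc, hr]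
  rfl

/-- Over an algebraically closed field ordinary double points are insensitive to etale morphisms. -/
theorem isOrdDoublePt_iff_of_etale {X Y : Scheme.{u}} [X.Over (Spec (CommRingCat.of K))]
    [Y.Over (Spec (CommRingCat.of K))] [LocallyOfFiniteType (X ↘ Spec (CommRingCat.of K))]
    (g : Y ⟶ X) [Etale g] (hg : g ≫ (X ↘ Spec (CommRingCat.of K)) = Y ↘ Spec (CommRingCat.of K))
    {y : Y} (hy : IsClosed ({y} : Set Y)) :
    (letI := Curv2.stalkAlgebra K X (g y); Curv2.IsOrdDoublePt K (X.presheaf.stalk (g y))) ↔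
      (letI := Curv2.stalkAlgebra K Y y; Curv2.IsOrdDoublePt K (Y.presheaf.stalk y)) := by
  haveI : LocallyOfFiniteType (Y ↘ Spec (CommRingCat.of K)) := by rw [← hg]; infer_instance
  let A := X.presheaf.stalk (g y)
  let B := Y.presheaf.stalk y
  letI : Algebra A B := (g.stalkMap y).hom.toAlgebra
  haveI : IsLocalHom (algebraMap A B) := inferInstanceAs (IsLocalHom (g.stalkMap y).hom)
  haveI : Module.Flat A B := Flat.stalkMap g y
  haveI : Algebra.EssFiniteType A B := LocallyOfFiniteType.stalkMap g y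
  haveI : Algebra.FormallyEtale A B := H29Omega.formallyEtale_stalkMap g y
  have hconst : ∀ c : K, algebraMap A B (Curv2.stalkMap K X (g y) c) = Curv2.stalkMap K Y y c := fun c => by
    show g.stalkMap y (X.presheaf.germ ⊤ (g y) trivial ((X ↘ Spec (CommRingCat.of K)).appTop _)) =
      Y.presheaf.germ ⊤ y trivial ((Y ↘ Spec (CommRingCat.of K)).appTop _)
    rw [Scheme.Hom.germ_stalkMap_apply]
    refine congrArg (Y.presheaf.germ ⊤ y trivial) ?_
    rw [← hg, Scheme.Hom.comp_appTop]
    rfl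
  obtain ⟨e, he⟩ := exists_completion_equiv A B Algebra.FormallyUnramified.map_maximalIdeal fun b => by
    obtain ⟨c, hc⟩ := exists_const_sub_mem (K := K) hy b
    exact ⟨Curv2.stalkMap K X (g y) c, by rw [hconst]; exact hc⟩
  constructor
  · rintro ⟨e₀, he₀⟩
    refine ⟨e.symm.trans e₀, fun c => ?_⟩
    show e₀ (e.symm (algebraMap B _ (Curv2.stalkMap K Y y c))) = _
    rw [← hconst, ← he, e.symm_apply_apply]
    exact he₀ c
  · rintro ⟨e₀, he₀⟩
    refine ⟨e.trans e₀, fun c => ?_⟩
    show e₀ (e (algebraMap A _ (Curv2.stalkMap K X (g y) c))) = _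
    rw [he, hconst]
    exact he₀ c

variable {k : Type u} [Field k]

/-- Etale morphisms preserve and reflect nodes. -/
theorem isNode_iff_of_etale {X Y : Scheme.{u}} [X.Over (Spec (CommRingCat.of k))]
    [Y.Over (Spec (CommRingCat.of k))] [LocallyOfFiniteType (X ↘ Spec (CommRingCat.of k))]
    (g : Y ⟶ X) [Etale g] (hg : g ≫ (X ↘ Spec (CommRingCat.of k)) = Y ↘ Spec (CommRingCat.of k))
    {y : Y} (hy : IsClosed ({y} : Set Y)) (hx : IsClosed ({g y} : Set X)) :
    Curv2.IsNode k Y y ↔ Curv2.IsNode k X (g y) := by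
  let L := AlgebraicClosure k
  let β := Spec.map (CommRingCat.ofHom (algebraMap k L))
  haveI : IsIntegralHom β := by
    rw [IsIntegralHom.SpecMap_iff]
    exact Algebra.IsIntegral.isIntegral
  letI : (Curv2.bc k X L).Over (Spec (CommRingCat.of L)) := ⟨Curv2.bcSnd k X L⟩
  letI : (Curv2.bc k Y L).Over (Spec (CommRingCat.of L)) := ⟨Curv2.bcSnd k Y L⟩
  haveI : LocallyOfFiniteType (Curv2.bc k X L ↘ Spec (CommRingCat.of L)) :=
    (MorphismProperty.pullback_snd _ _ inferInstance : LocallyOfFiniteType (Curv2.bcSnd k X L))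
  let gK : Curv2.bc k Y L ⟶ Curv2.bc k X L :=
    pullback.lift (Curv2.bcFst k Y L ≫ g) (Curv2.bcSnd k Y L) (by rw [Category.assoc, hg]; exact pullback.condition)
  have hsq : IsPullback (Curv2.bcFst k Y L) gK g (Curv2.bcFst k X L) :=
    IsPullback.of_bot (by
      rw [show gK ≫ Curv2.bcSnd k X L = Curv2.bcSnd k Y L from pullback.lift_snd _ _ _, hg]
      exact IsPullback.of_hasPullback _ _)
      (pullback.lift_fst _ _ _).symm (IsPullback.of_hasPullback _ _)
  haveI : Etale gK := MorphismProperty.of_isPullback hsq ‹Etale g›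
  haveI : IsIntegralHom (Curv2.bcFst k X L) := MorphismProperty.pullback_fst _ _ ‹IsIntegralHom β›
  haveI : IsIntegralHom (Curv2.bcFst k Y L) := MorphismProperty.pullback_fst _ _ ‹IsIntegralHom β›
  have hgK : gK ≫ (Curv2.bc k X L ↘ Spec (CommRingCat.of L)) = Curv2.bc k Y L ↘ Spec (CommRingCat.of L) :=
    pullback.lift_snd _ _ _
  have hcomm : ∀ z, Curv2.bcFst k X L (gK z) = g (Curv2.bcFst k Y L z) := fun z => by
    rw [← Scheme.Hom.comp_apply, ← Scheme.Hom.comp_apply]
    exact congrArg (fun φ : Curv2.bc k Y L ⟶ X => φ z) (pullback.lift_fst _ _ _)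
  constructor
  · rintro ⟨-, yb, hyb, hO⟩
    have hcl : IsClosed ({yb} : Set (Curv2.bc k Y L)) := isClosed_of_isIntegralHom _ (hyb.symm ▸ hy)
    exact ⟨hx, gK yb, by rw [hcomm, hyb], (isOrdDoublePt_iff_of_etale gK hgK hcl).2 hO⟩
  · rintro ⟨-, xb, hxb, hO⟩
    obtain ⟨yb, hyb₁, hyb₂⟩ := Scheme.exists_preimage_of_isPullback hsq y xb hxb.symm
    have hcl : IsClosed ({yb} : Set (Curv2.bc k Y L)) := isClosed_of_isIntegralHom _ (hyb₁.symm ▸ hy)
    exact ⟨hy, yb, hyb₁, (isOrdDoublePt_iff_of_etale gK hgK hcl).1 (hyb₂.symm ▸ hO)⟩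

end Groth.Agent.H29Node
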