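import Groth.Agent.H29Node.NodeAlg
import Groth.Agent.H29Fitt.Rank
import Mathlib.RingTheory.Kaehler.Basic

/-!
# The first Fitting ideal of the differentials of a one-dimensional local ring and nodes

`B` is a Noetherian local algebra over a field `K` with residue field `K`.
-/

set_option autoImplicit false
set_option linter.style.haveILetI false

universe u

open IsLocalRing

namespace Groth.Agent.H29Node.FittLocal

variable {K B : Type u} [Field K] [CommRing B] [Algebra K B] [IsLocalRing B] [IsNoetherianRing B]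

local notation "𝔪" => maximalIdeal B
local notation "ι" => algebraMap K B
local notation "Ω" => KaehlerDifferential K B
local notation "δ" => KaehlerDifferential.D K B

omit [IsNoetherianRing B] in
theorem eq_of_sub_mem {b : B} {c c' : K} (h : b - ι c ∈ 𝔪) (h' : b - ι c' ∈ 𝔪) : c = c' := by
  by_contra hne
  have : ι (c' - c) ∈ 𝔪 := by
    rw [map_sub, show ι c' - ι c = (b - ι c) - (b - ι c') by ring]
    exact sub_mem h h'
  exact this (((sub_ne_zero.2 (Ne.symm hne)).isUnit).map ι)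

theorem det_mem_pow {R : Type u} [CommRing R] {n : ℕ} (M : Matrix (Fin n) (Fin n) R) {I : Ideal R}
    (h : ∀ i j, M i j ∈ I) : M.det ∈ I ^ n := by
  rw [Matrix.det_apply]
  refine Ideal.sum_mem _ fun σ _ => ?_
  have hp : ∏ i, M (σ i) i ∈ I ^ n := by
    have := Ideal.prod_mem_prod (s := Finset.univ) (I := fun _ : Fin n => I) fun i _ => h (σ i) i
    simpa using this
  rcases Int.units_eq_one_or (Equiv.Perm.sign σ) with h1 | h1 <;> rw [h1] <;> simpa using hp

theorem exists_minimal : ∃ (n : ℕ) (g : Fin n → B), Ideal.span (Set.range g) = 𝔪 ∧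
    ∀ w : Fin n → B, ∑ i, w i * g i ∈ 𝔪 ^ 2 → ∀ i, w i ∈ 𝔪 := by
  classical
  have hex : ∃ n, ∃ g : Fin n → B, Ideal.span (Set.range g) = 𝔪 := by
    obtain ⟨n, g, hg⟩ := (Submodule.fg_iff_exists_fin_generating_family.1 (IsNoetherian.noetherian 𝔪))
    exact ⟨n, g, hg⟩
  obtain ⟨g, hg⟩ := Nat.find_spec hex
  refine ⟨_, g, hg, fun w hw i => ?_⟩
  by_contra hi
  obtain ⟨k, hk⟩ : ∃ k, Nat.find hex = k + 1 := ⟨Nat.find hex - 1, by have := i.pos; omega⟩
  obtain ⟨w', hw'⟩ := (IsLocalRing.notMem_maximalIdeal.1 hi).exists_left_inv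
  let g' : Fin k → B := fun j => g (Fin.cast hk.symm ((Fin.cast hk i).succAbove j))
  refine Nat.find_min hex (show k < Nat.find hex by omega) ⟨g', ?_⟩
  have hne : ∀ j, j ≠ i → g j ∈ Ideal.span (Set.range g') := fun j hj => by
    obtain ⟨j', hj'⟩ := Fin.exists_succAbove_eq (x := Fin.cast hk j) (y := Fin.cast hk i)
      (fun h => hj (Fin.cast_injective _ h))
    exact Ideal.subset_span ⟨j', by simp only [g']; rw [hj']; rfl⟩
  refine span_eq_of_le_sup_sq ((Ideal.span_mono (by rintro _ ⟨j, rfl⟩; exact ⟨_, rfl⟩)).trans hg.le) ?_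
  refine hg.symm.le.trans (Ideal.span_le.2 ?_)
  rintro _ ⟨j, rfl⟩
  by_cases hj : j = i
  · subst hj
    rw [SetLike.mem_coe, show g j = -(w' * ∑ l ∈ Finset.univ.erase j, w l * g l) + w' * ∑ l, w l * g l by
      rw [← Finset.add_sum_erase _ _ (Finset.mem_univ j)]; linear_combination -g j * hw']
    exact Submodule.add_mem_sup
      (neg_mem (Ideal.mul_mem_left _ _ (Ideal.sum_mem _ fun l hl => Ideal.mul_mem_left _ _ (hne l (Finset.ne_of_mem_erase hl)))))
      (Ideal.mul_mem_left _ _ hw)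
  · exact Ideal.mem_sup_left (hne j hj)

variable (hres : ∀ b : B, ∃ c : K, b - algebraMap K B c ∈ maximalIdeal B)

include hres in
omit [IsNoetherianRing B] in
/-- The derivation onto the cotangent space. -/
theorem exists_linear_derivation :
    ∃ Δ : Derivation K B (B ⧸ 𝔪 ^ 2), ∀ b ∈ 𝔪, Δ b = Ideal.Quotient.mk _ b := by
  choose c hc using hres
  have hadd : ∀ a b, c (a + b) = c a + c b := fun a b => eq_of_sub_mem (hc _) (by
    rw [map_add, show a + b - (ι (c a) + ι (c b)) = (a - ι (c a)) + (b - ι (c b)) by ring]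
    exact add_mem (hc a) (hc b))
  have hsmul : ∀ (r : K) a, c (r • a) = r * c a := fun r a => eq_of_sub_mem (hc _) (by
    rw [Algebra.smul_def, map_mul, ← mul_sub]
    exact Ideal.mul_mem_left _ _ (hc a))
  have hmul : ∀ a b, c (a * b) = c a * c b := fun a b => eq_of_sub_mem (hc _) (by
    rw [map_mul, show a * b - ι (c a) * ι (c b) = (a - ι (c a)) * b + ι (c a) * (b - ι (c b)) by ring]
    exact add_mem (Ideal.mul_mem_right _ _ (hc a)) (Ideal.mul_mem_left _ _ (hc b)))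
  let L : B →ₗ[K] B ⧸ 𝔪 ^ 2 :=
    { toFun := fun a => Ideal.Quotient.mk _ (a - ι (c a))
      map_add' := fun a b => by rw [hadd, map_add, ← map_add (Ideal.Quotient.mk _)]; congr 1; ring
      map_smul' := fun r a => by
        rw [hsmul, map_mul, Algebra.smul_def, RingHom.id_apply, ← mul_sub, Algebra.smul_def, map_mul]
        rfl }
  refine ⟨Derivation.mk' L fun a b => ?_, fun b hb => ?_⟩
  · show Ideal.Quotient.mk _ (a * b - ι (c (a * b))) =
      Ideal.Quotient.mk _ (a * (b - ι (c b))) + Ideal.Quotient.mk _ (b * (a - ι (c a)))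
    rw [hmul, map_mul, ← map_add, Ideal.Quotient.eq,
      show a * b - ι (c a) * ι (c b) - (a * (b - ι (c b)) + b * (a - ι (c a))) =
        -((a - ι (c a)) * (b - ι (c b))) by ring, pow_two]
    exact neg_mem (Ideal.mul_mem_mul (hc a) (hc b))
  · show Ideal.Quotient.mk _ (b - ι (c b)) = _
    rw [eq_of_sub_mem (hc b) (c' := 0) (by rwa [map_zero, sub_zero]), map_zero, sub_zero]

include hres in
omit [IsNoetherianRing B] in
/-- Coefficients of relations among the differentials of independent elements lie in the maximal ideal. -/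
theorem mem_of_rel {n : ℕ} (g : Fin n → B) (hg : ∀ i, g i ∈ 𝔪)
    (hind : ∀ w : Fin n → B, ∑ i, w i * g i ∈ 𝔪 ^ 2 → ∀ i, w i ∈ 𝔪) (w : Fin n → B)
    (hw : ∑ i, w i • δ (g i) = 0) : ∀ i, w i ∈ 𝔪 := by
  obtain ⟨Δ, hΔ⟩ := exists_linear_derivation hres
  refine hind w (Ideal.Quotient.eq_zero_iff_mem.1 ?_)
  have h := congrArg Δ.liftKaehlerDifferential hw
  simp only [map_sum, map_smul, Derivation.liftKaehlerDifferential_comp_D, map_zero] at h
  rw [map_sum]
  refine Eq.trans (Finset.sum_congr rfl fun i _ => ?_) h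
  rw [hΔ _ (hg i), map_mul]
  rfl

include hres in
/-- Generators of the maximal ideal give generators of the differentials. -/
theorem span_D [Module.Finite B (KaehlerDifferential K B)] {n : ℕ} (g : Fin n → B) (hg : Ideal.span (Set.range g) = 𝔪) :
    Submodule.span B (Set.range fun i => δ (g i)) = ⊤ := by
  refine eq_top_iff.2 (Submodule.le_of_le_smul_of_le_jacobson_bot (I := 𝔪) Module.Finite.fg_top
    (IsLocalRing.maximalIdeal_le_jacobson _) ?_)
  rw [← KaehlerDifferential.span_range_derivation K B, Submodule.span_le]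
  rintro _ ⟨a, rfl⟩
  obtain ⟨c, hc⟩ := hres a
  have h1 : δ a = δ (a - ι c) := by simp
  obtain ⟨b, hb⟩ := Ideal.mem_span_range_iff_exists_fun.1 (hg.ge hc)
  rw [SetLike.mem_coe, h1, ← hb, map_sum]
  refine Submodule.sum_mem _ fun i _ => ?_
  rw [Derivation.leibniz]
  exact Submodule.add_mem_sup (Submodule.smul_mem _ _ (Submodule.subset_span ⟨i, rfl⟩))
    (Submodule.smul_mem_smul (hg.le (Ideal.subset_span ⟨i, rfl⟩)) (by rw [KaehlerDifferential.span_range_derivation]; trivial))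

variable [Module.Finite B (KaehlerDifferential K B)]

include hres in
/-- With minimal generators the Fitting ideal lies in a power of the maximal ideal. -/
theorem fitt_le_pow {n : ℕ} (g : Fin n → B) (hg : Ideal.span (Set.range g) = 𝔪)
    (hind : ∀ w : Fin n → B, ∑ i, w i * g i ∈ 𝔪 ^ 2 → ∀ i, w i ∈ 𝔪) :
    Fitt.ideal B Ω 1 ≤ 𝔪 ^ (n - 1) := by
  rw [H29Fitt.ideal_eq _ (span_D hres g hg)]
  refine H29Fitt.J_le fun z e hz => det_mem_pow _ fun a b => ?_
  exact mem_of_rel hres g (fun i => hg.le (Ideal.subset_span ⟨i, rfl⟩)) hind (z b) (hz b) (e a)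

include hres in
/-- The Fitting ideal is the unit ideal exactly if the maximal ideal is principal. -/
theorem fitt_eq_top_iff : Fitt.ideal B Ω 1 = ⊤ ↔ (maximalIdeal B).IsPrincipal := by
  constructor
  · intro h
    obtain ⟨n, g, hg, hind⟩ := exists_minimal (B := B)
    rcases Nat.lt_or_ge 1 n with hn | hn
    · refine absurd (top_le_iff.1 (h ▸ (fitt_le_pow hres g hg hind).trans (Ideal.pow_le_self (by omega)))) ?_
      exact (IsLocalRing.maximalIdeal.isMaximal B).ne_top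
    · rcases Nat.le_one_iff_eq_zero_or_eq_one.1 hn with rfl | rfl
      · exact ⟨⟨0, by rw [← hg]; simp [Set.range_eq_empty]⟩⟩
      · exact ⟨⟨g 0, by rw [← hg, Set.range_unique]; rfl⟩⟩
  · intro hp
    obtain ⟨π, hπ⟩ := hp.principal
    exact H29Fitt.ideal_eq_top_of_span (fun i : Fin 1 => δ (![π] i))
      (span_D hres ![π] (by rw [Matrix.range_cons, Matrix.range_empty, Set.union_empty]; exact hπ.symm)) le_rfl

include hres in
/-- At an ordinary double point the Fitting ideal contains the maximal ideal. -/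
theorem le_fitt_of_pair {x y : B} (h : IsNodePair x y) : 𝔪 ≤ Fitt.ideal B Ω 1 := by
  have hs : Ideal.span (Set.range ![x, y]) = 𝔪 := by
    rw [Matrix.range_cons, Matrix.range_cons, Matrix.range_empty, Set.union_empty, Set.singleton_union]
    exact h.span
  have hx : x ∈ 𝔪 := h.mem_left
  have hy : y ∈ 𝔪 := h.mem_right
  have hspan := span_D hres ![x, y] hs
  -- differentials of the cube of the maximal ideal
  have hcube : ∀ z ∈ 𝔪 ^ 3, δ z ∈ (𝔪 ^ 2) • (⊤ : Submodule B Ω) := by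
    intro z hz
    rw [pow_succ] at hz
    refine Submodule.mul_induction_on hz (fun p hp q hq => ?_) (fun p q hp hq => by rw [map_add]; exact add_mem hp hq)
    rw [Derivation.leibniz]
    refine add_mem (Submodule.smul_mem_smul hp trivial) ?_
    rw [pow_two] at hp
    refine Submodule.mul_induction_on hp (fun s hs t ht => ?_) (fun s t hs ht => by rw [map_add, smul_add]; exact add_mem hs ht)
    rw [Derivation.leibniz, smul_add, smul_smul, smul_smul, pow_two]
    exact add_mem (Submodule.smul_mem_smul (Ideal.mul_mem_mul hq hs) trivial)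
      (Submodule.smul_mem_smul (Ideal.mul_mem_mul hq ht) trivial)
  obtain ⟨a, ha⟩ := (Submodule.mem_ideal_smul_span_iff_exists_sum (𝔪 ^ 2) (fun i => δ (![x, y] i)) (δ (x * y))).1
    (hspan.symm ▸ hcube _ h.mul)
  obtain ⟨ha, hsum⟩ := ha
  rw [Finsupp.sum_fintype _ _ (by simp), Fin.sum_univ_two] at hsum
  let w : Fin 2 → B := ![y - a 0, x - a 1]
  have hw : ∑ i, w i • δ (![x, y] i) = 0 := by
    rw [Fin.sum_univ_two]
    simp only [w, Matrix.cons_val_zero, Matrix.cons_val_one, sub_smul] at hsum ⊢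
    rw [Derivation.leibniz] at hsum
    calc y • δ x - a 0 • δ x + (x • δ y - a 1 • δ y)
        = (x • δ y + y • δ x) - (a 0 • δ x + a 1 • δ y) := by abel
      _ = 0 := by rw [hsum]; exact sub_self _
  have hmem : ∀ i, w i ∈ Fitt.ideal B Ω 1 := fun i => by
    rw [H29Fitt.ideal_eq _ hspan]
    have := H29Fitt.det_mem_J (R := B) (x := fun i => δ (![x, y] i)) (m := 2 - 1) (z := fun _ => w) (fun _ => hw) (fun _ => i)
    simpa [Matrix.det_unique] using this
  refine Submodule.le_of_le_smul_of_le_jacobson_bot (I := 𝔪) (IsNoetherian.noetherian _)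
    (IsLocalRing.maximalIdeal_le_jacobson _) ?_
  rw [smul_eq_mul, ← pow_two]
  conv_lhs => rw [← h.span]
  rw [Ideal.span_le]
  rintro z (rfl | rfl)
  · rw [SetLike.mem_coe, show z = (z - a 1) + a 1 by ring]
    exact Submodule.add_mem_sup (hmem 1) (ha 1)
  · rw [SetLike.mem_coe, show z = (z - a 0) + a 0 by ring]
    exact Submodule.add_mem_sup (hmem 0) (ha 0)

omit [Module.Finite B (KaehlerDifferential K B)] in
include hres in
/-- Partial derivatives modulo an ideal containing the gradients of the quadratic relations. -/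
theorem exists_partials {x y : B} (hs : Ideal.span {x, y} = 𝔪)
    (hind : ∀ p q : B, p * x + q * y ∈ 𝔪 ^ 2 → p ∈ 𝔪 ∧ q ∈ 𝔪) (J : Ideal B) (hJ : 𝔪 ^ 2 ≤ J)
    (hQ : ∀ r s t : K, ι r * x ^ 2 + ι s * (x * y) + ι t * y ^ 2 ∈ 𝔪 ^ 3 →
      ι (2 * r) * x + ι s * y ∈ J ∧ ι s * x + ι (2 * t) * y ∈ J) :
    ∃ D₁ D₂ : Derivation K B (B ⧸ J), D₁ x = 1 ∧ D₁ y = 0 ∧ D₂ x = 0 ∧ D₂ y = 1 := by
  have hx : x ∈ 𝔪 := hs.le (Ideal.subset_span (by simp))
  have hy : y ∈ 𝔪 := hs.le (Ideal.subset_span (by simp))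
  have hxy2 : x ^ 2 ∈ 𝔪 ^ 2 ∧ x * y ∈ 𝔪 ^ 2 ∧ y ^ 2 ∈ 𝔪 ^ 2 :=
    ⟨Ideal.pow_mem_pow hx 2, pow_two 𝔪 ▸ Ideal.mul_mem_mul hx hy, Ideal.pow_mem_pow hy 2⟩
  let P : B → K × K × K × K × K × K → Prop := fun a v =>
    a - (ι v.1 + ι v.2.1 * x + ι v.2.2.1 * y + ι v.2.2.2.1 * x ^ 2 + ι v.2.2.2.2.1 * (x * y) + ι v.2.2.2.2.2 * y ^ 2) ∈ 𝔪 ^ 3
  have hex : ∀ a, ∃ v, P a v := by
    intro a
    obtain ⟨c, hc⟩ := hres a
    obtain ⟨p, q, hpq⟩ := Ideal.mem_span_pair.1 (hs.ge hc)
    obtain ⟨cp, hcp⟩ := hres p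
    obtain ⟨cq, hcq⟩ := hres q
    obtain ⟨α, β, hαβ⟩ := Ideal.mem_span_pair.1 (hs.ge hcp)
    obtain ⟨γ, ε, hγε⟩ := Ideal.mem_span_pair.1 (hs.ge hcq)
    obtain ⟨cα, hα⟩ := hres α
    obtain ⟨cβ, hβ⟩ := hres β
    obtain ⟨cγ, hγ⟩ := hres γ
    obtain ⟨cε, hε⟩ := hres ε
    refine ⟨(c, cp, cq, cα, cβ + cγ, cε), ?_⟩
    show _ ∈ _
    rw [show a - (ι c + ι cp * x + ι cq * y + ι cα * x ^ 2 + ι (cβ + cγ) * (x * y) + ι cε * y ^ 2) =
      (α - ι cα) * x ^ 2 + ((β - ι cβ) + (γ - ι cγ)) * (x * y) + (ε - ι cε) * y ^ 2 by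
      rw [map_add]; linear_combination -hpq - x * hαβ - y * hγε, pow_succ' 𝔪 2]
    exact add_mem (add_mem (Ideal.mul_mem_mul hα hxy2.1) (Ideal.mul_mem_mul (add_mem hβ hγ) hxy2.2.1))
      (Ideal.mul_mem_mul hε hxy2.2.2)
  let G₁ : K × K × K × K × K × K → B := fun v => ι v.2.1 + ι (2 * v.2.2.2.1) * x + ι v.2.2.2.2.1 * y
  let G₂ : K × K × K × K × K × K → B := fun v => ι v.2.2.1 + ι v.2.2.2.2.1 * x + ι (2 * v.2.2.2.2.2) * y
  have hwd : ∀ a v v', P a v → P a v' → G₁ v - G₁ v' ∈ J ∧ G₂ v - G₂ v' ∈ J := by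
    rintro a ⟨c, p, q, r, s, t⟩ ⟨c', p', q', r', s', t'⟩ hv hv'
    have hd := sub_mem hv' hv
    simp only [P] at hd
    ring_nf at hd
    have hd' : ι (c - c') + (ι (p - p') * x + ι (q - q') * y) +
        (ι (r - r') * x ^ 2 + ι (s - s') * (x * y) + ι (t - t') * y ^ 2) ∈ 𝔪 ^ 3 := by
      convert hd using 1
      simp only [map_sub]; ring
    have h2 : ι (r - r') * x ^ 2 + ι (s - s') * (x * y) + ι (t - t') * y ^ 2 ∈ 𝔪 ^ 2 :=
      add_mem (add_mem (Ideal.mul_mem_left _ _ hxy2.1) (Ideal.mul_mem_left _ _ hxy2.2.1)) (Ideal.mul_mem_left _ _ hxy2.2.2)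
    have h1 : ι (p - p') * x + ι (q - q') * y ∈ 𝔪 := add_mem (Ideal.mul_mem_left _ _ hx) (Ideal.mul_mem_left _ _ hy)
    have hc0 : c = c' := eq_of_sub_mem (b := ι c) (by simp) (by
      rw [← map_sub]
      have := sub_mem (Ideal.pow_le_self (by norm_num) hd') (add_mem h1 (Ideal.pow_le_self (by norm_num) h2))
      convert this using 1; ring)
    subst hc0
    simp only [sub_self, map_zero, zero_add] at hd'
    obtain ⟨hp, hq⟩ := hind (ι (p - p')) (ι (q - q')) (by
      have := sub_mem (Ideal.pow_le_pow_right (show 2 ≤ 3 by norm_num) hd') h2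
      simpa using this)
    have hp0 : p = p' := eq_of_sub_mem (b := ι p) (by simp) (by rwa [← map_sub])
    have hq0 : q = q' := eq_of_sub_mem (b := ι q) (by simp) (by rwa [← map_sub])
    subst hp0 hq0
    simp only [sub_self, map_zero, zero_mul, zero_add, add_zero] at hd'
    obtain ⟨hg1, hg2⟩ := hQ _ _ _ hd'
    exact ⟨by convert hg1 using 1; simp only [G₁, map_sub, map_mul]; ring,
      by convert hg2 using 1; simp only [G₂, map_sub, map_mul]; ring⟩
  choose v hv using hex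
  have hG : ∀ a u, P a u → Ideal.Quotient.mk J (G₁ (v a)) = Ideal.Quotient.mk J (G₁ u) ∧
      Ideal.Quotient.mk J (G₂ (v a)) = Ideal.Quotient.mk J (G₂ u) := fun a u hu =>
    ⟨Ideal.Quotient.eq.2 (hwd a _ _ (hv a) hu).1, Ideal.Quotient.eq.2 (hwd a _ _ (hv a) hu).2⟩
  have hadd : ∀ a b, P (a + b) (v a + v b) := fun a b => by
    have := add_mem (hv a) (hv b)
    simp only [P, Prod.fst_add, Prod.snd_add, map_add] at this ⊢
    convert this using 1; ring
  have hsmul : ∀ (k : K) a, P (k • a) (k • v a) := fun k a => by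
    have := Ideal.mul_mem_left (𝔪 ^ 3) (ι k) (hv a)
    simp only [P, Prod.smul_fst, Prod.smul_snd, smul_eq_mul, map_mul] at this ⊢
    rw [Algebra.smul_def k a]
    convert this using 1; ring
  have hmul : ∀ a b, P (a * b) ((v a).1 * (v b).1, (v a).1 * (v b).2.1 + (v b).1 * (v a).2.1,
      (v a).1 * (v b).2.2.1 + (v b).1 * (v a).2.2.1,
      (v a).1 * (v b).2.2.2.1 + (v b).1 * (v a).2.2.2.1 + (v a).2.1 * (v b).2.1,
      (v a).1 * (v b).2.2.2.2.1 + (v b).1 * (v a).2.2.2.2.1 + ((v a).2.1 * (v b).2.2.1 + (v a).2.2.1 * (v b).2.1),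
      (v a).1 * (v b).2.2.2.2.2 + (v b).1 * (v a).2.2.2.2.2 + (v a).2.2.1 * (v b).2.2.1) := fun a b => by
    have ha := hv a
    have hb := hv b
    generalize v a = ua at ha ⊢
    generalize v b = ub at hb ⊢
    obtain ⟨c, p, q, r, s, t⟩ := ua
    obtain ⟨c', p', q', r', s', t'⟩ := ub
    simp only [P, map_add, map_mul] at ha hb ⊢
    set L := ι p * x + ι q * y with hL
    set L' := ι p' * x + ι q' * y with hL'
    set Q := ι r * x ^ 2 + ι s * (x * y) + ι t * y ^ 2 with hQ'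
    set Q' := ι r' * x ^ 2 + ι s' * (x * y) + ι t' * y ^ 2 with hQ''
    have hLm : L ∈ 𝔪 := add_mem (Ideal.mul_mem_left _ _ hx) (Ideal.mul_mem_left _ _ hy)
    have hLm' : L' ∈ 𝔪 := add_mem (Ideal.mul_mem_left _ _ hx) (Ideal.mul_mem_left _ _ hy)
    have hQm : Q ∈ 𝔪 ^ 2 :=
      add_mem (add_mem (Ideal.mul_mem_left _ _ hxy2.1) (Ideal.mul_mem_left _ _ hxy2.2.1)) (Ideal.mul_mem_left _ _ hxy2.2.2)
    have hQm' : Q' ∈ 𝔪 ^ 2 :=
      add_mem (add_mem (Ideal.mul_mem_left _ _ hxy2.1) (Ideal.mul_mem_left _ _ hxy2.2.1)) (Ideal.mul_mem_left _ _ hxy2.2.2)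
    have e1 : L * Q' ∈ 𝔪 ^ 3 := pow_succ' 𝔪 2 ▸ Ideal.mul_mem_mul hLm hQm'
    have e2 : Q * (L' + Q') ∈ 𝔪 ^ 3 := pow_succ 𝔪 2 ▸
      Ideal.mul_mem_mul hQm (add_mem hLm' (Ideal.pow_le_self (by norm_num) hQm'))
    have := add_mem (add_mem (add_mem (Ideal.mul_mem_right b _ ha) (Ideal.mul_mem_left _ (ι c + L + Q) hb)) e1) e2
    convert this using 1
    simp only [hL, hL', hQ', hQ'']
    ring
  have key : ∀ (a b : B) (u : K × K × K × K × K × K → B) (g : B), P a (v a) → P b (v b) →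
      (g - (u (v b) * (ι (v a).1 + ι (v a).2.1 * x + ι (v a).2.2.1 * y) +
        u (v a) * (ι (v b).1 + ι (v b).2.1 * x + ι (v b).2.2.1 * y))) ∈ J →
      Ideal.Quotient.mk J g = a • Ideal.Quotient.mk J (u (v b)) + b • Ideal.Quotient.mk J (u (v a)) := by
    intro a b u g ha hb hg
    have hlin : ∀ a, P a (v a) → a - (ι (v a).1 + ι (v a).2.1 * x + ι (v a).2.2.1 * y) ∈ 𝔪 ^ 2 := fun a ha => by
      have hQm : ι (v a).2.2.2.1 * x ^ 2 + ι (v a).2.2.2.2.1 * (x * y) + ι (v a).2.2.2.2.2 * y ^ 2 ∈ 𝔪 ^ 2 :=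
        add_mem (add_mem (Ideal.mul_mem_left _ _ hxy2.1) (Ideal.mul_mem_left _ _ hxy2.2.1)) (Ideal.mul_mem_left _ _ hxy2.2.2)
      convert add_mem (Ideal.pow_le_pow_right (show 2 ≤ 3 by norm_num) ha) hQm using 1
      ring
    show Ideal.Quotient.mk J g = Ideal.Quotient.mk J (a * u (v b)) + Ideal.Quotient.mk J (b * u (v a))
    rw [← map_add, Ideal.Quotient.eq]
    convert sub_mem hg (hJ (add_mem (Ideal.mul_mem_left _ (u (v b)) (hlin a ha)) (Ideal.mul_mem_left _ (u (v a)) (hlin b hb)))) using 1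
    ring
  have hlast : ∀ z ∈ 𝔪 ^ 2, z ∈ J := fun z hz => hJ hz
  let D₁ : B →ₗ[K] B ⧸ J :=
    { toFun := fun a => Ideal.Quotient.mk J (G₁ (v a))
      map_add' := fun a b => by
        rw [(hG _ _ (hadd a b)).1, ← map_add]; congr 1; simp only [G₁, Prod.fst_add, Prod.snd_add, map_add, map_mul]; ring
      map_smul' := fun k a => by
        rw [(hG _ _ (hsmul k a)).1, RingHom.id_apply, Algebra.smul_def k (Ideal.Quotient.mk J (G₁ (v a)))]
        show _ = Ideal.Quotient.mk J (ι k) * _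
        rw [← map_mul]; congr 1; simp only [G₁, Prod.smul_fst, Prod.smul_snd, smul_eq_mul, map_mul]; ring }
  let D₂ : B →ₗ[K] B ⧸ J :=
    { toFun := fun a => Ideal.Quotient.mk J (G₂ (v a))
      map_add' := fun a b => by
        rw [(hG _ _ (hadd a b)).2, ← map_add]; congr 1; simp only [G₂, Prod.fst_add, Prod.snd_add, map_add, map_mul]; ring
      map_smul' := fun k a => by
        rw [(hG _ _ (hsmul k a)).2, RingHom.id_apply, Algebra.smul_def k (Ideal.Quotient.mk J (G₂ (v a)))]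
        show _ = Ideal.Quotient.mk J (ι k) * _
        rw [← map_mul]; congr 1; simp only [G₂, Prod.smul_fst, Prod.smul_snd, smul_eq_mul, map_mul]; ring }
  refine ⟨Derivation.mk' D₁ fun a b => ((hG _ _ (hmul a b)).1.trans (key a b G₁ _ (hv a) (hv b) ?_)),
    Derivation.mk' D₂ fun a b => ((hG _ _ (hmul a b)).2.trans (key a b G₂ _ (hv a) (hv b) ?_)), ?_, ?_, ?_, ?_⟩
  · rcases v a with ⟨c, p, q, r, s, t⟩
    rcases v b with ⟨c', p', q', r', s', t'⟩
    convert neg_mem (hlast _ (add_mem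
      (Ideal.mul_mem_mul (add_mem (Ideal.mul_mem_left 𝔪 (ι (2 * r')) hx) (Ideal.mul_mem_left 𝔪 (ι s') hy))
        (add_mem (Ideal.mul_mem_left 𝔪 (ι p) hx) (Ideal.mul_mem_left 𝔪 (ι q) hy)) |> (pow_two 𝔪 ▸ ·))
      (Ideal.mul_mem_mul (add_mem (Ideal.mul_mem_left 𝔪 (ι (2 * r)) hx) (Ideal.mul_mem_left 𝔪 (ι s) hy))
        (add_mem (Ideal.mul_mem_left 𝔪 (ι p') hx) (Ideal.mul_mem_left 𝔪 (ι q') hy)) |> (pow_two 𝔪 ▸ ·)))) using 1
    simp only [G₁, map_add, map_mul, map_ofNat]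
    ring
  · rcases v a with ⟨c, p, q, r, s, t⟩
    rcases v b with ⟨c', p', q', r', s', t'⟩
    convert neg_mem (hlast _ (add_mem
      (Ideal.mul_mem_mul (add_mem (Ideal.mul_mem_left 𝔪 (ι s') hx) (Ideal.mul_mem_left 𝔪 (ι (2 * t')) hy))
        (add_mem (Ideal.mul_mem_left 𝔪 (ι p) hx) (Ideal.mul_mem_left 𝔪 (ι q) hy)) |> (pow_two 𝔪 ▸ ·))
      (Ideal.mul_mem_mul (add_mem (Ideal.mul_mem_left 𝔪 (ι s) hx) (Ideal.mul_mem_left 𝔪 (ι (2 * t)) hy))
        (add_mem (Ideal.mul_mem_left 𝔪 (ι p') hx) (Ideal.mul_mem_left 𝔪 (ι q') hy)) |> (pow_two 𝔪 ▸ ·)))) using 1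
    simp only [G₂, map_add, map_mul, map_ofNat]
    ring
  · show Ideal.Quotient.mk J (G₁ (v x)) = 1
    rw [(hG x (0, 1, 0, 0, 0, 0) (by simp [P])).1]; simp [G₁]
  · show Ideal.Quotient.mk J (G₁ (v y)) = 0
    rw [(hG y (0, 0, 1, 0, 0, 0) (by simp [P])).1]; simp [G₁]
  · show Ideal.Quotient.mk J (G₂ (v x)) = 0
    rw [(hG x (0, 1, 0, 0, 0, 0) (by simp [P])).2]; simp [G₂]
  · show Ideal.Quotient.mk J (G₂ (v y)) = 1
    rw [(hG y (0, 0, 1, 0, 0, 0) (by simp [P])).2]; simp [G₂]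

include hres in
/-- A reduced local ring whose Fitting ideal is the maximal ideal is an ordinary double point. -/
theorem isOrdDoublePt_of_fitt [IsAlgClosed K] [_root_.IsReduced B] (hnp : ¬ (maximalIdeal B).IsPrincipal)
    (hF : 𝔪 ≤ Fitt.ideal B Ω 1) : Curv2.IsOrdDoublePt K B := by
  obtain ⟨n, g, hg, hind⟩ := exists_minimal (B := B)
  obtain rfl : n = 2 := by
    by_contra hn
    rcases Nat.lt_or_ge n 2 with h | h
    · interval_cases n
      · exact hnp ⟨⟨0, by rw [← hg]; simp [Set.range_eq_empty]⟩⟩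
      · exact hnp ⟨⟨g 0, by rw [← hg, Set.range_unique]; rfl⟩⟩
    · have h2 : 𝔪 ≤ 𝔪 ^ 2 := hF.trans ((fitt_le_pow hres g hg hind).trans (Ideal.pow_le_pow_right (by omega)))
      refine hnp ⟨⟨0, ?_⟩⟩
      exact (span_eq_of_le_sup_sq ((Ideal.span_singleton_le_iff_mem _).2 (zero_mem _)) (h2.trans le_sup_right)).symm
  set x := g 0 with hxdef
  set y := g 1 with hydef
  have hgx : g = ![x, y] := by funext i; fin_cases i <;> rfl
  have hs : Ideal.span {x, y} = 𝔪 := by
    rw [← hg, hgx, Matrix.range_cons, Matrix.range_cons, Matrix.range_empty, Set.union_empty, Set.singleton_union]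
  have hx : x ∈ 𝔪 := hs.le (Ideal.subset_span (by simp))
  have hy : y ∈ 𝔪 := hs.le (Ideal.subset_span (by simp))
  by_cases hnd : ∃ r s t : K, ι r * x ^ 2 + ι s * (x * y) + ι t * y ^ 2 ∈ 𝔪 ^ 3 ∧ 4 * r * t - s ^ 2 ≠ 0
  · obtain ⟨r, s, t, hq, hd⟩ := hnd
    haveI : IsLocalHom (algebraMap B B) := ⟨fun a ha => ha⟩
    refine isOrdDoublePt_of_quad (A := B) (B := B) (by rw [Algebra.algebraMap_self, Ideal.map_id]) hres hnp hs
      (a := ι r) (b := ι s) (c := ι t) ?_ (by simpa [mul_assoc] using hq)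
    rw [residue_ne_zero_iff_isUnit]
    simpa only [map_sub, map_mul, map_pow, map_ofNat] using (Ne.isUnit hd).map ι
  push Not at hnd
  exfalso
  set S := {z : B | ∃ r s t : K, ι r * x ^ 2 + ι s * (x * y) + ι t * y ^ 2 ∈ 𝔪 ^ 3 ∧
    (z = ι (2 * r) * x + ι s * y ∨ z = ι s * x + ι (2 * t) * y)} with hS
  obtain ⟨D₁, D₂, h11, h12, h21, h22⟩ := exists_partials hres hs
    (fun p q hpq => by
      have := hind ![p, q] (by simpa [Fin.sum_univ_two, ← hxdef, ← hydef] using hpq)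
      exact ⟨this 0, this 1⟩)
    (𝔪 ^ 2 ⊔ Ideal.span S) le_sup_left
    (fun r s t h => ⟨Ideal.mem_sup_right (Ideal.subset_span ⟨r, s, t, h, Or.inl rfl⟩),
      Ideal.mem_sup_right (Ideal.subset_span ⟨r, s, t, h, Or.inr rfl⟩)⟩)
  have hFJ : Fitt.ideal B Ω 1 ≤ 𝔪 ^ 2 ⊔ Ideal.span S := by
    rw [H29Fitt.ideal_eq _ (span_D hres g hg)]
    refine H29Fitt.J_le fun z e hz => ?_
    have key : ∀ i, z 0 i ∈ 𝔪 ^ 2 ⊔ Ideal.span S := by
      have h0 := hz 0
      rw [Fin.sum_univ_two, ← hxdef, ← hydef] at h0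
      intro i
      fin_cases i
      · have := congrArg D₁.liftKaehlerDifferential h0
        simp only [map_add, map_smul, Derivation.liftKaehlerDifferential_comp_D, h11, h12, map_zero, smul_zero, add_zero] at this
        exact Ideal.Quotient.eq_zero_iff_mem.1 ((mul_one _).symm.trans this)
      · have := congrArg D₂.liftKaehlerDifferential h0
        simp only [map_add, map_smul, Derivation.liftKaehlerDifferential_comp_D, h21, h22, map_zero, smul_zero, zero_add] at this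
        exact Ideal.Quotient.eq_zero_iff_mem.1 ((mul_one _).symm.trans this)
    show (Matrix.of fun a b : Fin 1 => z b (e a)).det ∈ _
    rw [Matrix.det_fin_one]
    exact key (e 0)
  obtain ⟨l, hl, hSl⟩ : ∃ l ∈ 𝔪, ∀ z ∈ S, z ∈ Ideal.span {l} := by
    by_cases h2 : (2 : K) = 0
    · refine ⟨0, zero_mem _, fun z hz => ?_⟩
      obtain ⟨r, s, t, hq, hz⟩ := hz
      have hs0 : s = 0 := by
        have := hnd r s t hq
        exact pow_eq_zero_iff (n := 2) two_ne_zero |>.1 (by linear_combination (2 * r * t) * h2 - this)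
      rcases hz with rfl | rfl <;> simp [hs0, h2]
    by_cases hz0 : ∃ r s t : K, ι r * x ^ 2 + ι s * (x * y) + ι t * y ^ 2 ∈ 𝔪 ^ 3 ∧ ¬ (r = 0 ∧ s = 0 ∧ t = 0)
    · obtain ⟨r₀, s₀, t₀, hq₀, hne⟩ := hz0
      obtain ⟨τ, hτm, hτr⟩ := exists_regular_of_isReduced B fun hF' => hnp (by
        rw [IsLocalRing.isField_iff_maximalIdeal_eq.1 hF']; exact bot_isPrincipal)
      have htwo : ∀ z, z ∈ 𝔪 ^ 2 → x ^ 2 ∈ Ideal.span {z} ⊔ 𝔪 ^ 3 → x * y ∈ Ideal.span {z} ⊔ 𝔪 ^ 3 →
          y ^ 2 ∈ Ideal.span {z} ⊔ 𝔪 ^ 3 → False := fun z hz h1 h2 h3 => by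
        refine pow_ne_span_singleton hτm hτr hnp one_le_two
          (le_antisymm ?_ ((Ideal.span_singleton_le_iff_mem _).2 hz))
        refine Submodule.le_of_le_smul_of_le_jacobson_bot (I := 𝔪) (IsNoetherian.noetherian _)
          (IsLocalRing.maximalIdeal_le_jacobson _) ?_
        rw [smul_eq_mul, ← pow_succ']
        conv_lhs => rw [pow_two, ← hs]
        rw [Ideal.span_mul_span', Ideal.span_le]
        rintro _ ⟨a, ha, b, hb, rfl⟩
        rcases ha with rfl | rfl <;> rcases hb with rfl | rfl <;> simp only [SetLike.mem_coe] <;>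
          first
            | (rw [← pow_two]; first | exact h1 | exact h3)
            | exact h2
            | (rw [mul_comm]; exact h2)
      have hxy2 : x ^ 2 ∈ 𝔪 ^ 2 ∧ x * y ∈ 𝔪 ^ 2 ∧ y ^ 2 ∈ 𝔪 ^ 2 :=
        ⟨Ideal.pow_mem_pow hx 2, pow_two 𝔪 ▸ Ideal.mul_mem_mul hx hy, Ideal.pow_mem_pow hy 2⟩
      -- two relations with nonzero minor give a cyclic square
      have helim : ∀ (w : B) (Δ : K), Δ ≠ 0 → ∀ z a, ι Δ * w - a * z ∈ 𝔪 ^ 3 → w ∈ Ideal.span {z} ⊔ 𝔪 ^ 3 := by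
        intro w Δ hΔ z a h
        obtain ⟨d, hd⟩ := ((Ne.isUnit hΔ).map ι).exists_left_inv
        rw [show w = (d * a) * z + d * (ι Δ * w - a * z) by linear_combination -w * hd]
        exact Submodule.add_mem_sup (Ideal.mem_span_singleton'.2 ⟨_, rfl⟩) (Ideal.mul_mem_left _ _ h)
      have hprop : ∀ r s t : K, ι r * x ^ 2 + ι s * (x * y) + ι t * y ^ 2 ∈ 𝔪 ^ 3 →
          r₀ * s = r * s₀ ∧ r₀ * t = r * t₀ ∧ s₀ * t = s * t₀ := by
        intro r s t hq
        refine ⟨?_, ?_, ?_⟩ <;> by_contra hm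
        · refine htwo (y ^ 2) hxy2.2.2 ?_ ?_ (Ideal.mem_sup_left (Ideal.mem_span_singleton_self _))
          · refine helim _ _ (sub_ne_zero.2 hm) _ (ι (s₀ * t - s * t₀)) ?_
            convert sub_mem (Ideal.mul_mem_left _ (ι s) hq₀) (Ideal.mul_mem_left _ (ι s₀) hq) using 1
            simp only [map_sub, map_mul]; ring
          · refine helim _ _ (sub_ne_zero.2 hm) _ (ι (r * t₀ - r₀ * t)) ?_
            convert sub_mem (Ideal.mul_mem_left _ (ι r₀) hq) (Ideal.mul_mem_left _ (ι r) hq₀) using 1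
            simp only [map_sub, map_mul]; ring
        · refine htwo (x * y) hxy2.2.1 ?_ (Ideal.mem_sup_left (Ideal.mem_span_singleton_self _)) ?_
          · refine helim _ _ (sub_ne_zero.2 hm) _ (ι (s * t₀ - s₀ * t)) ?_
            convert sub_mem (Ideal.mul_mem_left _ (ι t) hq₀) (Ideal.mul_mem_left _ (ι t₀) hq) using 1
            simp only [map_sub, map_mul]; ring
          · refine helim _ _ (sub_ne_zero.2 hm) _ (ι (r * s₀ - r₀ * s)) ?_
            convert sub_mem (Ideal.mul_mem_left _ (ι r₀) hq) (Ideal.mul_mem_left _ (ι r) hq₀) using 1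
            simp only [map_sub, map_mul]; ring
        · refine htwo (x ^ 2) hxy2.1 (Ideal.mem_sup_left (Ideal.mem_span_singleton_self _)) ?_ ?_
          · refine helim _ _ (sub_ne_zero.2 hm) _ (ι (r * t₀ - r₀ * t)) ?_
            convert sub_mem (Ideal.mul_mem_left _ (ι t) hq₀) (Ideal.mul_mem_left _ (ι t₀) hq) using 1
            simp only [map_sub, map_mul]; ring
          · refine helim _ _ (sub_ne_zero.2 hm) _ (ι (r₀ * s - r * s₀)) ?_
            convert sub_mem (Ideal.mul_mem_left _ (ι s₀) hq) (Ideal.mul_mem_left _ (ι s) hq₀) using 1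
            simp only [map_sub, map_mul]; ring
      have hd₀ := hnd r₀ s₀ t₀ hq₀
      by_cases hr₀ : r₀ = 0
      · refine ⟨y, hy, fun z hz => ?_⟩
        obtain ⟨r, s, t, hq, hz⟩ := hz
        have hs₀ : s₀ = 0 := pow_eq_zero_iff (n := 2) two_ne_zero |>.1 (by rw [hr₀] at hd₀; linear_combination -hd₀)
        have ht₀ : t₀ ≠ 0 := fun h => hne ⟨hr₀, hs₀, h⟩
        obtain ⟨-, e2, e3⟩ := hprop r s t hq
        rw [hr₀] at e2
        rw [hs₀] at e3
        have hr : r = 0 := (mul_eq_zero.1 (by linear_combination -e2 : r * t₀ = 0)).resolve_right ht₀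
        have hs' : s = 0 := (mul_eq_zero.1 (by linear_combination -e3 : s * t₀ = 0)).resolve_right ht₀
        rcases hz with rfl | rfl <;> simp only [hr, hs', mul_zero, map_zero, zero_mul, zero_add, add_zero] <;>
          first | exact zero_mem _ | exact Ideal.mul_mem_left _ _ (Ideal.mem_span_singleton_self _)
      · refine ⟨ι (2 * r₀) * x + ι s₀ * y, add_mem (Ideal.mul_mem_left _ _ hx) (Ideal.mul_mem_left _ _ hy), fun z hz => ?_⟩
        obtain ⟨r, s, t, hq, hz⟩ := hz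
        obtain ⟨e1, e2, -⟩ := hprop r s t hq
        rw [Ideal.mem_span_singleton']
        rcases hz with rfl | rfl
        · refine ⟨ι (r / r₀), ?_⟩
          rw [mul_add, ← mul_assoc, ← mul_assoc, ← map_mul, ← map_mul]
          congr 2 <;> congr 1 <;> field_simp
          linear_combination -e1
        · refine ⟨ι (s / (2 * r₀)), ?_⟩
          have hst : s * s₀ = 4 * r₀ * t := mul_left_cancel₀ hr₀ (by linear_combination s₀ * e1 - r * hd₀ - 4 * r₀ * e2)
          rw [mul_add, ← mul_assoc, ← mul_assoc, ← map_mul, ← map_mul]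
          congr 2 <;> congr 1 <;> field_simp
          linear_combination hst
    · push Not at hz0
      refine ⟨0, zero_mem _, fun z hz => ?_⟩
      obtain ⟨r, s, t, hq, hz⟩ := hz
      obtain ⟨hr, hs', ht⟩ := hz0 r s t hq
      rcases hz with rfl | rfl <;> simp [hr, hs', ht]
  refine hnp ⟨⟨l, ?_⟩⟩
  refine (span_eq_of_le_sup_sq ((Ideal.span_singleton_le_iff_mem _).2 hl) ?_).symm
  exact (hF.trans hFJ).trans (sup_le le_sup_right (le_sup_of_le_left (Ideal.span_le.2 hSl)))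

end Groth.Agent.H29Node.FittLocal
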