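import Groth.Agent.H29Node.QuadRing
import Groth.Agent.H11Node.Ring

/-!
# Nodes in flat extensions: no ramification, and quadratic relations
-/

set_option autoImplicit false
set_option linter.style.haveILetI false

universe u

open IsLocalRing MvPowerSeries

namespace Groth.Agent.H29Node

section NonPrincipal

variable {A : Type u} [CommRing A] [IsLocalRing A] [IsNoetherianRing A]

/-- A nonprincipal maximal ideal has two elements independent modulo its square. -/
theorem exists_indep_of_not_principal (h : ¬ (maximalIdeal A).IsPrincipal) :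
    ∃ g l, g ∈ maximalIdeal A ∧ l ∈ maximalIdeal A ∧ ∀ p q : A, p * g + q * l ∈ maximalIdeal A ^ 2 →
      p ∈ maximalIdeal A ∧ q ∈ maximalIdeal A := by
  have key : ∀ g ∈ maximalIdeal A, ∃ l ∈ maximalIdeal A, l ∉ Ideal.span {g} ⊔ maximalIdeal A ^ 2 := fun g hg => by
    by_contra hcon
    push Not at hcon
    exact h ⟨⟨g, (span_eq_of_le_sup_sq ((Ideal.span_singleton_le_iff_mem _).2 hg) hcon).symm⟩⟩
  obtain ⟨g, hg, hg2⟩ := key 0 (zero_mem _)
  obtain ⟨l, hl, hl2⟩ := key g hg
  refine ⟨g, l, hg, hl, fun p q hpq => ?_⟩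
  have hq : q ∈ maximalIdeal A := by
    by_contra hqu
    obtain ⟨q', hq'⟩ := (IsLocalRing.notMem_maximalIdeal.1 hqu).exists_left_inv
    refine hl2 ?_
    rw [show l = -(q' * p) * g + q' * (p * g + q * l) by linear_combination -l * hq']
    exact Submodule.add_mem_sup (Ideal.mem_span_singleton'.2 ⟨_, rfl⟩) (Ideal.mul_mem_left _ _ hpq)
  refine ⟨?_, hq⟩
  by_contra hpu
  obtain ⟨p', hp'⟩ := (IsLocalRing.notMem_maximalIdeal.1 hpu).exists_left_inv
  refine hg2 (Ideal.mem_sup_right ?_)
  rw [show g = p' * ((p * g + q * l) - q * l) by linear_combination -g * hp']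
  exact Ideal.mul_mem_left _ _ (sub_mem hpq (pow_two (maximalIdeal A) ▸ Ideal.mul_mem_mul hq hl))

omit [IsNoetherianRing A] in
/-- Two independent elements prevent the maximal ideal from being principal. -/
theorem not_principal_of_indep {g l : A} (hg : g ∈ maximalIdeal A) (hl : l ∈ maximalIdeal A)
    (h : ∀ p q : A, p * g + q * l ∈ maximalIdeal A ^ 2 → p ∈ maximalIdeal A ∧ q ∈ maximalIdeal A) :
    ¬ (maximalIdeal A).IsPrincipal := fun hp => by
  obtain ⟨π, hπ⟩ := hp.principal
  have hπ' : maximalIdeal A = Ideal.span {π} := hπ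
  obtain ⟨r, hr⟩ := Ideal.mem_span_singleton'.1 (hπ'.le hg)
  obtain ⟨s, hs⟩ := Ideal.mem_span_singleton'.1 (hπ'.le hl)
  obtain ⟨-, hrm⟩ := h s (-r) (by
    rw [show s * g + -r * l = 0 by rw [← hr, ← hs]; ring]
    exact zero_mem _)
  refine (h 1 0 ?_).1 isUnit_one
  rw [one_mul, zero_mul, add_zero, ← hr, pow_two]
  exact Ideal.mul_mem_mul (neg_mem_iff.1 hrm) (hπ'.ge (Ideal.mem_span_singleton_self π))

/-- With a product in `m ^ 3`, the powers of `m` are spanned by pure powers. -/
theorem pow_le_of_mul {x y : A} (hs : Ideal.span {x, y} = maximalIdeal A) (hm : x * y ∈ maximalIdeal A ^ 3)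
    {n : ℕ} (hn : 1 ≤ n) :
    maximalIdeal A ^ n ≤ Ideal.span {x ^ n, y ^ n} ⊔ maximalIdeal A ^ (n + 1) := by
  have hx : x ∈ maximalIdeal A := hs.le (Ideal.subset_span (by simp))
  have hy : y ∈ maximalIdeal A := hs.le (Ideal.subset_span (by simp))
  induction n, hn using Nat.le_induction with
  | base => refine le_trans ?_ le_sup_left; rw [pow_one, pow_one, pow_one, hs]
  | succ n hn ih =>
    rw [pow_succ]
    refine le_trans (Ideal.mul_mono_left ih) ?_
    rw [Ideal.sup_mul, ← pow_succ]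
    refine sup_le ?_ le_sup_right
    conv_lhs => rw [← hs]
    rw [Ideal.span_mul_span', Ideal.span_le]
    obtain ⟨n, rfl⟩ : ∃ k, n = k + 1 := ⟨n - 1, by omega⟩
    rintro z ⟨e, he, w, hw, rfl⟩
    rcases he with he | he <;> rcases hw with hw | hw <;> rw [he, hw]
    · exact Ideal.mem_sup_left (Ideal.subset_span (Or.inl (by simp [pow_succ])))
    · refine Ideal.mem_sup_right ?_
      show x ^ (n + 1) * y ∈ _
      rw [show x ^ (n + 1) * y = x ^ n * (x * y) by ring, show n + 1 + 1 + 1 = n + 3 by omega, pow_add]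
      exact Ideal.mul_mem_mul (Ideal.pow_mem_pow hx n) hm
    · refine Ideal.mem_sup_right ?_
      show y ^ (n + 1) * x ∈ _
      rw [show y ^ (n + 1) * x = y ^ n * (x * y) by ring, show n + 1 + 1 + 1 = n + 3 by omega, pow_add]
      exact Ideal.mul_mem_mul (Ideal.pow_mem_pow hy n) hm
    · exact Ideal.mem_sup_left (Ideal.subset_span (Or.inr (by simp [pow_succ])))

end NonPrincipal

variable {A B K : Type u} [Field K] [CommRing A] [CommRing B] [IsLocalRing A] [IsLocalRing B] [IsNoetherianRing A]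
  [IsNoetherianRing B] [Algebra A B] [IsLocalHom (algebraMap A B)] [Module.Flat A B] [Algebra K B]

local notation "φ" => algebraMap A B

/-- A nonregular point under an ordinary double point is unramified. -/
theorem map_maximal_eq_of_node (hnp : ¬ (maximalIdeal A).IsPrincipal) (h : Curv2.IsOrdDoublePt K B) :
    (maximalIdeal A).map φ = maximalIdeal B := by
  classical
  obtain ⟨e, -⟩ := h
  let S := AdicCompletion (maximalIdeal B) B
  haveI : Module.Flat B S := AdicCompletion.flat_of_isNoetherian _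
  haveI : Module.FaithfullyFlat B S := Module.FaithfullyFlat.of_flat_of_isLocalHom
  haveI : Module.Flat A S := Module.Flat.trans A B S
  set I := (maximalIdeal A).map (algebraMap A S) with hI
  obtain ⟨g, l, hg, hl, hind⟩ := exists_indep_of_not_principal hnp
  have hindS : ∀ p q : S, p * algebraMap A S g + q * algebraMap A S l ∈ I ^ 2 → p ∈ I ∧ q ∈ I := fun p q hpq => by
    have := mem_map_of_flat (B := S) (maximalIdeal A ^ 2) (maximalIdeal A) (IsNoetherian.noetherian _)
      ![g, l] (fun c hc i => by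
        obtain ⟨h0, h1⟩ := hind (c 0) (c 1) (by simpa [Fin.sum_univ_two] using hc)
        fin_cases i <;> assumption) ![p, q] (by simpa [Fin.sum_univ_two, Ideal.map_pow] using hpq)
    exact ⟨this 0, this 1⟩
  let χ : Fin 2 → (S →+* PowerSeries K) := fun i => (H11Node.branch i).comp e.toRingHom
  let θ : MvPowerSeries (Fin 2) K →+* S := e.symm.toRingHom.comp (Ideal.Quotient.mk _)
  have hχθ : ∀ i f, χ i (θ f) = H11Node.axis i f := fun i f =>
    (congrArg (H11Node.branch i) (e.apply_symm_apply _)).trans (H11Node.branch_mk i f)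
  have hχs : ∀ i, Function.Surjective (χ i) := fun i c => by
    let f : MvPowerSeries (Fin 2) K := fun d => if d = Finsupp.single i (d i) then PowerSeries.coeff (d i) c else 0
    refine ⟨θ f, ?_⟩
    rw [hχθ]
    ext n
    rw [H11Node.coeff_axis]
    show (if Finsupp.single i n = Finsupp.single i (Finsupp.single i n i) then PowerSeries.coeff (Finsupp.single i n i) c else 0) = _
    simp
  have hX : ∀ i : Fin 2, θ (X i) ∈ I := by
    intro i
    obtain ⟨j, hji, hcover⟩ : ∃ j : Fin 2, j ≠ i ∧ ∀ m : Fin 2, m = i ∨ m = j := by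
      fin_cases i
      · exact ⟨1, by decide, by decide⟩
      · exact ⟨0, by decide, by decide⟩
    have key : ∀ {u v : A}, (∀ p q : S, p * algebraMap A S u + q * algebraMap A S v ∈ I ^ 2 → q ∈ I) →
        χ i (algebraMap A S u) ∣ χ i (algebraMap A S v) → θ (X i) ∈ I := by
      intro u v huv hdvd
      obtain ⟨c, hc⟩ := hdvd
      obtain ⟨c', rfl⟩ := hχs i c
      refine huv (-(θ (X i) * c')) (θ (X i)) ?_
      have h0 : θ (X i) * (algebraMap A S v - c' * algebraMap A S u) = 0 := by
        refine e.injective ((map_zero e).symm ▸ ?_)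
        have hz : ∀ m, χ m (θ (X i) * (algebraMap A S v - c' * algebraMap A S u)) = 0 := fun m => by
          rcases hcover m with rfl | rfl
          · rw [map_mul, map_sub, map_mul, hc, mul_comm (χ m c'), sub_self, mul_zero]
          · rw [map_mul, hχθ, H11Node.axis_X_of_ne hji.symm, zero_mul]
        exact H11Node.branch_injective (hz 0) (hz 1)
      rw [show -(θ (X i) * c') * algebraMap A S u + θ (X i) * algebraMap A S v =
        θ (X i) * (algebraMap A S v - c' * algebraMap A S u) by ring, h0]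
      exact zero_mem _
    rcases ValuationRing.dvd_total (χ i (algebraMap A S g)) (χ i (algebraMap A S l)) with h1 | h1
    · exact key (fun p q hpq => (hindS p q hpq).2) h1
    · exact key (fun p q hpq => (hindS q p (by rwa [add_comm])).1) h1
  have hle : maximalIdeal S ≤ I := fun z hz => by
    obtain ⟨w, hw⟩ := Ideal.Quotient.mk_surjective (e z)
    have hzw : θ w = z := by show e.symm _ = z; rw [hw, e.symm_apply_apply]
    subst hzw
    have hw0 : w ∈ H02CA.PS.vars (Fin 2) K := H02CA.PS.mem_vars_iff.2 (by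
      by_contra h1
      exact hz ((isUnit_iff_constantCoeff.2 (Ne.isUnit h1)).map θ))
    have h2 := Ideal.mem_map_of_mem θ hw0
    rw [Ideal.map_span, ← Set.range_comp] at h2
    exact (Ideal.span_le.2 (by rintro _ ⟨i, rfl⟩; exact hX i)) h2
  refine le_antisymm (Ideal.map_le_iff_le_comap.2 fun a ha hu => ha ((isUnit_map_iff φ a).1 hu)) ?_
  rw [← Ideal.comap_map_eq_self_of_faithfullyFlat (A := B) (B := S) (maximalIdeal B),
    ← Ideal.comap_map_eq_self_of_faithfullyFlat (A := B) (B := S) ((maximalIdeal A).map φ)]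
  refine Ideal.comap_mono ?_
  rw [completion_map_maximal, Ideal.map_map, ← IsScalarTower.algebraMap_eq]
  exact hle

variable (hm : Ideal.map (algebraMap A B) (maximalIdeal A) = maximalIdeal B)

include hm in
/-- Below an unramified ordinary double point there is a nondegenerate quadratic relation. -/
theorem exists_quad_of_pair (hnp : ¬ (maximalIdeal A).IsPrincipal) {u v : B} (h : IsNodePair u v) :
    Module.finrank (ResidueField A) (CotangentSpace A) = 2 ∧
    ∃ x y a b c : A, x ∈ maximalIdeal A ∧ y ∈ maximalIdeal A ∧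
      Ideal.span {x, y} ⊔ maximalIdeal A ^ 2 = maximalIdeal A ∧ residue A (4 * a * c - b ^ 2) ≠ 0 ∧
      a * x ^ 2 + b * x * y + c * y ^ 2 ∈ maximalIdeal A ^ 3 := by
  let π := residue B
  obtain ⟨g, l, hg, hl, hind⟩ := exists_indep_of_not_principal hnp
  have hgm : φ g ∈ maximalIdeal B := hm.le (Ideal.mem_map_of_mem _ hg)
  have hlm : φ l ∈ maximalIdeal B := hm.le (Ideal.mem_map_of_mem _ hl)
  have hindB : ∀ p q : B, p * φ g + q * φ l ∈ maximalIdeal B ^ 2 → p ∈ maximalIdeal B ∧ q ∈ maximalIdeal B := fun p q hpq => by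
    have := mem_map_of_flat (B := B) (maximalIdeal A ^ 2) (maximalIdeal A) (IsNoetherian.noetherian _)
      ![g, l] (fun c hc i => by
        obtain ⟨h0, h1⟩ := hind (c 0) (c 1) (by simpa [Fin.sum_univ_two] using hc)
        fin_cases i <;> assumption) ![p, q] (by simpa [Fin.sum_univ_two, map_pow_eq hm] using hpq)
    exact ⟨hm ▸ this 0, hm ▸ this 1⟩
  obtain ⟨p, q, hgc⟩ := Ideal.mem_span_pair.1 (h.span.ge hgm)
  obtain ⟨r, s, hlc⟩ := Ideal.mem_span_pair.1 (h.span.ge hlm)
  have hdet : p * s - q * r ∉ maximalIdeal B := fun hd => by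
    have hsq : ∀ {z w : B}, z ∈ maximalIdeal B → w ∈ maximalIdeal B → z * w ∈ maximalIdeal B ^ 2 := fun hz hw =>
      pow_two (maximalIdeal B) ▸ Ideal.mul_mem_mul hz hw
    obtain ⟨hs1, hq1⟩ := hindB s (-q) (by
      rw [show s * φ g + -q * φ l = (p * s - q * r) * u by rw [← hgc, ← hlc]; ring]
      exact hsq hd h.mem_left)
    obtain ⟨hr1, hp1⟩ := hindB (-r) p (by
      rw [show -r * φ g + p * φ l = (p * s - q * r) * v by rw [← hgc, ← hlc]; ring]
      exact hsq hd h.mem_right)
    refine (hindB 1 0 ?_).1 isUnit_one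
    rw [one_mul, zero_mul, add_zero, ← hgc]
    exact add_mem (hsq hp1 h.mem_left) (hsq (neg_mem_iff.1 hq1) h.mem_right)
  obtain ⟨d, hd⟩ := (IsLocalRing.notMem_maximalIdeal.1 hdet).exists_left_inv
  have hspanA : Ideal.span {g, l} = maximalIdeal A := by
    haveI : Module.FaithfullyFlat A B := Module.FaithfullyFlat.of_flat_of_isLocalHom
    rw [← Ideal.comap_map_eq_self_of_faithfullyFlat (A := A) (B := B) (Ideal.span {g, l}), Ideal.map_span, Set.image_pair,
      ← Ideal.comap_map_eq_self_of_faithfullyFlat (A := A) (B := B) (maximalIdeal A), hm]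
    refine congrArg _ (le_antisymm (Ideal.span_le.2 (by rintro z (rfl | rfl) <;> assumption)) ?_)
    conv_lhs => rw [← h.span]
    rw [Ideal.span_le]
    rintro z (rfl | rfl)
    · exact Ideal.mem_span_pair.2 ⟨d * s, -(d * q), by rw [← hgc, ← hlc]; linear_combination z * hd⟩
    · exact Ideal.mem_span_pair.2 ⟨-(d * r), d * p, by rw [← hgc, ← hlc]; linear_combination z * hd⟩
  have hrank : Module.finrank (ResidueField A) (CotangentSpace A) = 2 := by
    refine le_antisymm ?_ (Nat.succ_le_of_lt (lt_of_not_ge fun hle => hnp (IsLocalRing.finrank_cotangentSpace_le_one_iff.1 hle)))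
    rw [← IsLocalRing.spanFinrank_maximalIdeal_eq_finrank_cotangentSpace_of_fg (IsNoetherian.noetherian _), ← hspanA]
    exact (Submodule.spanFinrank_span_le_ncard_of_finite (Set.toFinite _)).trans ((Set.ncard_insert_le _ _).trans (by simp))
  have hdet' : π p * π s - π q * π r ≠ 0 := by
    rw [← map_mul, ← map_mul, ← map_sub]
    exact fun h0 => hdet ((residue_eq_zero_iff _).1 h0)
  -- the relation
  obtain ⟨c, hc, i, hci⟩ : ∃ c : Fin 3 → A,
      ∑ i, c i * ![g ^ 2, g * l, l ^ 2] i ∈ maximalIdeal A ^ 3 ∧ ∃ i, c i ∉ maximalIdeal A := by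
    by_contra hcon
    push Not at hcon
    have hv := mem_map_of_flat (B := B) (maximalIdeal A ^ 3) (maximalIdeal A) (IsNoetherian.noetherian _)
      ![g ^ 2, g * l, l ^ 2] hcon ![r * s, -(p * s + q * r), p * q] (by
        simp only [Fin.sum_univ_three, Matrix.cons_val_zero, Matrix.cons_val_one, Matrix.cons_val_two,
          Matrix.tail_cons, Matrix.head_cons, map_pow, map_mul, map_pow_eq hm, ← hgc, ← hlc]
        rw [show r * s * (p * u + q * v) ^ 2 + -(p * s + q * r) * ((p * u + q * v) * (r * u + s * v)) +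
          p * q * (r * u + s * v) ^ 2 = -((p * s - q * r) ^ 2) * (u * v) by ring]
        exact Ideal.mul_mem_left _ _ h.mul)
    rw [hm] at hv
    have h0 : π r * π s = 0 := by rw [← map_mul]; exact residue_eq_zero_iff _ |>.2 (by simpa using hv 0)
    have h1 : π p * π s + π q * π r = 0 := by
      rw [← map_mul, ← map_mul, ← map_add]; exact residue_eq_zero_iff _ |>.2 (neg_mem_iff.1 (by simpa using hv 1))
    have h2 : π p * π q = 0 := by rw [← map_mul]; exact residue_eq_zero_iff _ |>.2 (by simpa using hv 2)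
    refine hdet' ?_
    rcases mul_eq_zero.1 h2 with hp | hq
    · rw [hp] at h1 ⊢; linear_combination -h1
    · rw [hq] at h1 ⊢; linear_combination h1
  simp only [Fin.sum_univ_three, Matrix.cons_val_zero, Matrix.cons_val_one, Matrix.cons_val_two,
    Matrix.tail_cons, Matrix.head_cons] at hc
  refine ⟨hrank, g, l, c 0, c 1, c 2, hg, hl, ?_, fun hdisc => hci ?_, by convert hc using 1; ring⟩
  · rw [hspanA, sup_eq_left]; exact Ideal.pow_le_self two_ne_zero
  set a₀ := π (φ (c 0))
  set b₀ := π (φ (c 1))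
  set c₀ := π (φ (c 2))
  have hD : 4 * a₀ * c₀ - b₀ ^ 2 = 0 := by
    simp only [a₀, b₀, c₀, ← map_pow, ← map_mul, ← map_sub, ← map_ofNat φ 4, ← map_ofNat π 4]
    exact (residue_eq_zero_iff _).2 (hm.le (Ideal.mem_map_of_mem _ ((residue_eq_zero_iff _).1 hdisc)))
  obtain ⟨hE₁, hE₂⟩ := h.indep 2 one_le_two (φ (c 0) * p ^ 2 + φ (c 1) * p * r + φ (c 2) * r ^ 2)
    (φ (c 0) * q ^ 2 + φ (c 1) * q * s + φ (c 2) * s ^ 2) (by
      have h3 := Ideal.mem_map_of_mem φ hc
      rw [map_pow_eq hm] at h3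
      simp only [map_add, map_mul, map_pow, ← hgc, ← hlc] at h3
      convert sub_mem h3 (Ideal.mul_mem_left (maximalIdeal B ^ 3)
        (2 * φ (c 0) * p * q + φ (c 1) * (p * s + q * r) + 2 * φ (c 2) * r * s) h.mul) using 1
      ring)
  simp only [← residue_eq_zero_iff, map_add, map_mul, map_pow] at hE₁ hE₂
  change a₀ * π p ^ 2 + b₀ * π p * π r + c₀ * π r ^ 2 = 0 at hE₁
  change a₀ * π q ^ 2 + b₀ * π q * π s + c₀ * π s ^ 2 = 0 at hE₂
  -- all coefficients vanish
  have hα : 2 * a₀ * π p + b₀ * π r = 0 := sq_eq_zero_iff.1 (by linear_combination 4 * a₀ * hE₁ - π r ^ 2 * hD)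
  have hβ : 2 * a₀ * π q + b₀ * π s = 0 := sq_eq_zero_iff.1 (by linear_combination 4 * a₀ * hE₂ - π s ^ 2 * hD)
  have h2a : 2 * a₀ = 0 := (mul_eq_zero.1 (show 2 * a₀ * (π p * π s - π q * π r) = 0 by
    linear_combination π s * hα - π r * hβ)).resolve_right hdet'
  have hb0 : b₀ = 0 := (mul_eq_zero.1 (show b₀ * (π p * π s - π q * π r) = 0 by
    linear_combination π p * hβ - π q * hα)).resolve_right hdet'
  have hγ : b₀ * π p + 2 * c₀ * π r = 0 := sq_eq_zero_iff.1 (by linear_combination 4 * c₀ * hE₁ - π p ^ 2 * hD)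
  have hδ : b₀ * π q + 2 * c₀ * π s = 0 := sq_eq_zero_iff.1 (by linear_combination 4 * c₀ * hE₂ - π q ^ 2 * hD)
  have h2c : 2 * c₀ = 0 := (mul_eq_zero.1 (show 2 * c₀ * (π p * π s - π q * π r) = 0 by
    linear_combination π p * hδ - π q * hγ)).resolve_right hdet'
  have ha0 : a₀ = 0 := (mul_eq_zero.1 (show a₀ * (π p * π s - π q * π r) ^ 2 = 0 by
    linear_combination π s ^ 2 * hE₁ - π r ^ 2 * hE₂ - π s * π r * (π p * π s - π q * π r) * hb0
      - π r * π q * (π p * π s - π q * π r) * h2a)).resolve_right (pow_ne_zero 2 hdet')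
  have hc0 : c₀ = 0 := (mul_eq_zero.1 (show c₀ * (π p * π s - π q * π r) ^ 2 = 0 by
    linear_combination π p ^ 2 * hE₂ - π q ^ 2 * hE₁ - π p * π q * (π p * π s - π q * π r) * hb0
      - π r * π q * (π p * π s - π q * π r) * h2c)).resolve_right (pow_ne_zero 2 hdet')
  simp only [a₀, b₀, c₀, π, residue_eq_zero_iff] at ha0 hb0 hc0
  fin_cases i
  · exact (map_mem_nonunits_iff φ _).1 ha0
  · exact (map_mem_nonunits_iff φ _).1 hb0
  · exact (map_mem_nonunits_iff φ _).1 hc0

include hm in
/-- A nondegenerate quadratic relation becomes an ordinary double point over an algebraically closed residue field. -/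
theorem isOrdDoublePt_of_quad [IsAlgClosed K] (hres : ∀ z : B, ∃ c : K, z - algebraMap K B c ∈ maximalIdeal B)
    [_root_.IsReduced A] (hnp : ¬ (maximalIdeal A).IsPrincipal) {x y a b c : A}
    (hs : Ideal.span {x, y} = maximalIdeal A) (hd : residue A (4 * a * c - b ^ 2) ≠ 0)
    (hq : a * x ^ 2 + b * x * y + c * y ^ 2 ∈ maximalIdeal A ^ 3) : Curv2.IsOrdDoublePt K B := by
  obtain ⟨t, htm, htr⟩ := exists_regular_of_isReduced A fun hF => hnp (by
    rw [IsLocalRing.isField_iff_maximalIdeal_eq.1 hF]; exact bot_isPrincipal)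
  have htm' : φ t ∈ maximalIdeal B := hm.le (Ideal.mem_map_of_mem _ htm)
  have htr' : φ t ∈ nonZeroDivisors B := mem_nonZeroDivisors_iff_right.2 fun z hz => by
    have hrel : ∑ i : Fin 1, ![t] i • ![z] i = 0 := by simpa [Algebra.smul_def, mul_comm] using hz
    obtain ⟨m, w, v, hv, hw⟩ := Module.Flat.isTrivialRelation_of_sum_smul_eq_zero (R := A) (M := B) hrel
    have h0 : z = ∑ j, w 0 j • v j := by simpa using hv 0
    rw [h0]
    refine Finset.sum_eq_zero fun j _ => ?_
    have h1 : t * w 0 j = 0 := by simpa using hw j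
    rw [mem_nonZeroDivisors_iff_right.1 htr (w 0 j) (by rw [mul_comm]; exact h1), zero_smul]
  obtain ⟨g, l, hg, hl, hind⟩ := exists_indep_of_not_principal hnp
  have hnpB : ¬ (maximalIdeal B).IsPrincipal := by
    refine not_principal_of_indep (g := φ g) (l := φ l) (hm.le (Ideal.mem_map_of_mem _ hg))
      (hm.le (Ideal.mem_map_of_mem _ hl)) fun p q hpq => ?_
    have := mem_map_of_flat (B := B) (maximalIdeal A ^ 2) (maximalIdeal A) (IsNoetherian.noetherian _)
      ![g, l] (fun c hc i => by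
        obtain ⟨h0, h1⟩ := hind (c 0) (c 1) (by simpa [Fin.sum_univ_two] using hc)
        fin_cases i <;> assumption) ![p, q] (by simpa [Fin.sum_univ_two, map_pow_eq hm] using hpq)
    exact ⟨hm ▸ this 0, hm ▸ this 1⟩
  let κ : K →+* ResidueField B := (residue B).comp (algebraMap K B)
  have hκ : Function.Surjective κ := fun z => by
    obtain ⟨w, rfl⟩ := residue_surjective z
    obtain ⟨r, hr⟩ := hres w
    exact ⟨r, (Ideal.Quotient.eq.2 hr).symm⟩
  haveI : IsAlgClosed (ResidueField B) := IsAlgClosed.of_ringEquiv K _ (RingEquiv.ofBijective κ ⟨κ.injective, hκ⟩)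
  obtain ⟨α', β', γ', δ', ha, hb, hc⟩ :=
    exists_factor_quad (residue B (φ a)) (residue B (φ b)) (residue B (φ c))
  obtain ⟨α, rfl⟩ := residue_surjective α'
  obtain ⟨β, rfl⟩ := residue_surjective β'
  obtain ⟨γ, rfl⟩ := residue_surjective γ'
  obtain ⟨δ, rfl⟩ := residue_surjective δ'
  have hD : IsUnit (α * δ - β * γ) := by
    rw [← residue_ne_zero_iff_isUnit]
    intro h0
    have h4 : residue B (φ (4 * a * c - b ^ 2)) ≠ 0 :=
      (residue_ne_zero_iff_isUnit _).2 (((residue_ne_zero_iff_isUnit _).1 hd).map φ)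
    simp only [map_sub, map_mul, map_pow, map_ofNat, ha, hb, hc] at h4 h0
    exact h4 (by linear_combination -(residue B α * residue B δ - residue B β * residue B γ) * h0)
  obtain ⟨D, hD'⟩ := hD.exists_left_inv
  set X₁ := α * φ x + β * φ y with hX₁
  set Y₁ := γ * φ x + δ * φ y with hY₁
  have hxm : φ x ∈ maximalIdeal B := hm.le (Ideal.mem_map_of_mem _ (hs.le (Ideal.subset_span (by simp))))
  have hym : φ y ∈ maximalIdeal B := hm.le (Ideal.mem_map_of_mem _ (hs.le (Ideal.subset_span (by simp))))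
  have hsB : Ideal.span {X₁, Y₁} = maximalIdeal B := by
    refine le_antisymm (Ideal.span_le.2 ?_) ?_
    · rintro z (rfl | rfl) <;> exact add_mem (Ideal.mul_mem_left _ _ hxm) (Ideal.mul_mem_left _ _ hym)
    · conv_lhs => rw [← hm, ← hs, Ideal.map_span, Set.image_pair]
      rw [Ideal.span_le]
      rintro z (rfl | rfl)
      · exact Ideal.mem_span_pair.2 ⟨D * δ, -(D * β), by rw [hX₁, hY₁]; linear_combination (φ x) * hD'⟩
      · exact Ideal.mem_span_pair.2 ⟨-(D * γ), D * α, by rw [hX₁, hY₁]; linear_combination (φ y) * hD'⟩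
  have hmul : X₁ * Y₁ ∈ maximalIdeal B ^ 3 := by
    have h2 : ∀ {p w z : B}, p ∈ maximalIdeal B → w ∈ maximalIdeal B → z ∈ maximalIdeal B →
        p * (w * z) ∈ maximalIdeal B ^ 3 := fun ha hw hz => by
      rw [pow_succ', pow_two]; exact Ideal.mul_mem_mul ha (Ideal.mul_mem_mul hw hz)
    simp only [← map_mul, ← map_add] at ha hb hc
    have h1 := Ideal.mem_map_of_mem φ hq
    rw [map_pow_eq hm] at h1
    simp only [map_add, map_mul, map_pow] at h1
    convert sub_mem (sub_mem (sub_mem h1 (h2 (Ideal.Quotient.eq.1 ha) hxm hxm)) (h2 (Ideal.Quotient.eq.1 hb) hxm hym))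
      (h2 (Ideal.Quotient.eq.1 hc) hym hym) using 1
    rw [hX₁, hY₁]; ring
  refine isOrdDoublePt_of_pair hres (x := X₁) (y := Y₁) ⟨hsB, hmul, fun n hn p q hpq => ?_⟩
  exact mem_of_gen htm' htr' hnpB hn (Ideal.pow_mem_pow (hsB.le (Ideal.subset_span (by simp))) n)
    (Ideal.pow_mem_pow (hsB.le (Ideal.subset_span (by simp))) n) (pow_le_of_mul hsB hmul hn) hpq

end Groth.Agent.H29Node
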