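import Groth.Agent.H29Node.BaseChange

/-!
# Nodes are invariant under extension of the ground field
-/

set_option autoImplicit false
set_option linter.style.haveILetI false

universe u

open CategoryTheory CategoryTheory.Limits AlgebraicGeometry TopologicalSpace IsLocalRing

namespace Groth.Agent.H29Node

/-- Comparable points in one fibre of an integral morphism are equal. -/
theorem eq_of_specializes_of_isIntegralHom {X Y : Scheme.{u}} (q : X ⟶ Y) [IsIntegralHom q] {a b : X}
    (h : a ⤳ b) (hab : q a = q b) : a = b := by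
  haveI : IsIntegralHom (q.fiberToSpecResidueField (q b)) := MorphismProperty.pullback_snd _ _ inferInstance
  obtain ⟨a', rfl⟩ : a ∈ Set.range (q.fiberι (q b)) := by rw [q.range_fiberι]; exact hab
  obtain ⟨b', hb⟩ : b ∈ Set.range (q.fiberι (q b)) := by rw [q.range_fiberι]; rfl
  have hs : a' ⤳ b' := (q.fiberι (q b)).isEmbedding.isInducing.specializes_iff.1 (hb.symm ▸ h)
  have hc : IsClosed ({a'} : Set (q.fiber (q b))) :=
    isClosed_of_isIntegralHom (q.fiberToSpecResidueField (q b)) (by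
      rw [show ({q.fiberToSpecResidueField (q b) a'} : Set (Spec (Y.residueField (q b)))) = Set.univ from
        Set.eq_univ_of_forall fun z => (Subsingleton.elim (α := PrimeSpectrum (Y.residueField (q b))) z _)]
      exact isClosed_univ)
  have : b' = a' := hs.mem_closed hc rfl
  exact (congrArg _ this.symm).trans hb

section Tower

variable (k L M : Type u) [Field k] [Field L] [Field M] [Algebra k L] [Algebra L M] [Algebra k M]
  [IsScalarTower k L M] (X : Scheme.{u}) [X.Over (Spec (CommRingCat.of k))]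

/-- Base change in two steps. -/
theorem exists_bc_tower :
    letI : (Curv2.bc k X L).Over (Spec (CommRingCat.of L)) := ⟨Curv2.bcSnd k X L⟩
    ∃ Ψ : Curv2.bc L (Curv2.bc k X L) M ⟶ Curv2.bc k X M, IsIso Ψ ∧
      Ψ ≫ Curv2.bcFst k X M = Curv2.bcFst L (Curv2.bc k X L) M ≫ Curv2.bcFst k X L ∧
      Ψ ≫ Curv2.bcSnd k X M = Curv2.bcSnd L (Curv2.bc k X L) M := by
  letI : (Curv2.bc k X L).Over (Spec (CommRingCat.of L)) := ⟨Curv2.bcSnd k X L⟩
  have h := (IsPullback.of_hasPullback (Curv2.bcSnd k X L) (Spec.map (CommRingCat.ofHom (algebraMap L M)))).paste_horiz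
    (IsPullback.of_hasPullback (X ↘ Spec (CommRingCat.of k)) (Spec.map (CommRingCat.ofHom (algebraMap k L))))
  rw [show Spec.map (CommRingCat.ofHom (algebraMap L M)) ≫ Spec.map (CommRingCat.ofHom (algebraMap k L)) =
      Spec.map (CommRingCat.ofHom (algebraMap k M)) by
    rw [← Spec.map_comp, IsScalarTower.algebraMap_eq k L M]; rfl] at h
  exact ⟨h.isoPullback.hom, inferInstance, h.isoPullback_hom_fst, h.isoPullback_hom_snd⟩

end Tower

/-- Over an algebraically closed extension, a point is an ordinary double point exactly over nodes. -/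
theorem isNode_iff_point {k : Type u} [Field k] {X : Scheme.{u}} [X.Over (Spec (CommRingCat.of k))]
    [LocallyOfFiniteType (X ↘ Spec (CommRingCat.of k))]
    (hdim : ∀ a b : X, a ⤳ b → b ≠ a → IsClosed ({b} : Set X))
    (L : Type u) [Field L] [IsAlgClosed L] [Algebra k L] (z : (Curv2.bc k X L : Scheme.{u})) :
    Curv2.IsNode k X (Curv2.bcFst k X L z) ↔ IsClosed ({z} : Set (Curv2.bc k X L)) ∧
      (letI : (Curv2.bc k X L).Over (Spec (CommRingCat.of L)) := ⟨Curv2.bcSnd k X L⟩;
        letI := Curv2.stalkAlgebra L (Curv2.bc k X L) z;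
        Curv2.IsOrdDoublePt L ((Curv2.bc k X L).presheaf.stalk z)) := by
  let K := AlgebraicClosure k
  let ι : K →ₐ[k] L := IsAlgClosed.lift
  letI : Algebra K L := ι.toRingHom.toAlgebra
  haveI : IsScalarTower k K L := IsScalarTower.of_algebraMap_eq fun c => (ι.commutes c).symm
  letI : (Curv2.bc k X K).Over (Spec (CommRingCat.of K)) := ⟨Curv2.bcSnd k X K⟩
  letI : (Curv2.bc k X L).Over (Spec (CommRingCat.of L)) := ⟨Curv2.bcSnd k X L⟩
  obtain ⟨Ψ, _, hΨ₁, hΨ₂⟩ := exists_bc_tower k K L X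
  letI : (Curv2.bc K (Curv2.bc k X K) L).Over (Spec (CommRingCat.of L)) := ⟨Curv2.bcSnd K (Curv2.bc k X K) L⟩
  haveI : IsIntegralHom (Curv2.bcFst k X K) := by
    refine MorphismProperty.pullback_fst _ _ ?_
    rw [IsIntegralHom.SpecMap_iff]
    exact Algebra.IsIntegral.isIntegral
  haveI : LocallyOfFiniteType (Curv2.bcSnd k X K) := MorphismProperty.pullback_snd _ _ inferInstance
  haveI : LocallyOfFiniteType (Curv2.bc k X K ↘ Spec (CommRingCat.of K)) := ‹_›
  haveI : LocallyOfFiniteType (Curv2.bcSnd K (Curv2.bc k X K) L) := MorphismProperty.pullback_snd _ _ inferInstance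
  obtain ⟨z₁, rfl⟩ := (Scheme.homeoOfIso (asIso Ψ)).surjective z
  rw [show (Scheme.homeoOfIso (asIso Ψ)) z₁ = Ψ z₁ from rfl]
  have hcl : IsClosed ({Ψ z₁} : Set (Curv2.bc k X L)) ↔ IsClosed ({z₁} : Set (Curv2.bc K (Curv2.bc k X K) L)) := by
    rw [← Set.image_singleton (f := ⇑Ψ)]
    exact (Scheme.homeoOfIso (asIso Ψ)).isClosed_image
  have hO := isOrdDoublePt_iff_of_openImmersion (W := Curv2.bc K (Curv2.bc k X K) L) (V := Curv2.bc k X L) Ψ
    (RingEquiv.refl L) (hΨ₂.trans (by
      refine (Category.comp_id _).symm.trans (congrArg _ ?_)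
      exact (Spec.map_id (CommRingCat.of L)).symm)) z₁
  rw [hcl]
  rw [hO, show Curv2.bcFst k X L (Ψ z₁) = Curv2.bcFst k X K (Curv2.bcFst K (Curv2.bc k X K) L z₁) by
    rw [← Scheme.Hom.comp_apply, hΨ₁]; rfl]
  set w := Curv2.bcFst K (Curv2.bc k X K) L z₁ with hw
  -- above a closed point of the geometric fibre there is exactly one, rational, point
  have key : IsClosed ({w} : Set (Curv2.bc k X K)) →
      IsClosed ({z₁} : Set (Curv2.bc K (Curv2.bc k X K) L)) ∧
        ((letI := Curv2.stalkAlgebra K (Curv2.bc k X K) w;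
          Curv2.IsOrdDoublePt K ((Curv2.bc k X K).presheaf.stalk w)) ↔
        (letI := Curv2.stalkAlgebra L (Curv2.bc K (Curv2.bc k X K) L) z₁;
          Curv2.IsOrdDoublePt L ((Curv2.bc K (Curv2.bc k X K) L).presheaf.stalk z₁))) := by
    intro hwc
    obtain ⟨⟨t, ht⟩, htw⟩ := (pointEquivClosedPoint (Curv2.bcSnd k X K)).surjective ⟨w, hwc⟩
    have htw' : t (IsLocalRing.closedPoint K) = w := congrArg Subtype.val htw
    let σ := Spec.map (CommRingCat.ofHom (algebraMap K L))
    let t' : Spec (CommRingCat.of L) ⟶ Curv2.bc K (Curv2.bc k X K) L :=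
      pullback.lift (σ ≫ t) (𝟙 _) (by
        rw [Category.assoc, Category.id_comp]
        exact (congrArg (σ ≫ ·) ht).trans (Category.comp_id _))
    have h2 : t' ≫ Curv2.bcSnd K (Curv2.bc k X K) L = 𝟙 _ := pullback.lift_snd _ _ _
    have h1 : t' ≫ Curv2.bcFst K (Curv2.bc k X K) L = σ ≫ t := pullback.lift_fst _ _ _
    have sq := isPullback_rational t ht t' h2 h1
    obtain ⟨a, ha, -⟩ := Scheme.Pullback.exists_preimage_pullback (f := Curv2.bcFst K (Curv2.bc k X K) L) (g := t)
      z₁ (IsLocalRing.closedPoint K) htw'.symm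
    have hz : t' (IsLocalRing.closedPoint L) = z₁ := by
      rw [← ha, ← sq.isoPullback_inv_fst, Scheme.Hom.comp_apply]
      exact congrArg (fun b => t' b) (Subsingleton.elim _ _)
    refine ⟨?_, ?_⟩
    · rw [← hz]
      exact (pointEquivClosedPoint (Curv2.bcSnd K (Curv2.bc k X K) L) ⟨t', h2⟩).2
    · have := isOrdDoublePt_iff_rational t ht t' h2 h1
      rwa [htw', hz] at this
  constructor
  · intro hx
    have hwc : IsClosed ({w} : Set (Curv2.bc k X K)) := isClosed_of_isIntegralHom _ hx.1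
    exact ⟨(key hwc).1, (key hwc).2.1 (isOrdDoublePt_of_over hx w rfl)⟩
  · rintro ⟨hz, hOz⟩
    have hwc : IsClosed ({w} : Set (Curv2.bc k X K)) := by
      by_contra hwn
      refine isClosed_of_ordDoublePt_over z₁ (fun w' hw' => ?_) hOz
      refine eq_of_specializes_of_isIntegralHom (Curv2.bcFst k X K) hw' ?_
      by_contra hne
      exact hwn (isClosed_of_isIntegralHom _ (hdim _ _ (hw'.map (Curv2.bcFst k X K).continuous) (Ne.symm hne)))
    refine ⟨?_, w, rfl, (key hwc).2.2 hOz⟩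
    rw [← Set.image_singleton]
    exact (Curv2.bcFst k X K).isClosedMap _ hwc

/-- Nodes are invariant under field extensions. -/
theorem isNode_iff_bc {k : Type u} [Field k] {X : Scheme.{u}} [X.Over (Spec (CommRingCat.of k))]
    [LocallyOfFiniteType (X ↘ Spec (CommRingCat.of k))]
    (hdim : ∀ a b : X, a ⤳ b → b ≠ a → IsClosed ({b} : Set X))
    (K : Type u) [Field K] [Algebra k K] (y : (Curv2.bc k X K : Scheme.{u})) :
    Curv2.IsNode k X (Curv2.bcFst k X K y) ↔ @Curv2.IsNode K _ (Curv2.bc k X K) ⟨Curv2.bcSnd k X K⟩ y := by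
  letI : (Curv2.bc k X K).Over (Spec (CommRingCat.of K)) := ⟨Curv2.bcSnd k X K⟩
  let M := AlgebraicClosure K
  letI : (Curv2.bc K (Curv2.bc k X K) M).Over (Spec (CommRingCat.of M)) := ⟨Curv2.bcSnd K (Curv2.bc k X K) M⟩
  letI : (Curv2.bc k X M).Over (Spec (CommRingCat.of M)) := ⟨Curv2.bcSnd k X M⟩
  obtain ⟨Ψ, _, hΨ₁, hΨ₂⟩ := exists_bc_tower k K M X
  haveI : IsIntegralHom (Curv2.bcFst K (Curv2.bc k X K) M) := by
    refine MorphismProperty.pullback_fst _ _ ?_
    rw [IsIntegralHom.SpecMap_iff]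
    exact Algebra.IsIntegral.isIntegral
  haveI : Surjective (Curv2.bcFst K (Curv2.bc k X K) M) :=
    MorphismProperty.pullback_fst _ _ ⟨fun x => ⟨IsLocalRing.closedPoint _, Subsingleton.elim _ _⟩⟩
  have main : ∀ z, Curv2.bcFst K (Curv2.bc k X K) M z = y →
      (Curv2.IsNode k X (Curv2.bcFst k X K y) ↔ IsClosed ({z} : Set (Curv2.bc K (Curv2.bc k X K) M)) ∧
        (letI := Curv2.stalkAlgebra M (Curv2.bc K (Curv2.bc k X K) M) z;
          Curv2.IsOrdDoublePt M ((Curv2.bc K (Curv2.bc k X K) M).presheaf.stalk z))) := by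
    intro z hz
    have hO := isOrdDoublePt_iff_of_openImmersion (W := Curv2.bc K (Curv2.bc k X K) M) (V := Curv2.bc k X M) Ψ
      (RingEquiv.refl M) (hΨ₂.trans (by
        refine (Category.comp_id _).symm.trans (congrArg _ ?_)
        exact (Spec.map_id (CommRingCat.of M)).symm)) z
    have hcl : IsClosed ({Ψ z} : Set (Curv2.bc k X M)) ↔ IsClosed ({z} : Set (Curv2.bc K (Curv2.bc k X K) M)) := by
      rw [← Set.image_singleton (f := ⇑Ψ)]
      exact (Scheme.homeoOfIso (asIso Ψ)).isClosed_image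
    rw [← hz, show Curv2.bcFst k X K (Curv2.bcFst K (Curv2.bc k X K) M z) = Curv2.bcFst k X M (Ψ z) by
      rw [← Scheme.Hom.comp_apply, ← hΨ₁]; rfl, isNode_iff_point hdim M (Ψ z), hcl, hO]
  constructor
  · intro hx
    obtain ⟨z, hz⟩ := (Curv2.bcFst K (Curv2.bc k X K) M).surjective y
    obtain ⟨hc, hO⟩ := (main z hz).1 hx
    refine ⟨?_, z, hz, hO⟩
    rw [← hz, ← Set.image_singleton]
    exact (Curv2.bcFst K (Curv2.bc k X K) M).isClosedMap _ hc
  · rintro ⟨hy, z, hz, hO⟩
    exact (main z hz).2 ⟨isClosed_of_isIntegralHom _ (hz.symm ▸ hy), hO⟩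

end Groth.Agent.H29Node
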