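import Groth.Agent.H29Node.BaseChange
import Mathlib.RingTheory.Unramified.Field
import Mathlib.RingTheory.TensorProduct.Pi
import Mathlib.RingTheory.Artinian.Ring
import Mathlib.FieldTheory.Perfect

/-!
# The geometric fibre of a closed point and separability of its residue field
-/

set_option autoImplicit false
set_option linter.style.haveILetI false

universe u

open CategoryTheory CategoryTheory.Limits AlgebraicGeometry TopologicalSpace IsLocalRing Polynomial TensorProduct

namespace Groth.Agent.H29Node

/-- In a geometrically reduced algebra integral elements are separable. -/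
theorem separable_minpoly_of_reduced {k B : Type u} [Field k] [CommRing B] [Algebra k B]
    [_root_.IsReduced (AlgebraicClosure k ⊗[k] B)] {s : B} (hs : IsIntegral k s) :
    (minpoly k s).Separable := by
  let K := AlgebraicClosure k
  rw [← separable_map (algebraMap k K), PerfectField.separable_iff_squarefree]
  intro d ⟨e, he⟩
  by_contra hd
  have hmon : ((minpoly k s).map (algebraMap k K)).Monic := (minpoly.monic hs).map _
  have hd0 : d ≠ 0 := by rintro rfl; exact hmon.ne_zero (by rw [he]; ring)
  have he0 : e ≠ 0 := by rintro rfl; exact hmon.ne_zero (by rw [he]; ring)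
  set n := (minpoly k s).natDegree
  have hdeg : (d * e).natDegree < n := by
    have h1 : ((minpoly k s).map (algebraMap k K)).natDegree = n := natDegree_map _
    rw [he, mul_assoc, natDegree_mul hd0 (mul_ne_zero hd0 he0)] at h1
    have : 0 < d.natDegree := Polynomial.natDegree_pos_iff_degree_pos.mpr
      (Polynomial.degree_pos_of_ne_zero_of_nonunit hd0 hd)
    omega
  have hz : aeval ((1 : K) ⊗ₜ[k] s) ((minpoly k s).map (algebraMap k K)) = 0 := by
    rw [aeval_map_algebraMap, show (1 : K) ⊗ₜ[k] s =
      (Algebra.TensorProduct.includeRight : B →ₐ[k] K ⊗[k] B) s from rfl, aeval_algHom_apply,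
      minpoly.aeval, map_zero]
  have hr : aeval ((1 : K) ⊗ₜ[k] s) (d * e) = 0 := by
    refine IsReduced.eq_zero _ ⟨2, ?_⟩
    rw [← map_pow, show (d * e) ^ 2 = (d * d * e) * e by ring, ← he, map_mul, hz, zero_mul]
  let L : (Fin n → k) →ₗ[k] B := Fintype.linearCombination k (fun i : Fin n => s ^ (i : ℕ))
  have hL : Function.Injective (LinearMap.lTensor K L) :=
    Module.Flat.lTensor_preserves_injective_linearMap _
      (linearIndependent_iff_injective_fintypeLinearCombination.mp (linearIndependent_pow s))
  let z : K ⊗[k] (Fin n → k) := ∑ i : Fin n, (d * e).coeff i ⊗ₜ Pi.single i 1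
  have hzL : LinearMap.lTensor K L z = 0 := by
    rw [map_sum, ← hr, aeval_eq_sum_range' hdeg, Finset.sum_range]
    refine Finset.sum_congr rfl fun i _ => ?_
    rw [LinearMap.lTensor_tmul, Algebra.TensorProduct.tmul_pow, one_pow, TensorProduct.smul_tmul',
      smul_eq_mul, mul_one]
    simp [L]
  have h0 : z = 0 := hL (hzL.trans (map_zero _).symm)
  refine mul_ne_zero hd0 he0 (Polynomial.ext fun i => ?_)
  rw [coeff_zero]
  by_cases hi : i < n
  · have := congrFun (congrArg (TensorProduct.piScalarRight k K K (Fin n)) h0) ⟨i, hi⟩
    simpa [z, Finset.sum_apply, Pi.single_apply] using this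
  · exact coeff_eq_zero_of_natDegree_lt (lt_of_lt_of_le hdeg (not_lt.mp hi))

attribute [local instance] Curv2.resAlgebra

variable {k : Type u} [Field k] {X : Scheme.{u}} [X.Over (Spec (CommRingCat.of k))]
  [LocallyOfFiniteType (X ↘ Spec (CommRingCat.of k))] {x : X}

/-- The residue field of a closed point is finite over the ground field. -/
theorem finite_residueField (hx : IsClosed ({x} : Set X)) : Module.Finite k (X.residueField x) := by
  haveI : IsClosedImmersion (X.fromSpecResidueField x) := isClosed_singleton_iff_isClosedImmersion.1 hx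
  haveI : LocallyOfFiniteType (Spec.map (CommRingCat.ofHom (Curv2.resMap k X x))) := by
    rw [← H22Alg.VarDim.fromSpecResidueField_over k X x]
    infer_instance
  haveI : Algebra.FiniteType k (X.residueField x) :=
    (HasRingHomProperty.Spec_iff (P := @LocallyOfFiniteType) (φ := CommRingCat.ofHom (Curv2.resMap k X x))).1 inferInstance
  exact finite_of_finite_type_of_isJacobsonRing k (X.residueField x)

section Fibre

variable (K : Type u) [Field K] [Algebra k K]

variable (x) in
/-- The fibre of the base change over a point. -/
theorem exists_fibre_square :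
    ∃ j : Spec (CommRingCat.of (K ⊗[k] X.residueField x)) ⟶ Curv2.bc k X K,
      IsPullback j (Spec.map (CommRingCat.ofHom (Algebra.TensorProduct.includeRight : X.residueField x →ₐ[k] K ⊗[k] X.residueField x).toRingHom)) (Curv2.bcFst k X K)
        (X.fromSpecResidueField x) := by
  have h0 : IsPullback (Spec.map (CommRingCat.ofHom (Algebra.TensorProduct.includeLeftRingHom : K →+* K ⊗[k] X.residueField x)))
      (Spec.map (CommRingCat.ofHom (Algebra.TensorProduct.includeRight : X.residueField x →ₐ[k] K ⊗[k] X.residueField x).toRingHom))
      (Spec.map (CommRingCat.ofHom (algebraMap k K)))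
      (X.fromSpecResidueField x ≫ (X ↘ Spec (CommRingCat.of k))) := by
    rw [H22Alg.VarDim.fromSpecResidueField_over k X x]
    exact isPullback_SpecMap_of_isPushout _ _ _ _ (CommRingCat.isPushout_tensorProduct k K (X.residueField x))
  have hr : IsPullback (Curv2.bcSnd k X K) (Curv2.bcFst k X K) (Spec.map (CommRingCat.ofHom (algebraMap k K)))
      (X ↘ Spec (CommRingCat.of k)) := (IsPullback.of_hasPullback _ _).flip
  let j : Spec (CommRingCat.of (K ⊗[k] X.residueField x)) ⟶ Curv2.bc k X K :=
    pullback.lift (Spec.map (CommRingCat.ofHom (Algebra.TensorProduct.includeRight : X.residueField x →ₐ[k] K ⊗[k] X.residueField x).toRingHom) ≫ X.fromSpecResidueField x)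
      (Spec.map (CommRingCat.ofHom Algebra.TensorProduct.includeLeftRingHom)) (by
        rw [Category.assoc]; exact h0.w.symm)
  refine ⟨j, IsPullback.of_right ?_ (pullback.lift_fst _ _ _) hr⟩
  rw [show j ≫ Curv2.bcSnd k X K = _ from pullback.lift_snd _ _ _]
  exact h0

/-- A fibre point has field stalk exactly if the point above is unramified. -/
theorem isField_fibre_stalk_iff (hx : IsClosed ({x} : Set X))
    {j : Spec (CommRingCat.of (K ⊗[k] X.residueField x)) ⟶ Curv2.bc k X K}
    (sq : IsPullback j (Spec.map (CommRingCat.ofHom (Algebra.TensorProduct.includeRight : X.residueField x →ₐ[k] K ⊗[k] X.residueField x).toRingHom)) (Curv2.bcFst k X K)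
        (X.fromSpecResidueField x))
    (q : Spec (CommRingCat.of (K ⊗[k] X.residueField x))) :
    IsField ((Spec (CommRingCat.of (K ⊗[k] X.residueField x))).presheaf.stalk q) ↔
      (maximalIdeal (X.presheaf.stalk (Curv2.bcFst k X K (j q)))).map ((Curv2.bcFst k X K).stalkMap (j q)).hom =
        maximalIdeal ((Curv2.bc k X K).presheaf.stalk (j q)) := by
  haveI : IsClosedImmersion (X.fromSpecResidueField x) := isClosed_singleton_iff_isClosedImmersion.1 hx
  haveI : IsClosedImmersion j := MorphismProperty.of_isPullback sq.flip inferInstance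
  have hs := H8Props.NilThick.ker_stalkMap_eq sq q
  have hb : RingHom.ker (H8Props.NilThick.baseMap sq q).hom = maximalIdeal _ := by
    refine le_antisymm (IsLocalRing.le_maximalIdeal (RingHom.ker_ne_top _)) fun a ha => ?_
    rw [RingHom.mem_ker]
    have hm := (mem_maximalIdeal _).2 (map_nonunit (H8Props.NilThick.baseMap sq q).hom a ha)
    rwa [IsLocalRing.isField_iff_maximalIdeal_eq.mp
      (H8Props.FibreStalk.isField_stalk_Spec (CommRingCat.of (X.residueField x)) (Field.toIsField _) _), Ideal.mem_bot] at hm
  rw [hb] at hs
  rw [← hs]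
  have hsurj := j.stalkMap_surjective q
  constructor
  · intro hF
    letI := hF.toField
    exact IsLocalRing.eq_maximalIdeal (RingHom.ker_isMaximal_of_surjective _ hsurj)
  · intro hker
    haveI : (RingHom.ker (j.stalkMap q).hom).IsMaximal := hker ▸ IsLocalRing.maximalIdeal.isMaximal _
    exact MulEquiv.isField (Ideal.Quotient.field _).toIsField (RingHom.quotientKerEquivOfSurjective hsurj).symm.toMulEquiv

/-- Points over a closed point with separable residue field are unramified. -/
theorem map_maximal_eq_of_separable (hx : IsClosed ({x} : Set X)) [Algebra.IsSeparable k (X.residueField x)]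
    (w : (Curv2.bc k X K : Scheme.{u})) (hw : Curv2.bcFst k X K w = x) :
    (maximalIdeal (X.presheaf.stalk (Curv2.bcFst k X K w))).map ((Curv2.bcFst k X K).stalkMap w).hom =
      maximalIdeal ((Curv2.bc k X K).presheaf.stalk w) := by
  obtain ⟨j, sq⟩ := exists_fibre_square (k := k) (X := X) x K
  obtain ⟨a, ha, -⟩ := Scheme.Pullback.exists_preimage_pullback (f := Curv2.bcFst k X K) (g := X.fromSpecResidueField x)
    w (IsLocalRing.closedPoint _) (hw.trans (X.fromSpecResidueField_apply x _).symm)
  obtain ⟨q, rfl⟩ : ∃ q, j q = w := ⟨sq.isoPullback.inv a, by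
    rw [← ha, ← sq.isoPullback_inv_fst, Scheme.Hom.comp_apply]⟩
  refine (isField_fibre_stalk_iff K hx sq q).1 ?_
  haveI : Module.Finite k (X.residueField x) := finite_residueField hx
  haveI : Algebra.FormallyUnramified k (X.residueField x) := Algebra.FormallyUnramified.of_isSeparable _ _
  let T := K ⊗[k] X.residueField x
  haveI : Module.Finite K T := inferInstance
  haveI : _root_.IsReduced T := Algebra.FormallyUnramified.isReduced_of_field K T
  haveI : IsArtinianRing T := IsArtinianRing.of_finite K T
  let S := (Spec.structureSheaf T).presheaf.stalk q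
  haveI : IsLocalization.AtPrime S q.asIdeal := StructureSheaf.IsLocalization.to_stalk T q
  haveI : IsArtinianRing S := IsArtinianRing.localization_artinian q.asIdeal.primeCompl S
  haveI : _root_.IsReduced S := isReduced_localizationPreserves q.asIdeal.primeCompl S inferInstance
  haveI : IsLocalRing S := IsLocalization.AtPrime.isLocalRing S q.asIdeal
  exact IsArtinianRing.isField_of_isReduced_of_isLocalRing S

/-- If every geometric point over a closed point is unramified, the residue field is separable. -/
theorem isSeparable_of_map_maximal_eq (hx : IsClosed ({x} : Set X))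
    (h : ∀ w : (Curv2.bc k X (AlgebraicClosure k) : Scheme.{u}), Curv2.bcFst k X (AlgebraicClosure k) w = x →
      (maximalIdeal (X.presheaf.stalk (Curv2.bcFst k X (AlgebraicClosure k) w))).map
          ((Curv2.bcFst k X (AlgebraicClosure k)).stalkMap w).hom =
        maximalIdeal ((Curv2.bc k X (AlgebraicClosure k)).presheaf.stalk w)) :
    Algebra.IsSeparable k (X.residueField x) := by
  obtain ⟨j, sq⟩ := exists_fibre_square (k := k) (X := X) x (AlgebraicClosure k)
  let P := Spec (CommRingCat.of (AlgebraicClosure k ⊗[k] X.residueField x))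
  haveI : ∀ q : P, _root_.IsReduced (P.presheaf.stalk q) := fun q => by
    letI := ((isField_fibre_stalk_iff _ hx sq q).2 (h (j q) ((H8Props.NilThick.base_eq sq q).trans
      (X.fromSpecResidueField_apply x _)))).toField
    infer_instance
  haveI : AlgebraicGeometry.IsReduced P := isReduced_of_isReduced_stalk P
  haveI : _root_.IsReduced (AlgebraicClosure k ⊗[k] X.residueField x) := (affine_isReduced_iff (CommRingCat.of (AlgebraicClosure k ⊗[k] X.residueField x))).1 inferInstance
  haveI : Module.Finite k (X.residueField x) := finite_residueField hx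
  exact ⟨fun s => separable_minpoly_of_reduced (Algebra.IsIntegral.isIntegral s)⟩

end Fibre

end Groth.Agent.H29Node
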