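import Groth.Agent.H11Node.Ring
import Mathlib

/-!
# Closedness under `p`-th roots among fractions

A ring is `p`-closed if a fraction whose `p`-th power lies in the ring lies in the ring: normal
domains and nodes in characteristic `p` are, and the property descends along faithfully flat maps
and is local.
-/

set_option autoImplicit false
set_option linter.style.haveILetI false

universe u

open IsLocalRing

namespace Groth.Agent.H29Node

/-- Fractions with `p`-th power in the ring lie in the ring. -/
def PClosed (p : ℕ) (A : Type u) [CommRing A] : Prop :=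
  ∀ u v a : A, IsSMulRegular A v → u ^ p = a * v ^ p → v ∣ u

theorem pClosed_of_isIntegrallyClosed {p : ℕ} (hp : p ≠ 0) (A : Type u) [CommRing A] [IsDomain A]
    [IsIntegrallyClosed A] : PClosed p A := fun u v a _ h =>
  (IsIntegrallyClosed.pow_dvd_pow_iff hp).1 ⟨a, by rw [h, mul_comm]⟩

theorem pClosed_of_faithfullyFlat {p : ℕ} (A B : Type u) [CommRing A] [CommRing B] [Algebra A B]
    [Module.FaithfullyFlat A B] (h : PClosed p B) : PClosed p A := fun u v a hv he => by
  have hd := h (algebraMap A B u) (algebraMap A B v) (algebraMap A B a) (IsSMulRegular.of_flat (S := B) hv)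
    (by rw [← map_pow, he, map_mul, map_pow])
  have hmem : u ∈ Ideal.comap (algebraMap A B) ((Ideal.span {v}).map (algebraMap A B)) := by
    rw [Ideal.mem_comap, Ideal.map_span, Set.image_singleton, Ideal.mem_span_singleton]
    exact hd
  rw [Ideal.comap_map_eq_self_of_faithfullyFlat, Ideal.mem_span_singleton] at hmem
  exact hmem

theorem pClosed_of_ringEquiv {p : ℕ} {A B : Type u} [CommRing A] [CommRing B] (e : A ≃+* B)
    (h : PClosed p B) : PClosed p A := fun u v a hv he => by
  obtain ⟨c, hc⟩ := h (e u) (e v) (e a)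
    (fun x y hxy => e.symm.injective (hv (show v • e.symm x = v • e.symm y from e.injective (by
      simpa [smul_eq_mul] using hxy))))
    (by rw [← map_pow, he, map_mul, map_pow])
  exact ⟨e.symm c, e.injective (by rw [hc]; simp)⟩

variable {K : Type u} [Field K]

open H11Node MvPowerSeries in
/-- The node is `p`-closed in characteristic `p`. -/
theorem pClosed_nodeRing {p : ℕ} [Fact p.Prime] [CharP K p] : PClosed p (NodeRing K) := by
  classical
  intro u v a hv he
  have hp : p ≠ 0 := (Fact.out : p.Prime).ne_zero
  have hX : ∀ i : Fin 2, Ideal.Quotient.mk (nodeIdeal K) (X i) ≠ 0 := fun i h => by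
    have := congrArg (branch i) h
    rw [branch_mk, axis_X_self, map_zero] at this
    exact PowerSeries.X_ne_zero this
  have hbr : ∀ i : Fin 2, branch i v ≠ 0 := fun i h0 => by
    refine hX i (hv (show v • _ = v • (0 : NodeRing K) from ?_))
    rw [smul_eq_mul, smul_eq_mul, mul_zero]
    have hz : ∀ j, branch j (v * Ideal.Quotient.mk (nodeIdeal K) (X i)) = 0 := fun j => by
      rw [map_mul, branch_mk]
      by_cases hji : j = i
      · subst hji; rw [h0, zero_mul]
      · rw [axis_X_of_ne (Ne.symm hji), mul_zero]
    exact branch_injective (hz 0) (hz 1)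
  have hdvd : ∀ i : Fin 2, ∃ f : PowerSeries K, branch i u = f * branch i v := fun i => by
    obtain ⟨c, hc⟩ := (IsIntegrallyClosed.pow_dvd_pow_iff hp).1
      (⟨branch i a, by rw [← map_pow, he, map_mul, map_pow, mul_comm]⟩ : branch i v ^ p ∣ branch i u ^ p)
    exact ⟨c, by rw [hc, mul_comm]⟩
  choose f hf using hdvd
  obtain ⟨A, rfl⟩ := Ideal.Quotient.mk_surjective a
  have hfa : ∀ i, f i ^ p = axis i A := fun i => by
    refine mul_right_cancel₀ (pow_ne_zero p (hbr i)) ?_
    rw [← mul_pow, ← hf i, ← map_pow, he, map_mul, map_pow, branch_mk]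
  have hconst : ∀ i, PowerSeries.constantCoeff (f i) ^ p = coeff 0 A := fun i => by
    rw [← map_pow, hfa i, ← PowerSeries.coeff_zero_eq_constantCoeff_apply, coeff_axis, Finsupp.single_zero]
  have h01 : PowerSeries.constantCoeff (f 0) = PowerSeries.constantCoeff (f 1) :=
    frobenius_inj K p (show _ ^ p = _ ^ p from (hconst 0).trans (hconst 1).symm)
  let w : MvPowerSeries (Fin 2) K := fun d =>
    if d 1 = 0 then PowerSeries.coeff (d 0) (f 0) else if d 0 = 0 then PowerSeries.coeff (d 1) (f 1) else 0
  have hw : ∀ i, axis i w = f i := fun i => by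
    ext n
    rw [coeff_axis]
    show w (Finsupp.single i n) = _
    fin_cases i
    · simp [w]
    · rcases Nat.eq_zero_or_pos n with hn | hn
      · subst hn
        simpa [w, PowerSeries.coeff_zero_eq_constantCoeff_apply] using h01
      · simp [w, hn.ne']
  refine ⟨Ideal.Quotient.mk _ w, ?_⟩
  have hd : ∀ i, branch i (u - v * Ideal.Quotient.mk _ w) = 0 := fun i => by
    rw [map_sub, map_mul, branch_mk, hw i, hf i, mul_comm, sub_self]
  exact sub_eq_zero.1 (branch_injective (hd 0) (hd 1))

variable (B : Type u) [CommRing B] [IsLocalRing B] [IsNoetherianRing B]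

/-- A local ring with a node as completion is `p`-closed in characteristic `p`. -/
theorem pClosed_of_completion {p : ℕ} [Fact p.Prime] [CharP K p]
    (e : AdicCompletion (maximalIdeal B) B ≃+* H11Node.NodeRing K) : PClosed p B := by
  haveI : Module.FaithfullyFlat B (AdicCompletion (maximalIdeal B) B) :=
    Module.FaithfullyFlat.of_flat_of_isLocalHom
  exact pClosed_of_faithfullyFlat B (AdicCompletion (maximalIdeal B) B)
    (pClosed_of_ringEquiv e (pClosed_nodeRing (K := K)))

omit [IsLocalRing B] [IsNoetherianRing B] in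
/-- `p`-closedness from the localisations at maximal ideals. -/
theorem dvd_of_pClosed_localizations {p : ℕ} (u v a : B) (hv : IsSMulRegular B v) (h : u ^ p = a * v ^ p)
    (hloc : ∀ (m : Ideal B) [m.IsMaximal], PClosed p (Localization.AtPrime m)) : v ∣ u := by
  by_contra hne
  let I : Ideal B := (Ideal.span {v}).colon (Ideal.span {u})
  have hI : I ≠ ⊤ := fun ht => hne (by
    have h1 : (1 : B) ∈ I := ht ▸ trivial
    rw [Submodule.mem_colon] at h1
    exact Ideal.mem_span_singleton.1 (by simpa using h1 u (Ideal.mem_span_singleton_self u)))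
  obtain ⟨m, hm, hIm⟩ := Ideal.exists_le_maximal I hI
  haveI := hm
  obtain ⟨w, hw⟩ := hloc m (algebraMap B _ u) (algebraMap B _ v) (algebraMap B _ a) (IsSMulRegular.of_flat (S := Localization.AtPrime m) hv)
    (by rw [← map_pow, h, map_mul, map_pow])
  obtain ⟨w₀, s, rfl⟩ := IsLocalization.exists_mk'_eq m.primeCompl w
  rw [mul_comm, IsLocalization.mk'_eq_mul_mk'_one, mul_right_comm, ← map_mul, ← IsLocalization.mk'_eq_mul_mk'_one,
    IsLocalization.eq_mk'_iff_mul_eq, ← map_mul] at hw
  obtain ⟨t, ht⟩ := (IsLocalization.eq_iff_exists m.primeCompl _).1 hw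
  refine (t * s).2 (hIm ?_)
  rw [Submodule.mem_colon]
  intro y hy
  obtain ⟨c, rfl⟩ := Ideal.mem_span_singleton'.1 hy
  refine Ideal.mem_span_singleton.2 ⟨c * (t : B) * w₀, ?_⟩
  simp only [Submonoid.coe_mul, smul_eq_mul]
  linear_combination c * ht

end Groth.Agent.H29Node
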