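import Groth.Agent.H29Node.PClosed
import Groth.Agent.H11Node.Geom
import Groth.Agent.H8Props.FlatDimOneBase

/-!
# At-worst-nodal curves are `p`-closed in characteristic `p`
-/

set_option autoImplicit false
set_option linter.style.haveILetI false

universe u

open CategoryTheory CategoryTheory.Limits AlgebraicGeometry TopologicalSpace IsLocalRing

namespace Groth.Agent.H29Node

variable {k : Type u} [Field k] {X : Scheme.{u}} [X.Over (Spec (CommRingCat.of k))]
  [LocallyOfFiniteType (X ↘ Spec (CommRingCat.of k))] {p : ℕ} [Fact p.Prime] [CharP k p]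

/-- The local ring at a node is `p`-closed. -/
theorem pClosed_stalk_of_isNode {x : X} (h : Curv2.IsNode k X x) : PClosed p (X.presheaf.stalk x) := by
  obtain ⟨xb, rfl, ⟨e⟩⟩ := H11Node.exists_completion_iso h
  haveI := H11Node.isLocallyNoetherian_bc (k := k) (X := X) (AlgebraicClosure k)
  haveI : CharP (AlgebraicClosure k) p := charP_of_injective_algebraMap (algebraMap k _).injective p
  haveI : Flat (Spec.map (CommRingCat.ofHom (algebraMap k (AlgebraicClosure k)))) := by
    rw [HasRingHomProperty.Spec_iff (P := @Flat)]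
    exact RingHom.flat_algebraMap_iff.2 inferInstance
  haveI : Flat (Curv2.bcFst k X (AlgebraicClosure k)) := MorphismProperty.pullback_fst _ _ inferInstance
  let g := (Curv2.bcFst k X (AlgebraicClosure k)).stalkMap xb
  letI := g.hom.toAlgebra
  haveI : IsLocalHom (algebraMap (X.presheaf.stalk (Curv2.bcFst k X (AlgebraicClosure k) xb))
      ((Curv2.bc k X (AlgebraicClosure k)).presheaf.stalk xb)) := inferInstanceAs (IsLocalHom g.hom)
  haveI : Module.Flat (X.presheaf.stalk (Curv2.bcFst k X (AlgebraicClosure k) xb))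
      ((Curv2.bc k X (AlgebraicClosure k)).presheaf.stalk xb) := Flat.stalkMap _ _
  haveI : Module.FaithfullyFlat (X.presheaf.stalk (Curv2.bcFst k X (AlgebraicClosure k) xb))
      ((Curv2.bc k X (AlgebraicClosure k)).presheaf.stalk xb) := Module.FaithfullyFlat.of_flat_of_isLocalHom
  exact pClosed_of_faithfullyFlat _ _ (pClosed_of_completion _ e)

/-- The local rings at closed points of an at-worst-nodal curve are `p`-closed. -/
theorem pClosed_stalk (hdim : topologicalKrullDim X ≤ 1) (hX : Curv2.AtWorstNodal k X) {x : X}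
    (hx : IsClosed ({x} : Set X)) : PClosed p (X.presheaf.stalk x) := by
  haveI := H11Node.isLocallyNoetherian_of_over k X
  rcases hX x hx with ⟨U, hxU, hU⟩ | hn
  · haveI := H19Grp.isRegularLocalRing_stalk_of_smooth (U.ι ≫ (X ↘ Spec (CommRingCat.of k))) ⟨x, hxU⟩
    haveI : IsRegularLocalRing (X.presheaf.stalk x) :=
      IsRegularLocalRing.of_ringEquiv (U.stalkIso ⟨x, hxU⟩).commRingCatIsoToRingEquiv
    haveI := H4Depth.isDomain_of_isRegularLocalRing (X.presheaf.stalk x)
    haveI := H8Props.FlatDimOneBase.isPrincipalIdealRing_of_dim_le_one (X.presheaf.stalk x)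
      ((H8Props.FlatDimOneBase.ringKrullDim_stalk_le X x).trans hdim)
    exact pClosed_of_isIntegrallyClosed (Fact.out : p.Prime).ne_zero _
  · exact pClosed_stalk_of_isNode hn

include k in
/-- On an affine open of an at-worst-nodal curve, `p`-th roots among fractions are sections. -/
theorem dvd_of_pow_eq_mul_pow (hdim : topologicalKrullDim X ≤ 1) (hX : Curv2.AtWorstNodal k X) {V : X.Opens}
    (hV : IsAffineOpen V) (u v a : Γ(X, V)) (hv : IsSMulRegular Γ(X, V) v) (h : u ^ p = a * v ^ p) : v ∣ u := by
  refine dvd_of_pClosed_localizations _ u v a hv h fun m _ => ?_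
  haveI : JacobsonSpace X := LocallyOfFiniteType.jacobsonSpace (X ↘ Spec (CommRingCat.of k))
  let P : PrimeSpectrum Γ(X, V) := ⟨m, inferInstance⟩
  let q : ↥(Spec Γ(X, V)) := P
  let x : X := hV.fromSpec q
  have hxV : x ∈ V := by
    have : x ∈ Set.range hV.fromSpec := ⟨q, rfl⟩
    rwa [hV.range_fromSpec] at this
  have hP : hV.primeIdealOf ⟨x, hxV⟩ = P := hV.fromSpec.isOpenEmbedding.injective (hV.fromSpec_primeIdealOf _)
  have hxc : IsClosed ({x} : Set X) := by
    have hq : IsClosed ({q} : Set ↥(Spec Γ(X, V))) :=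
      (PrimeSpectrum.isClosed_singleton_iff_isMaximal P).2 (inferInstanceAs m.IsMaximal)
    have h' := (hq.isLocallyClosed.image hV.fromSpec.isOpenEmbedding.isInducing (by rw [hV.range_fromSpec]; exact V.isOpen.isLocallyClosed))
    rw [Set.image_singleton] at h'
    exact mem_closedPoints_iff.1 (isClosed_singleton_of_isLocallyClosed_singleton h')
  letI : Algebra Γ(X, V) (X.presheaf.stalk x) := (X.presheaf.germ V x hxV).hom.toAlgebra
  haveI : IsLocalization.AtPrime (X.presheaf.stalk x) m := by
    have h' := hV.isLocalization_stalk ⟨x, hxV⟩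
    rw [hP] at h'
    exact h'
  exact pClosed_of_ringEquiv (IsLocalization.algEquiv m.primeCompl (Localization.AtPrime m)
    (X.presheaf.stalk x)).toRingEquiv (pClosed_stalk hdim hX hxc)

end Groth.Agent.H29Node
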