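import Mathlib.RingTheory.Flat.EquationalCriterion
import Mathlib.RingTheory.Flat.FaithfullyFlat.Algebra
import Mathlib.RingTheory.Flat.Localization
import Mathlib.RingTheory.LocalRing.Module
import Mathlib.RingTheory.Nakayama
import Mathlib.RingTheory.LocalRing.ResidueField.Basic
import Mathlib.FieldTheory.IsAlgClosed.Basic
import Mathlib.Tactic.LinearCombination

/-!
# Coordinates of an ordinary double point

A pair `x, y` generating the maximal ideal with `x * y ∈ m ^ 3` and with `x ^ n, y ^ n` independent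
modulo `m ^ (n + 1)` for every `n`: this condition ascends and descends along flat local
homomorphisms preserving the maximal ideal.
-/

set_option autoImplicit false
set_option linter.style.haveILetI false
set_option linter.unusedSectionVars false

universe u

open IsLocalRing

namespace Groth.Agent.H29Node

/-- Coordinates of an ordinary double point. -/
structure IsNodePair {A : Type u} [CommRing A] [IsLocalRing A] (x y : A) : Prop where
  span : Ideal.span {x, y} = maximalIdeal A
  mul : x * y ∈ maximalIdeal A ^ 3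
  indep : ∀ n, 1 ≤ n → ∀ a b : A, a * x ^ n + b * y ^ n ∈ maximalIdeal A ^ (n + 1) →
    a ∈ maximalIdeal A ∧ b ∈ maximalIdeal A

section Flat

variable {A B : Type u} [CommRing A] [CommRing B] [Algebra A B] [Module.Flat A B]

/-- Independence modulo an ideal is preserved by flat base change. -/
theorem mem_map_of_flat {ι : Type} [Fintype ι] (I J : Ideal A) (hI : I.FG) (v : ι → A)
    (h : ∀ c : ι → A, ∑ i, c i * v i ∈ I → ∀ i, c i ∈ J) (b : ι → B)
    (hb : ∑ i, b i * algebraMap A B (v i) ∈ I.map (algebraMap A B)) :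
    ∀ i, b i ∈ J.map (algebraMap A B) := by
  classical
  obtain ⟨m, g, rfl⟩ : ∃ (m : ℕ) (g : Fin m → A), Ideal.span (Set.range g) = I :=
    Submodule.fg_iff_exists_fin_generating_family.1 hI
  rw [Ideal.map_span, ← Set.range_comp, Ideal.mem_span_range_iff_exists_fun] at hb
  obtain ⟨c, hc⟩ := hb
  have hrel : ∑ i : ι ⊕ Fin m, Sum.elim v g i • Sum.elim b (fun j => -c j) i = 0 := by
    rw [Fintype.sum_sum_type]
    simp only [Sum.elim_inl, Sum.elim_inr, Algebra.smul_def, mul_neg, Finset.sum_neg_distrib]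
    rw [add_neg_eq_zero]
    simpa [mul_comm] using hc.symm
  obtain ⟨k, a, z, hz, ha⟩ := Module.Flat.isTrivialRelation_of_sum_smul_eq_zero hrel
  intro i
  have hmem : ∀ j i, a (Sum.inl i) j ∈ J := fun j => by
    refine h (fun i => a (Sum.inl i) j) ?_
    have h1 := ha j
    rw [Fintype.sum_sum_type] at h1
    simp only [Sum.elim_inl, Sum.elim_inr] at h1
    rw [Finset.sum_congr rfl fun i _ => mul_comm (a (Sum.inl i) j) (v i), add_eq_zero_iff_eq_neg.1 h1]
    exact neg_mem (sum_mem fun l _ => Ideal.mul_mem_right _ _ (Ideal.subset_span ⟨l, rfl⟩))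
  have hb : b i = ∑ j, a (Sum.inl i) j • z j := hz (Sum.inl i)
  rw [hb]
  exact sum_mem fun j _ => by
    rw [Algebra.smul_def]; exact Ideal.mul_mem_right _ _ (Ideal.mem_map_of_mem _ (hmem j i))

end Flat

section Local

variable {A : Type u} [CommRing A] [IsLocalRing A] [IsNoetherianRing A]

theorem span_eq_of_le_sup_sq {J : Ideal A} (hJ : J ≤ maximalIdeal A)
    (h : maximalIdeal A ≤ J ⊔ maximalIdeal A ^ 2) : J = maximalIdeal A := by
  refine le_antisymm hJ (Submodule.le_of_le_smul_of_le_jacobson_bot (I := maximalIdeal A)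
    (IsNoetherian.noetherian _) (IsLocalRing.maximalIdeal_le_jacobson _) ?_)
  rwa [smul_eq_mul, ← pow_two]

variable {x y : A}

theorem IsNodePair.mem_left (h : IsNodePair x y) : x ∈ maximalIdeal A :=
  h.span.le (Ideal.subset_span (by simp))

theorem IsNodePair.mem_right (h : IsNodePair x y) : y ∈ maximalIdeal A :=
  h.span.le (Ideal.subset_span (by simp))

theorem IsNodePair.symm (h : IsNodePair x y) : IsNodePair y x where
  span := by rw [Ideal.span_pair_comm]; exact h.span
  mul := by rw [mul_comm]; exact h.mul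
  indep n hn a b hab := (h.indep n hn b a (add_comm (a * y ^ n) (b * x ^ n) ▸ hab)).symm

theorem IsNodePair.smul (h : IsNodePair x y) {p q : A} (hp : IsUnit p) (hq : IsUnit q) :
    IsNodePair (p * x) (q * y) where
  span := by
    rw [← h.span, Ideal.span_insert, Ideal.span_insert, Ideal.span_singleton_mul_left_unit hp,
      Ideal.span_singleton_mul_left_unit hq]
  mul := by rw [show p * x * (q * y) = p * q * (x * y) by ring]; exact Ideal.mul_mem_left _ _ h.mul
  indep n hn a b hab := by
    obtain ⟨ha, hb⟩ := h.indep n hn (a * p ^ n) (b * q ^ n) (by convert hab using 1; ring)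
    exact ⟨(Ideal.mul_unit_mem_iff_mem _ (hp.pow n)).1 ha, (Ideal.mul_unit_mem_iff_mem _ (hq.pow n)).1 hb⟩

theorem pow_sub_pow_mem {x x' : A} (hx : x ∈ maximalIdeal A) (h : x' - x ∈ maximalIdeal A ^ 2) :
    ∀ n, 1 ≤ n → x' ^ n - x ^ n ∈ maximalIdeal A ^ (n + 1) := by
  have hx' : x' ∈ maximalIdeal A := by
    simpa using add_mem (Ideal.pow_le_self two_ne_zero h) hx
  intro n hn
  induction n, hn using Nat.le_induction with
  | base => simpa using h
  | succ n hn ih =>
    rw [show x' ^ (n + 1) - x ^ (n + 1) = x' * (x' ^ n - x ^ n) + (x' - x) * x ^ n by ring]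
    refine add_mem ?_ ?_
    · rw [pow_succ']; exact Ideal.mul_mem_mul hx' ih
    · rw [show n + 1 + 1 = 2 + n by omega, pow_add]; exact Ideal.mul_mem_mul h (Ideal.pow_mem_pow hx n)

theorem IsNodePair.congr (h : IsNodePair x y) {x' y' : A} (hx : x' - x ∈ maximalIdeal A ^ 2)
    (hy : y' - y ∈ maximalIdeal A ^ 2) (hm : x' * y' ∈ maximalIdeal A ^ 3) : IsNodePair x' y' where
  span := by
    refine span_eq_of_le_sup_sq (Ideal.span_le.2 ?_) ?_
    · rintro z (rfl | rfl)
      · simpa using add_mem (Ideal.pow_le_self two_ne_zero hx) h.mem_left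
      · simpa using add_mem (Ideal.pow_le_self two_ne_zero hy) h.mem_right
    · conv_lhs => rw [← h.span]
      rw [Ideal.span_le]
      rintro z (rfl | rfl)
      · rw [show z = x' + -(x' - z) by ring]
        exact Submodule.add_mem_sup (Ideal.subset_span (by simp)) (neg_mem hx)
      · rw [show z = y' + -(y' - z) by ring]
        exact Submodule.add_mem_sup (Ideal.subset_span (by simp)) (neg_mem hy)
  mul := hm
  indep n hn a b hab := by
    refine h.indep n hn a b ?_
    rw [show a * x ^ n + b * y ^ n = (a * x' ^ n + b * y' ^ n) - a * (x' ^ n - x ^ n) - b * (y' ^ n - y ^ n) by ring]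
    exact sub_mem (sub_mem hab (Ideal.mul_mem_left _ _ (pow_sub_pow_mem h.mem_left hx n hn)))
      (Ideal.mul_mem_left _ _ (pow_sub_pow_mem h.mem_right hy n hn))

/-- Modulo `m ^ (n+1)`, the power `m ^ n` is spanned by the two pure powers. -/
theorem IsNodePair.decomp (h : IsNodePair x y) {n : ℕ} (hn : 1 ≤ n) {z : A} (hz : z ∈ maximalIdeal A ^ n) :
    ∃ a b, z - a * x ^ n - b * y ^ n ∈ maximalIdeal A ^ (n + 1) := by
  induction n, hn using Nat.le_induction generalizing z with
  | base =>
    rw [pow_one, ← h.span, Ideal.mem_span_pair] at hz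
    obtain ⟨a, b, rfl⟩ := hz
    exact ⟨a, b, by simp⟩
  | succ n hn ih =>
    rw [pow_succ] at hz
    induction hz using Submodule.mul_induction_on' with
    | mem_mul_mem w hw v hv =>
      obtain ⟨a, b, hab⟩ := ih hw
      rw [← h.span, Ideal.mem_span_pair] at hv
      obtain ⟨c, d, rfl⟩ := hv
      refine ⟨a * c, b * d, ?_⟩
      obtain ⟨n, rfl⟩ : ∃ m, n = m + 1 := ⟨n - 1, by omega⟩
      rw [show w * (c * x + d * y) - a * c * x ^ (n + 1 + 1) - b * d * y ^ (n + 1 + 1) =
        (w - a * x ^ (n + 1) - b * y ^ (n + 1)) * (c * x + d * y) +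
          (a * d * x ^ n + b * c * y ^ n) * (x * y) by ring]
      refine add_mem ?_ ?_
      · rw [pow_succ _ (n + 1 + 1)]
        exact Ideal.mul_mem_mul hab (add_mem (Ideal.mul_mem_left _ _ h.mem_left) (Ideal.mul_mem_left _ _ h.mem_right))
      · rw [show n + 1 + 1 + 1 = n + 3 by omega, pow_add]
        exact Ideal.mul_mem_mul (add_mem (Ideal.mul_mem_left _ _ (Ideal.pow_mem_pow h.mem_left n))
          (Ideal.mul_mem_left _ _ (Ideal.pow_mem_pow h.mem_right n))) h.mul
    | add p _ q _ hp hq =>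
      obtain ⟨a, b, hab⟩ := hp
      obtain ⟨a', b', hab'⟩ := hq
      refine ⟨a + a', b + b', ?_⟩
      convert add_mem hab hab' using 1
      ring

/-- One step of improving the product. -/
theorem IsNodePair.step (h : IsNodePair x y) {n : ℕ} (hn : 2 ≤ n) (hxy : x * y ∈ maximalIdeal A ^ (n + 1)) :
    ∃ x' y', IsNodePair x' y' ∧ x' - x ∈ maximalIdeal A ^ n ∧ y' - y ∈ maximalIdeal A ^ n ∧
      x' * y' ∈ maximalIdeal A ^ (n + 2) := by
  obtain ⟨a, b, hab⟩ := h.decomp (n := n + 1) (by omega) hxy
  have hx : b * y ^ n ∈ maximalIdeal A ^ n := Ideal.mul_mem_left _ _ (Ideal.pow_mem_pow h.mem_right n)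
  have hy : a * x ^ n ∈ maximalIdeal A ^ n := Ideal.mul_mem_left _ _ (Ideal.pow_mem_pow h.mem_left n)
  have hm : (x - b * y ^ n) * (y - a * x ^ n) ∈ maximalIdeal A ^ (n + 2) := by
    rw [show (x - b * y ^ n) * (y - a * x ^ n) =
      (x * y - a * x ^ (n + 1) - b * y ^ (n + 1)) + (b * y ^ n) * (a * x ^ n) by ring]
    refine add_mem hab (Ideal.pow_le_pow_right (show n + 2 ≤ n + n by omega) ?_)
    rw [pow_add]; exact Ideal.mul_mem_mul hx hy
  exact ⟨x - b * y ^ n, y - a * x ^ n,
    h.congr (by simpa using Ideal.pow_le_pow_right hn hx) (by simpa using Ideal.pow_le_pow_right hn hy)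
      (Ideal.pow_le_pow_right (by omega) hm),
    by simpa using hx, by simpa using hy, hm⟩

/-- Any other generating pair with product in `m ^ 3` is again a pair of coordinates. -/
theorem IsNodePair.of_span {x' y' : A} (h : IsNodePair x' y') {x y : A} (hs : Ideal.span {x, y} = maximalIdeal A)
    (hm : x * y ∈ maximalIdeal A ^ 3) : IsNodePair x y := by
  have hx : x ∈ maximalIdeal A := hs.le (Ideal.subset_span (by simp))
  have hy : y ∈ maximalIdeal A := hs.le (Ideal.subset_span (by simp))
  obtain ⟨p, q, hx'⟩ := Ideal.mem_span_pair.1 (h.span.ge hx)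
  obtain ⟨r, s, hy'⟩ := Ideal.mem_span_pair.1 (h.span.ge hy)
  obtain ⟨α, β, hα⟩ := Ideal.mem_span_pair.1 (hs.ge h.mem_left)
  obtain ⟨γ, δ, hγ⟩ := Ideal.mem_span_pair.1 (hs.ge h.mem_right)
  have e1 := h.indep 1 le_rfl (α * p + β * r - 1) (α * q + β * s) (by
    rw [show (α * p + β * r - 1) * x' ^ 1 + (α * q + β * s) * y' ^ 1 = 0 by
      linear_combination α * hx' + β * hy' + hα]
    exact zero_mem _)
  have e2 := h.indep 1 le_rfl (γ * p + δ * r) (γ * q + δ * s - 1) (by
    rw [show (γ * p + δ * r) * x' ^ 1 + (γ * q + δ * s - 1) * y' ^ 1 = 0 by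
      linear_combination γ * hx' + δ * hy' + hγ]
    exact zero_mem _)
  have e3 := h.indep 2 one_le_two (p * r) (q * s) (by
    rw [show p * r * x' ^ 2 + q * s * y' ^ 2 = x * y - (p * s + q * r) * (x' * y') by
      rw [← hx', ← hy']; ring]
    exact sub_mem hm (Ideal.mul_mem_left _ _ h.mul))
  simp only [← residue_eq_zero_iff, map_add, map_sub, map_mul, map_one, mul_eq_zero] at e1 e2 e3
  set π := residue A
  have hdet : π p * π s - π q * π r ≠ 0 := fun h0 => one_ne_zero (α := ResidueField A) (by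
    linear_combination (π α * π δ - π β * π γ) * h0 - (π γ * π q + π δ * π s) * e1.1
      - e2.2 + (π γ * π p + π δ * π r) * e1.2)
  have unit : ∀ {z : A}, π z ≠ 0 → IsUnit z := fun hz => residue_ne_zero_iff_isUnit _ |>.1 hz
  have small : ∀ {z w : A}, π z = 0 → w ∈ maximalIdeal A → z * w ∈ maximalIdeal A ^ 2 := fun hz hw => by
    rw [pow_two]; exact Ideal.mul_mem_mul (residue_eq_zero_iff _ |>.1 hz) hw
  rcases e3.1 with hp0 | hr0
  · have hqr : π q * π r ≠ 0 := fun h0 => hdet (by rw [hp0, h0]; ring)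
    have hs0 : π s = 0 := e3.2.resolve_left (left_ne_zero_of_mul hqr)
    refine (h.symm.smul (unit (left_ne_zero_of_mul hqr)) (unit (right_ne_zero_of_mul hqr))).congr ?_ ?_ hm
    · rw [show x - q * y' = p * x' by rw [← hx']; ring]; exact small hp0 h.mem_left
    · rw [show y - r * x' = s * y' by rw [← hy']; ring]; exact small hs0 h.mem_right
  · have hps : π p * π s ≠ 0 := fun h0 => hdet (by rw [hr0, h0]; ring)
    have hq0 : π q = 0 := e3.2.resolve_right (right_ne_zero_of_mul hps)
    refine (h.smul (unit (left_ne_zero_of_mul hps)) (unit (right_ne_zero_of_mul hps))).congr ?_ ?_ hm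
    · rw [show x - p * x' = q * y' by rw [← hx']; ring]; exact small hq0 h.mem_right
    · rw [show y - s * y' = r * x' by rw [← hy']; ring]; exact small hr0 h.mem_left

end Local

section Map

variable {A B : Type u} [CommRing A] [CommRing B] [Algebra A B] [IsLocalRing A] [IsLocalRing B]
  [IsNoetherianRing A] [IsLocalHom (algebraMap A B)] [Module.Flat A B]
  (hm : (maximalIdeal A).map (algebraMap A B) = maximalIdeal B)

local notation "φ" => algebraMap A B

include hm in
theorem map_pow_eq (n : ℕ) : (maximalIdeal A ^ n).map φ = maximalIdeal B ^ n := by rw [Ideal.map_pow, hm]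

include hm in
theorem mem_pow_of_map_mem {n : ℕ} {a : A} (h : φ a ∈ maximalIdeal B ^ n) : a ∈ maximalIdeal A ^ n := by
  haveI : Module.FaithfullyFlat A B := Module.FaithfullyFlat.of_flat_of_isLocalHom
  rwa [← map_pow_eq hm, ← Ideal.mem_comap, Ideal.comap_map_eq_self_of_faithfullyFlat] at h

include hm in
theorem IsNodePair.map {x y : A} (h : IsNodePair x y) : IsNodePair (φ x) (φ y) where
  span := by rw [← hm, ← h.span, Ideal.map_span, Set.image_pair]
  mul := by rw [← map_mul, ← map_pow_eq hm]; exact Ideal.mem_map_of_mem _ h.mul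
  indep n hn a b hab := by
    have := mem_map_of_flat (B := B) (maximalIdeal A ^ (n + 1)) (maximalIdeal A) (IsNoetherian.noetherian _)
      ![x ^ n, y ^ n] (fun c hc i => by
        obtain ⟨h0, h1⟩ := h.indep n hn (c 0) (c 1) (by simpa [Fin.sum_univ_two] using hc)
        fin_cases i <;> assumption) ![a, b] (by simpa [Fin.sum_univ_two, map_pow_eq hm] using hab)
    exact ⟨hm ▸ this 0, hm ▸ this 1⟩

include hm in
theorem IsNodePair.comap {x y : A} (h : IsNodePair (φ x) (φ y)) : IsNodePair x y where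
  span := by
    haveI : Module.FaithfullyFlat A B := Module.FaithfullyFlat.of_flat_of_isLocalHom
    rw [← Ideal.comap_map_eq_self_of_faithfullyFlat (A := A) (B := B) (Ideal.span {x, y}), Ideal.map_span,
      Set.image_pair, h.span, ← hm, Ideal.comap_map_eq_self_of_faithfullyFlat]
  mul := mem_pow_of_map_mem hm (by rw [map_mul]; exact h.mul)
  indep n hn a b hab := by
    obtain ⟨ha, hb⟩ := h.indep n hn (φ a) (φ b) (by
      rw [← map_pow_eq hm, ← map_pow φ x, ← map_pow φ y, ← map_mul, ← map_mul, ← map_add]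
      exact Ideal.mem_map_of_mem _ hab)
    exact ⟨(map_mem_nonunits_iff φ a).1 ha, (map_mem_nonunits_iff φ b).1 hb⟩

omit [IsNoetherianRing A] in
/-- A root decomposition of a binary quadratic form. -/
theorem exists_factor_quad {F : Type u} [Field F] [IsAlgClosed F] (a b c : F) :
    ∃ α β γ δ : F, a = α * γ ∧ b = α * δ + β * γ ∧ c = β * δ := by
  by_cases ha : a = 0
  · exact ⟨0, 1, b, c, by simp [ha], by simp, by simp⟩
  obtain ⟨t, ht⟩ := IsAlgClosed.exists_root
    (Polynomial.C a * Polynomial.X ^ 2 + Polynomial.C b * Polynomial.X + Polynomial.C c)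
    (by rw [Polynomial.degree_quadratic ha]; decide)
  refine ⟨1, -t, a, b + a * t, by ring, by ring, ?_⟩
  simp only [Polynomial.IsRoot, Polynomial.eval_add, Polynomial.eval_mul, Polynomial.eval_C,
    Polynomial.eval_pow, Polynomial.eval_X] at ht
  linear_combination ht

variable [IsNoetherianRing B]

include hm in
/-- Coordinates descend when the residue field downstairs is algebraically closed. -/
theorem IsNodePair.exists_descend [IsAlgClosed (ResidueField A)] {u v : B} (h : IsNodePair u v) :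
    ∃ x y : A, IsNodePair x y := by
  let π := residue B
  have coord : ∀ {g : A}, g ∈ maximalIdeal A → ∃ p q, p * u + q * v = φ g := fun {g} hg =>
    Ideal.mem_span_pair.1 (h.span.ge (hm.le (Ideal.mem_map_of_mem _ hg)))
  -- two elements downstairs with independent coordinates
  obtain ⟨g, hg, l, hl, p, q, r, s, hgc, hlc, hdet⟩ : ∃ g ∈ maximalIdeal A, ∃ l ∈ maximalIdeal A,
      ∃ p q r s : B, p * u + q * v = φ g ∧ r * u + s * v = φ l ∧ π p * π s - π q * π r ≠ 0 := by
    by_contra hcon
    push Not at hcon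
    by_cases hall : ∀ g ∈ maximalIdeal A, φ g ∈ maximalIdeal B ^ 2
    · have : maximalIdeal B = ⊥ := by
        refine (span_eq_of_le_sup_sq bot_le ?_).symm
        rw [bot_sup_eq]
        conv_lhs => rw [← hm]
        exact Ideal.map_le_iff_le_comap.2 hall
      exact (h.indep 1 le_rfl 1 0 (by
        have hu : u = 0 := (Submodule.mem_bot _).1 (this ▸ h.mem_left)
        simp [hu])).1 isUnit_one
    · push Not at hall
      obtain ⟨g, hg, hg2⟩ := hall
      obtain ⟨p, q, hgc⟩ := coord hg
      have hsp : maximalIdeal B ≤ Ideal.span {φ g} ⊔ maximalIdeal B ^ 2 := by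
        conv_lhs => rw [← hm]
        refine Ideal.map_le_iff_le_comap.2 fun l hl => ?_
        obtain ⟨r, s, hlc⟩ := coord hl
        have h0 : p * s - q * r ∈ maximalIdeal B := by
          rw [← residue_eq_zero_iff, map_sub, map_mul, map_mul]; exact hcon g hg l hl p q r s hgc hlc
        show φ l ∈ Ideal.span {φ g} ⊔ maximalIdeal B ^ 2
        have hpq : IsUnit p ∨ IsUnit q := by
          by_contra hno
          push Not at hno
          refine hg2 ?_
          rw [← hgc, pow_two]
          exact add_mem (Ideal.mul_mem_mul hno.1 h.mem_left) (Ideal.mul_mem_mul hno.2 h.mem_right)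
        rcases hpq with hp | hq
        · obtain ⟨p', hp'⟩ := hp.exists_left_inv
          rw [show φ l = p' * r * φ g + p' * ((p * s - q * r) * v) by
            rw [← hlc, ← hgc]; linear_combination -(r * u + s * v) * hp']
          exact Submodule.add_mem_sup (Ideal.mem_span_singleton'.2 ⟨_, rfl⟩)
            (Ideal.mul_mem_left _ _ (pow_two (maximalIdeal B) ▸ Ideal.mul_mem_mul h0 h.mem_right))
        · obtain ⟨q', hq'⟩ := hq.exists_left_inv
          rw [show φ l = q' * s * φ g + -q' * ((p * s - q * r) * u) by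
            rw [← hlc, ← hgc]; linear_combination -(r * u + s * v) * hq']
          exact Submodule.add_mem_sup (Ideal.mem_span_singleton'.2 ⟨_, rfl⟩)
            (Ideal.mul_mem_left _ _ (pow_two (maximalIdeal B) ▸ Ideal.mul_mem_mul h0 h.mem_left))
      have heq := span_eq_of_le_sup_sq
        ((Ideal.span_singleton_le_iff_mem _).2 (hm.le (Ideal.mem_map_of_mem _ hg))) hsp
      obtain ⟨a, ha⟩ := Ideal.mem_span_singleton'.1 (heq.ge h.mem_left)
      obtain ⟨b, hb⟩ := Ideal.mem_span_singleton'.1 (heq.ge h.mem_right)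
      obtain ⟨hb', ha'⟩ := h.indep 1 le_rfl b (-a) (by
        rw [show b * u ^ 1 + -a * v ^ 1 = 0 by rw [← ha, ← hb]; ring]
        exact zero_mem _)
      refine (h.indep 1 le_rfl 1 0 ?_).1 isUnit_one
      rw [one_mul, zero_mul, add_zero, pow_one, ← ha]
      exact pow_two (maximalIdeal B) ▸ Ideal.mul_mem_mul (neg_mem_iff.1 ha') (hm.le (Ideal.mem_map_of_mem _ hg))
  -- the relation in degree two
  obtain ⟨c, hc, i, hci⟩ : ∃ c : Fin 3 → A,
      ∑ i, c i * ![g ^ 2, g * l, l ^ 2] i ∈ maximalIdeal A ^ 3 ∧ ∃ i, c i ∉ maximalIdeal A := by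
    by_contra hcon
    push Not at hcon
    have hv := mem_map_of_flat (B := B) (maximalIdeal A ^ 3) (maximalIdeal A) (IsNoetherian.noetherian _)
      ![g ^ 2, g * l, l ^ 2] hcon ![r * s, -(p * s + q * r), p * q] (by
        simp only [Fin.sum_univ_three, Matrix.cons_val_zero, Matrix.cons_val_one, Matrix.cons_val_two,
          Matrix.tail_cons, Matrix.head_cons, map_pow, map_mul, map_pow_eq hm, ← hgc, ← hlc]
        rw [show r * s * (p * u + q * v) ^ 2 + -(p * s + q * r) * ((p * u + q * v) * (r * u + s * v)) +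
          p * q * (r * u + s * v) ^ 2 = -((p * s - q * r) ^ 2) * (u * v) by ring]
        exact Ideal.mul_mem_left _ _ h.mul)
    rw [hm] at hv
    have h0 : π r * π s = 0 := by rw [← map_mul]; exact residue_eq_zero_iff _ |>.2 (by simpa using hv 0)
    have h1 : π p * π s + π q * π r = 0 := by
      rw [← map_mul, ← map_mul, ← map_add]; exact residue_eq_zero_iff _ |>.2 (neg_mem_iff.1 (by simpa using hv 1))
    have h2 : π p * π q = 0 := by rw [← map_mul]; exact residue_eq_zero_iff _ |>.2 (by simpa using hv 2)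
    refine hdet ?_
    rcases mul_eq_zero.1 h2 with hp | hq
    · rw [hp] at h1 ⊢; linear_combination -h1
    · rw [hq] at h1 ⊢; linear_combination h1
  obtain ⟨α', β', γ', δ', ha, hb, hc'⟩ := exists_factor_quad (residue A (c 0)) (residue A (c 1)) (residue A (c 2))
  obtain ⟨α, rfl⟩ := residue_surjective α'
  obtain ⟨β, rfl⟩ := residue_surjective β'
  obtain ⟨γ, rfl⟩ := residue_surjective γ'
  obtain ⟨δ, rfl⟩ := residue_surjective δ'
  set x := α * g + β * l with hx
  set y := γ * g + δ * l with hy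
  have hxm : x ∈ maximalIdeal A := add_mem (Ideal.mul_mem_left _ _ hg) (Ideal.mul_mem_left _ _ hl)
  have hym : y ∈ maximalIdeal A := add_mem (Ideal.mul_mem_left _ _ hg) (Ideal.mul_mem_left _ _ hl)
  simp only [← map_mul, ← map_add] at ha hb hc'
  replace ha := Ideal.Quotient.eq.1 ha
  replace hb := Ideal.Quotient.eq.1 hb
  replace hc' := Ideal.Quotient.eq.1 hc'
  have hxy : x * y ∈ maximalIdeal A ^ 3 := by
    simp only [Fin.sum_univ_three, Matrix.cons_val_zero, Matrix.cons_val_one, Matrix.cons_val_two,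
      Matrix.tail_cons, Matrix.head_cons] at hc
    have h2 : ∀ {a w z : A}, a ∈ maximalIdeal A → w ∈ maximalIdeal A → z ∈ maximalIdeal A →
        a * (w * z) ∈ maximalIdeal A ^ 3 := fun ha hw hz => by
      rw [pow_succ', pow_two]; exact Ideal.mul_mem_mul ha (Ideal.mul_mem_mul hw hz)
    convert sub_mem (sub_mem (sub_mem hc (h2 ha hg hg)) (h2 hb hg hl)) (h2 hc' hl hl) using 1
    rw [hx, hy]; ring
  -- in residues upstairs
  set P := π (φ α) * π p + π (φ β) * π r with hP
  set Q := π (φ α) * π q + π (φ β) * π s with hQ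
  set R := π (φ γ) * π p + π (φ δ) * π r with hR
  set S := π (φ γ) * π q + π (φ δ) * π s with hS
  have he := h.indep 2 one_le_two ((φ α * p + φ β * r) * (φ γ * p + φ δ * r))
    ((φ α * q + φ β * s) * (φ γ * q + φ δ * s)) (by
      have h3 : φ x * φ y ∈ maximalIdeal B ^ 3 := by
        rw [← map_mul, ← map_pow_eq hm]; exact Ideal.mem_map_of_mem _ hxy
      rw [hx, hy, map_add, map_add, map_mul, map_mul, map_mul, map_mul, ← hgc, ← hlc] at h3
      convert sub_mem h3 (Ideal.mul_mem_left (maximalIdeal B ^ 3)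
        ((φ α * p + φ β * r) * (φ γ * q + φ δ * s) + (φ α * q + φ β * s) * (φ γ * p + φ δ * r)) h.mul) using 1
      ring)
  simp only [← residue_eq_zero_iff, map_add, map_mul, mul_eq_zero] at he
  change (P = 0 ∨ R = 0) ∧ (Q = 0 ∨ S = 0) at he
  have hnz1 : ¬ (P = 0 ∧ Q = 0) := fun ⟨hP0, hQ0⟩ => by
    have hα : π (φ α) = 0 := (mul_eq_zero.1 (show π (φ α) * (π p * π s - π q * π r) = 0 by
      linear_combination π s * hP0 - π r * hQ0)).resolve_right hdet
    have hβ : π (φ β) = 0 := (mul_eq_zero.1 (show π (φ β) * (π p * π s - π q * π r) = 0 by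
      linear_combination π p * hQ0 - π q * hP0)).resolve_right hdet
    simp only [π, residue_eq_zero_iff] at hα hβ
    replace hα := (map_mem_nonunits_iff φ α).1 hα
    replace hβ := (map_mem_nonunits_iff φ β).1 hβ
    refine hci ?_
    fin_cases i
    · exact (Submodule.sub_mem_iff_left _ (Ideal.mul_mem_right _ _ hα)).1 ha
    · exact (Submodule.sub_mem_iff_left _ (add_mem (Ideal.mul_mem_right _ _ hα) (Ideal.mul_mem_right _ _ hβ))).1 hb
    · exact (Submodule.sub_mem_iff_left _ (Ideal.mul_mem_right _ _ hβ)).1 hc'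
  have hnz2 : ¬ (R = 0 ∧ S = 0) := fun ⟨hP0, hQ0⟩ => by
    have hα : π (φ γ) = 0 := (mul_eq_zero.1 (show π (φ γ) * (π p * π s - π q * π r) = 0 by
      linear_combination π s * hP0 - π r * hQ0)).resolve_right hdet
    have hβ : π (φ δ) = 0 := (mul_eq_zero.1 (show π (φ δ) * (π p * π s - π q * π r) = 0 by
      linear_combination π p * hQ0 - π q * hP0)).resolve_right hdet
    simp only [π, residue_eq_zero_iff] at hα hβ
    replace hα := (map_mem_nonunits_iff φ γ).1 hα
    replace hβ := (map_mem_nonunits_iff φ δ).1 hβ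
    refine hci ?_
    fin_cases i
    · exact (Submodule.sub_mem_iff_left _ (Ideal.mul_mem_left _ _ hα)).1 ha
    · exact (Submodule.sub_mem_iff_left _ (add_mem (Ideal.mul_mem_left _ _ hβ) (Ideal.mul_mem_left _ _ hα))).1 hb
    · exact (Submodule.sub_mem_iff_left _ (Ideal.mul_mem_left _ _ hβ)).1 hc'
  have hd : π (φ α) * π (φ δ) - π (φ β) * π (φ γ) ≠ 0 := fun h0 => by
    have hdd : P * S - Q * R = 0 := by
      rw [hP, hQ, hR, hS]; linear_combination (π p * π s - π q * π r) * h0
    rcases he.1 with hP0 | hR0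
    · have hS0 : S = 0 := he.2.resolve_left fun hQ0 => hnz1 ⟨hP0, hQ0⟩
      rw [hP0, hS0] at hdd
      simp only [zero_mul, zero_sub, neg_eq_zero, mul_eq_zero] at hdd
      exact hdd.elim (fun hQ0 => hnz1 ⟨hP0, hQ0⟩) fun hR0 => hnz2 ⟨hR0, hS0⟩
    · have hQ0 : Q = 0 := he.2.resolve_right fun hS0 => hnz2 ⟨hR0, hS0⟩
      rw [hR0, hQ0] at hdd
      simp only [zero_mul, sub_zero, mul_eq_zero] at hdd
      exact hdd.elim (fun hP0 => hnz1 ⟨hP0, hQ0⟩) fun hS0 => hnz2 ⟨hR0, hS0⟩
  have hD : P * S - Q * R ≠ 0 := by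
    rw [show P * S - Q * R = (π (φ α) * π (φ δ) - π (φ β) * π (φ γ)) * (π p * π s - π q * π r) by
      rw [hP, hQ, hR, hS]; ring]
    exact mul_ne_zero hd hdet
  -- so the new pair generates upstairs
  obtain ⟨D', hD'⟩ : ∃ D', D' * ((φ α * p + φ β * r) * (φ γ * q + φ δ * s) -
      (φ α * q + φ β * s) * (φ γ * p + φ δ * r)) = 1 := by
    refine IsUnit.exists_left_inv ((residue_ne_zero_iff_isUnit _).1 ?_)
    simpa [map_sub, map_mul, map_add, P, Q, R, S, π] using hD
  have hx' : φ x = (φ α * p + φ β * r) * u + (φ α * q + φ β * s) * v := by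
    rw [hx, map_add, map_mul, map_mul, ← hgc, ← hlc]; ring
  have hy' : φ y = (φ γ * p + φ δ * r) * u + (φ γ * q + φ δ * s) * v := by
    rw [hy, map_add, map_mul, map_mul, ← hgc, ← hlc]; ring
  have hspan : Ideal.span {φ x, φ y} = maximalIdeal B := by
    refine le_antisymm (Ideal.span_le.2 ?_) ?_
    · rintro z (rfl | rfl)
      · exact hm.le (Ideal.mem_map_of_mem _ hxm)
      · exact hm.le (Ideal.mem_map_of_mem _ hym)
    · conv_lhs => rw [← h.span]
      rw [Ideal.span_le]
      rintro z (rfl | rfl)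
      · refine Ideal.mem_span_pair.2 ⟨D' * (φ γ * q + φ δ * s), -D' * (φ α * q + φ β * s), ?_⟩
        rw [hx', hy']; linear_combination z * hD'
      · refine Ideal.mem_span_pair.2 ⟨-D' * (φ γ * p + φ δ * r), D' * (φ α * p + φ β * r), ?_⟩
        rw [hx', hy']; linear_combination z * hD'
  refine ⟨x, y, IsNodePair.comap hm (h.of_span hspan ?_)⟩
  rw [← map_mul, ← map_pow_eq hm]; exact Ideal.mem_map_of_mem _ hxy

end Map

end Groth.Agent.H29Node
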