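import Groth.Agent.H29Node.Quad
import Groth.Agent.H29Node.Criterion
import Groth.Agent.H05EGA4.CohenStructure
import Mathlib.RingTheory.Etale.Field

/-!
# The completion of a nondegenerate quadratic singularity
-/

set_option autoImplicit false
set_option linter.style.haveILetI false

universe u

open IsLocalRing MvPowerSeries

namespace Groth.Agent.H29Node

variable {K : Type u} [Field K]

/-- The quadratic form as a power series. -/
noncomputable abbrev quad (a b c : K) : MvPowerSeries (Fin 2) K :=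
  C a * X 0 ^ 2 + C b * X 0 * X 1 + C c * X 1 ^ 2

/-- Nilpotents modulo a nondegenerate quadratic form vanish. -/
theorem isReduced_quad {a b c : K} (hd : 4 * a * c - b ^ 2 ≠ 0) :
    _root_.IsReduced (MvPowerSeries (Fin 2) K ⧸ Ideal.span {quad a b c}) := by
  let L := AlgebraicClosure K
  let φ := algebraMap K L
  obtain ⟨α, β, γ, δ, ha, hb, hc⟩ := exists_factor_quad (φ a) (φ b) (φ c)
  have hD : α * δ - β * γ ≠ 0 := fun h0 => hd (φ.injective (by
    rw [map_zero, map_sub, map_mul, map_mul, map_pow, map_ofNat, ha, hb, hc]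
    linear_combination -(α * δ - β * γ) * h0))
  set D := (α * δ - β * γ)⁻¹
  have := H24Art.isAdicComplete_mvPowerSeries (R := L) (n := 2)
  have hX : ∀ (i : Fin 2) (r : MvPowerSeries (Fin 2) L), r * X i ∈ maximalIdeal (MvPowerSeries (Fin 2) L) := fun i r =>
    Ideal.mul_mem_left _ _ (by simp [isUnit_iff_constantCoeff])
  obtain ⟨T, hT⟩ := H02CA.PS.exists_algHom (R := L) (maximalIdeal (MvPowerSeries (Fin 2) L))
    ![C (D * δ) * X 0 - C (D * β) * X 1, C (D * α) * X 1 - C (D * γ) * X 0]
    (fun i => by fin_cases i <;> exact sub_mem (hX _ _) (hX _ _))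
  obtain ⟨T', hT'⟩ := H02CA.PS.exists_algHom (R := L) (maximalIdeal (MvPowerSeries (Fin 2) L))
    ![C α * X 0 + C β * X 1, C γ * X 0 + C δ * X 1] (fun i => by fin_cases i <;> exact add_mem (hX _ _) (hX _ _))
  have h0 : T (X 0) = C (D * δ) * X 0 - C (D * β) * X 1 := by simpa using hT 0
  have h1 : T (X 1) = C (D * α) * X 1 - C (D * γ) * X 0 := by simpa using hT 1
  have h0' : T' (X 0) = C α * X 0 + C β * X 1 := by simpa using hT' 0
  have h1' : T' (X 1) = C γ * X 0 + C δ * X 1 := by simpa using hT' 1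
  have hTC : ∀ r, T (C r) = C r := fun r => by rw [c_eq_algebraMap, AlgHom.commutes]
  have hTC' : ∀ r, T' (C r) = C r := fun r => by rw [c_eq_algebraMap, AlgHom.commutes]
  have hDD : (C D : MvPowerSeries (Fin 2) L) * C (α * δ - β * γ) = 1 := by
    rw [← map_mul, inv_mul_cancel₀ hD, map_one]
  have hid : ∀ f, T' (T f) = f := by
    have e : T'.comp T = AlgHom.id L _ := by
      refine H02CA.PS.algHom_ext (maximalIdeal (MvPowerSeries (Fin 2) L)) (fun i => ?_) (fun i => ?_) <;>
        fin_cases i <;> simp only [AlgHom.comp_apply, Fin.zero_eta, Fin.mk_one, AlgHom.id_apply, h0, h1, map_sub,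
          map_mul, hTC', h0', h1']
      · exact sub_mem (Ideal.mul_mem_left _ _ (add_mem (hX _ _) (hX _ _))) (Ideal.mul_mem_left _ _ (add_mem (hX _ _) (hX _ _)))
      · exact sub_mem (Ideal.mul_mem_left _ _ (add_mem (hX _ _) (hX _ _))) (Ideal.mul_mem_left _ _ (add_mem (hX _ _) (hX _ _)))
      · simp only [map_sub, map_mul] at hDD
        linear_combination (X 0 : MvPowerSeries (Fin 2) L) * hDD
      · simp only [map_sub, map_mul] at hDD
        linear_combination (X 1 : MvPowerSeries (Fin 2) L) * hDD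
    exact fun f => DFunLike.congr_fun e f
  have hl₁ : T (C α * X 0 + C β * X 1) = X 0 := by
    simp only [map_add, map_mul, hTC, h0, h1]
    simp only [map_sub, map_mul] at hDD
    linear_combination (X 0 : MvPowerSeries (Fin 2) L) * hDD
  let Q := MvPowerSeries.map φ (quad a b c)
  have hQ : Q = (C α * X 0 + C β * X 1) * (C γ * X 0 + C δ * X 1) := by
    simp only [Q, map_add, map_mul, map_pow, map_C, map_X, ha, hb, hc]
    ring
  obtain ⟨ρ, hρ⟩ := (Algebra.linearMap K L).exists_leftInverse_of_injective (LinearMap.ker_eq_bot.2 φ.injective)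
  have hρ' : ∀ r : K, ρ (φ r) = r := fun r => DFunLike.congr_fun hρ r
  let ρ' : MvPowerSeries (Fin 2) L → MvPowerSeries (Fin 2) K := fun g d => ρ (coeff d g)
  refine ⟨fun z hz => ?_⟩
  obtain ⟨f, rfl⟩ := Ideal.Quotient.mk_surjective z
  obtain ⟨n, hn⟩ := hz
  rw [← map_pow, Ideal.Quotient.eq_zero_iff_mem, Ideal.mem_span_singleton'] at hn
  obtain ⟨g, hg⟩ := hn
  have hnode : T (MvPowerSeries.map φ f) ∈ H11Node.nodeIdeal L := by
    rw [← Ideal.Quotient.eq_zero_iff_mem]
    refine IsReduced.eq_zero _ ⟨n, ?_⟩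
    rw [← map_pow, ← map_pow, ← map_pow, ← hg, map_mul, map_mul, map_mul]
    refine mul_eq_zero_of_right _ (Ideal.Quotient.eq_zero_iff_mem.2 ?_)
    rw [show MvPowerSeries.map φ (quad a b c) = Q from rfl, hQ, map_mul, hl₁]
    simp only [map_add, map_mul, hTC, h0, h1]
    have hl₂ : C γ * (C D * C δ * X 0 - C D * C β * X 1) + C δ * (C D * C α * X 1 - C D * C γ * X 0) =
        (X 1 : MvPowerSeries (Fin 2) L) := by
      simp only [map_sub, map_mul] at hDD
      linear_combination (X 1 : MvPowerSeries (Fin 2) L) * hDD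
    rw [hl₂]
    exact Ideal.mem_span_singleton_self _
  obtain ⟨h, hh⟩ := Ideal.mem_span_singleton'.1 hnode
  have hf : MvPowerSeries.map φ f = T' h * Q := by
    rw [← hid (MvPowerSeries.map φ f), ← hh, map_mul, map_mul, h0', h1', hQ]
  refine Ideal.Quotient.eq_zero_iff_mem.2 (Ideal.mem_span_singleton'.2 ⟨ρ' (T' h), ?_⟩)
  classical
  ext d
  have h2 := congrArg (fun F => ρ (coeff d F)) hf
  simp only [coeff_map, hρ'] at h2
  rw [h2, mul_comm, coeff_mul, coeff_mul, map_sum]
  refine (Finset.sum_equiv (Equiv.prodComm _ _) (fun p => by simp [add_comm]) fun p _ => ?_)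
  simp only [Equiv.prodComm_apply, Prod.fst_swap, Prod.snd_swap, Q, coeff_map]
  rw [mul_comm (coeff p.2 (T' h)), ← Algebra.smul_def, map_smul, smul_eq_mul]
  rfl

/-- The linear forms are independent modulo the quadratic form and `m ^ 2`. -/
theorem mem_maximal_of_linear {a b c : K} {f g : MvPowerSeries (Fin 2) K}
    (h : f * X 0 + g * X 1 ∈ maximalIdeal (MvPowerSeries (Fin 2) K) ^ 2 ⊔ Ideal.span {quad a b c}) :
    constantCoeff f = 0 ∧ constantCoeff g = 0 := by
  classical
  have hle : maximalIdeal (MvPowerSeries (Fin 2) K) ≤ H02CA.PS.vars (Fin 2) K := fun f hf =>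
    H02CA.PS.mem_vars_iff.2 (by
      by_contra h1
      exact hf (isUnit_iff_constantCoeff.2 (Ne.isUnit h1)))
  have hX : ∀ i, (X i : MvPowerSeries (Fin 2) K) ∈ H02CA.PS.vars (Fin 2) K := fun i => Ideal.subset_span ⟨i, rfl⟩
  have h2 : f * X 0 + g * X 1 ∈ H02CA.PS.vars (Fin 2) K ^ 2 := by
    refine (sup_le (Ideal.pow_right_mono hle 2) ((Ideal.span_singleton_le_iff_mem _).2 ?_)) h
    rw [pow_two]
    refine add_mem (add_mem (Ideal.mul_mem_left _ _ ?_) ?_) (Ideal.mul_mem_left _ _ ?_)
    · rw [pow_two]; exact Ideal.mul_mem_mul (hX 0) (hX 0)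
    · rw [mul_assoc]; exact Ideal.mul_mem_left _ _ (Ideal.mul_mem_mul (hX 0) (hX 1))
    · rw [pow_two]; exact Ideal.mul_mem_mul (hX 1) (hX 1)
  have hf : f - C (constantCoeff f) ∈ H02CA.PS.vars (Fin 2) K := H02CA.PS.mem_vars_iff.2 (by simp)
  have hg : g - C (constantCoeff g) ∈ H02CA.PS.vars (Fin 2) K := H02CA.PS.mem_vars_iff.2 (by simp)
  have h3 := sub_mem h2 (add_mem (pow_two (H02CA.PS.vars (Fin 2) K) ▸ Ideal.mul_mem_mul hf (hX 0))
    (pow_two (H02CA.PS.vars (Fin 2) K) ▸ Ideal.mul_mem_mul hg (hX 1)))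
  rw [show f * X 0 + g * X 1 - ((f - C (constantCoeff f)) * X 0 + (g - C (constantCoeff g)) * X 1) =
    C (constantCoeff f) * X 0 + C (constantCoeff g) * X 1 by ring] at h3
  have e0 := H02CA.PS.coeff_eq_zero_of_mem_pow h3 (d := Finsupp.single 0 1) (by simp)
  have e1 := H02CA.PS.coeff_eq_zero_of_mem_pow h3 (d := Finsupp.single 1 1) (by simp)
  simp only [map_add, coeff_C_mul, coeff_X, Finsupp.single_left_inj (one_ne_zero (α := ℕ))] at e0 e1
  simp at e0 e1
  exact ⟨e0, e1⟩

section Local

variable {A : Type u} [CommRing A] [IsLocalRing A] [IsNoetherianRing A]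

local notation "Â" => AdicCompletion (maximalIdeal A) A

/-- A ring with quadratic completion is reduced, of embedding dimension two, with a nondegenerate relation. -/
theorem exists_quad_of_completion {a b c : K} (hd : 4 * a * c - b ^ 2 ≠ 0)
    (e : Â ≃+* (MvPowerSeries (Fin 2) K ⧸ Ideal.span {quad a b c})) :
    _root_.IsReduced A ∧ Module.finrank (ResidueField A) (CotangentSpace A) = 2 ∧
      ∃ x y a b c : A, x ∈ maximalIdeal A ∧ y ∈ maximalIdeal A ∧
        Ideal.span {x, y} ⊔ maximalIdeal A ^ 2 = maximalIdeal A ∧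
        residue A (4 * a * c - b ^ 2) ≠ 0 ∧
        a * x ^ 2 + b * x * y + c * y ^ 2 ∈ maximalIdeal A ^ 3 := by
  haveI := isReduced_quad hd
  haveI : Module.Flat A Â := AdicCompletion.flat_of_isNoetherian _
  haveI : IsNoetherianRing Â := isNoetherianRing_of_ringEquiv _ e.symm
  have hred : _root_.IsReduced A := isReduced_of_injective (e.toRingHom.comp (algebraMap A Â))
    (e.injective.comp (AdicCompletion.of_injective (maximalIdeal A) A))
  let θ : MvPowerSeries (Fin 2) K →+* Â := e.symm.toRingHom.comp (Ideal.Quotient.mk _)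
  have hθs : Function.Surjective θ := e.symm.surjective.comp Ideal.Quotient.mk_surjective
  have hθm : ∀ f, θ f ∈ maximalIdeal Â → f ∈ maximalIdeal (MvPowerSeries (Fin 2) K) := fun f hf hu => hf (hu.map θ)
  -- independence of the coordinates
  have hind : ∀ p q : Â, p * θ (X 0) + q * θ (X 1) ∈ maximalIdeal Â ^ 2 → p ∈ maximalIdeal Â ∧ q ∈ maximalIdeal Â := by
    intro p q hpq
    obtain ⟨f, rfl⟩ := hθs p
    obtain ⟨g, rfl⟩ := hθs q
    have hmap : maximalIdeal Â ≤ (maximalIdeal (MvPowerSeries (Fin 2) K)).map θ := fun z hz => by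
      obtain ⟨w, rfl⟩ := hθs z
      exact Ideal.mem_map_of_mem θ (hθm w hz)
    have h1 := Ideal.pow_right_mono hmap 2 hpq
    rw [← Ideal.map_pow] at h1
    obtain ⟨w, hw, hwe⟩ := (Ideal.mem_map_iff_of_surjective θ hθs).1 h1
    rw [← map_mul, ← map_mul, ← map_add] at hwe
    have h2 : f * X 0 + g * X 1 - w ∈ Ideal.span {quad a b c} := by
      rw [← Ideal.Quotient.eq]
      exact e.symm.injective hwe.symm
    obtain ⟨hf, hg⟩ := mem_maximal_of_linear (a := a) (b := b) (c := c)
      (show f * X 0 + g * X 1 ∈ _ from by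
        rw [show f * X 0 + g * X 1 = w + (f * X 0 + g * X 1 - w) by ring]
        exact Submodule.add_mem_sup hw h2)
    have unit : ∀ {z : MvPowerSeries (Fin 2) K}, constantCoeff z = 0 → θ z ∈ maximalIdeal Â := fun {z} hz hu => by
      obtain ⟨v, hv⟩ := hu.exists_left_inv
      obtain ⟨w, rfl⟩ := hθs v
      rw [← map_mul, ← map_one θ] at hv
      have h3 : w * z - 1 ∈ Ideal.span {quad a b c} := Ideal.Quotient.eq.1 (e.symm.injective hv)
      obtain ⟨r, hr⟩ := Ideal.mem_span_singleton'.1 h3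
      have := congrArg constantCoeff hr
      simp [hz] at this
    exact ⟨unit hf, unit hg⟩
  have hXm : ∀ i : Fin 2, θ (X i) ∈ maximalIdeal Â := fun i hu => by
    obtain ⟨v, hv⟩ := hu.exists_left_inv
    obtain ⟨w, rfl⟩ := hθs v
    rw [← map_mul, ← map_one θ] at hv
    have h3 : w * X i - 1 ∈ Ideal.span {quad a b c} := Ideal.Quotient.eq.1 (e.symm.injective hv)
    obtain ⟨r, hr⟩ := Ideal.mem_span_singleton'.1 h3
    have := congrArg constantCoeff hr
    simp at this
  have hgenÂ : maximalIdeal Â ≤ Ideal.span {θ (X 0), θ (X 1)} := fun z hz => by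
    obtain ⟨w, rfl⟩ := hθs z
    have hw : w ∈ H02CA.PS.vars (Fin 2) K := H02CA.PS.mem_vars_iff.2 (by
      by_contra h1
      exact hθm w hz (isUnit_iff_constantCoeff.2 (Ne.isUnit h1)))
    have h2 := Ideal.mem_map_of_mem θ hw
    rw [Ideal.map_span, ← Set.range_comp] at h2
    convert h2 using 3
    ext v
    simp [eq_comm]
  -- approximate in `A`
  obtain ⟨x, hx, hx'⟩ := H11Node.exists_mem_sub_mem_sq (hXm 0)
  obtain ⟨y, hy, hy'⟩ := H11Node.exists_mem_sub_mem_sq (hXm 1)
  have hspan : Ideal.span {x, y} ⊔ maximalIdeal A ^ 2 = maximalIdeal A := by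
    refine le_antisymm (sup_le (Ideal.span_le.2 (by rintro z (rfl | rfl) <;> assumption)) (Ideal.pow_le_self two_ne_zero)) ?_
    haveI : Module.FaithfullyFlat A Â := Module.FaithfullyFlat.of_flat_of_isLocalHom
    rw [← Ideal.comap_map_eq_self_of_faithfullyFlat (A := A) (B := Â) (Ideal.span {x, y} ⊔ maximalIdeal A ^ 2)]
    refine Ideal.map_le_iff_le_comap.1 ?_
    rw [completion_map_maximal, Ideal.map_sup, Ideal.map_pow, completion_map_maximal, Ideal.map_span, Set.image_pair]
    refine hgenÂ.trans (Ideal.span_le.2 ?_)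
    rintro z (rfl | rfl)
    · rw [show θ (X 0) = algebraMap A Â x + (θ (X 0) - algebraMap A Â x) by ring]
      exact Submodule.add_mem_sup (Ideal.subset_span (by simp)) hx'
    · rw [show θ (X 1) = algebraMap A Â y + (θ (X 1) - algebraMap A Â y) by ring]
      exact Submodule.add_mem_sup (Ideal.subset_span (by simp)) hy'
  have hindA : ∀ p q : A, p * x + q * y ∈ maximalIdeal A ^ 2 → p ∈ maximalIdeal A ∧ q ∈ maximalIdeal A := by
    intro p q hpq
    have h1 := Ideal.mem_map_of_mem (algebraMap A Â) hpq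
    rw [Ideal.map_pow, completion_map_maximal] at h1
    have h2 : algebraMap A Â p * θ (X 0) + algebraMap A Â q * θ (X 1) ∈ maximalIdeal Â ^ 2 := by
      rw [show algebraMap A Â p * θ (X 0) + algebraMap A Â q * θ (X 1) = algebraMap A Â (p * x + q * y) +
        (algebraMap A Â p * (θ (X 0) - algebraMap A Â x) + algebraMap A Â q * (θ (X 1) - algebraMap A Â y)) by
        rw [map_add, map_mul, map_mul]; ring]
      exact add_mem h1 (add_mem (Ideal.mul_mem_left _ _ hx') (Ideal.mul_mem_left _ _ hy'))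
    exact ⟨(map_mem_nonunits_iff _ p).1 (hind _ _ h2).1, (map_mem_nonunits_iff _ q).1 (hind _ _ h2).2⟩
  have hs : Ideal.span {x, y} = maximalIdeal A :=
    span_eq_of_le_sup_sq (Ideal.span_le.2 (by rintro z (rfl | rfl) <;> assumption)) hspan.ge
  have hrank : Module.finrank (ResidueField A) (CotangentSpace A) = 2 := by
    refine le_antisymm ?_ (Nat.succ_le_of_lt (lt_of_not_ge fun hle => ?_))
    · rw [← IsLocalRing.spanFinrank_maximalIdeal_eq_finrank_cotangentSpace_of_fg (IsNoetherian.noetherian _), ← hs]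
      exact (Submodule.spanFinrank_span_le_ncard_of_finite (Set.toFinite _)).trans
        ((Set.ncard_insert_le _ _).trans (by simp))
    · obtain ⟨π, hπ⟩ := (IsLocalRing.finrank_cotangentSpace_le_one_iff.1 hle).principal
      have hπ' : maximalIdeal A = Ideal.span {π} := hπ
      obtain ⟨r, hr⟩ := Ideal.mem_span_singleton'.1 (hπ'.le hx)
      obtain ⟨s, hs'⟩ := Ideal.mem_span_singleton'.1 (hπ'.le hy)
      obtain ⟨-, hrm⟩ := hindA s (-r) (by
        rw [show s * x + -r * y = 0 by rw [← hr, ← hs']; ring]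
        exact zero_mem _)
      refine (hindA 1 0 ?_).1 isUnit_one
      rw [one_mul, zero_mul, add_zero, ← hr, pow_two]
      exact Ideal.mul_mem_mul (neg_mem_iff.1 hrm) (hπ'.ge (Ideal.mem_span_singleton_self π))
  -- coefficients
  obtain ⟨a', ha'⟩ := exists_approx (θ (C a))
  obtain ⟨b', hb'⟩ := exists_approx (θ (C b))
  obtain ⟨c', hc'⟩ := exists_approx (θ (C c))
  refine ⟨hred, hrank, x, y, a', b', c', hx, hy, hspan, ?_, ?_⟩
  · rw [residue_ne_zero_iff_isUnit]
    refine (isUnit_map_iff (algebraMap A Â) _).1 ((residue_ne_zero_iff_isUnit _).1 ?_)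
    have e' : ∀ {p : A} {r : K}, algebraMap A Â p - θ (C r) ∈ maximalIdeal Â →
        residue Â (algebraMap A Â p) = residue Â (θ (C r)) := fun h => Ideal.Quotient.eq.2 h
    have h4 : residue Â (θ (C (4 * a * c - b ^ 2))) ≠ 0 :=
      (residue_ne_zero_iff_isUnit _).2 (((Ne.isUnit hd).map C).map θ)
    simp only [map_sub, map_mul, map_pow, map_ofNat] at h4 ⊢
    rwa [e' ha', e' hb', e' hc']
  · refine mem_pow_of_map_mem (B := Â) completion_map_maximal ?_
    have hm2 : ∀ {p q : Â}, p ∈ maximalIdeal Â → q ∈ maximalIdeal Â ^ 2 → p * q ∈ maximalIdeal Â ^ 3 :=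
      fun hp hq => pow_succ' (maximalIdeal Â) 2 ▸ Ideal.mul_mem_mul hp hq
    have hsq : ∀ {p q : Â}, p ∈ maximalIdeal Â → q ∈ maximalIdeal Â → p * q ∈ maximalIdeal Â ^ 2 :=
      fun hp hq => pow_two (maximalIdeal Â) ▸ Ideal.mul_mem_mul hp hq
    have hx0 : algebraMap A Â x ∈ maximalIdeal Â := completion_map_maximal.le (Ideal.mem_map_of_mem _ hx)
    have hy0 : algebraMap A Â y ∈ maximalIdeal Â := completion_map_maximal.le (Ideal.mem_map_of_mem _ hy)
    have hzero : θ (C a) * θ (X 0) ^ 2 + θ (C b) * θ (X 0) * θ (X 1) + θ (C c) * θ (X 1) ^ 2 = 0 := by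
      simp only [← map_pow, ← map_mul, ← map_add]
      show e.symm (Ideal.Quotient.mk _ (quad a b c)) = 0
      rw [Ideal.Quotient.eq_zero_iff_mem.2 (Ideal.mem_span_singleton_self _), map_zero]
    set X₀ := algebraMap A Â x
    set Y₀ := algebraMap A Â y
    rw [show algebraMap A Â (a' * x ^ 2 + b' * x * y + c' * y ^ 2) =
      ((algebraMap A Â a' - θ (C a)) * (X₀ * X₀) + (algebraMap A Â b' - θ (C b)) * (X₀ * Y₀) +
        (algebraMap A Â c' - θ (C c)) * (Y₀ * Y₀)) +
      (X₀ * ((X₀ - θ (X 0)) * θ (C a)) + θ (X 0) * ((X₀ - θ (X 0)) * θ (C a)) +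
        Y₀ * ((X₀ - θ (X 0)) * θ (C b)) + θ (X 0) * ((Y₀ - θ (X 1)) * θ (C b)) +
        Y₀ * ((Y₀ - θ (X 1)) * θ (C c)) + θ (X 1) * ((Y₀ - θ (X 1)) * θ (C c))) by
      simp only [map_add, map_mul, map_pow]
      linear_combination hzero]
    have hdx : X₀ - θ (X 0) ∈ maximalIdeal Â ^ 2 := by simpa using neg_mem hx'
    have hdy : Y₀ - θ (X 1) ∈ maximalIdeal Â ^ 2 := by simpa using neg_mem hy'
    exact add_mem
      (add_mem (add_mem (hm2 ha' (hsq hx0 hx0)) (hm2 hb' (hsq hx0 hy0))) (hm2 hc' (hsq hy0 hy0)))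
      (add_mem (add_mem (add_mem (add_mem (add_mem (hm2 hx0 (Ideal.mul_mem_right _ _ hdx))
        (hm2 (hXm 0) (Ideal.mul_mem_right _ _ hdx))) (hm2 hy0 (Ideal.mul_mem_right _ _ hdx)))
        (hm2 (hXm 0) (Ideal.mul_mem_right _ _ hdy))) (hm2 hy0 (Ideal.mul_mem_right _ _ hdy)))
        (hm2 (hXm 1) (Ideal.mul_mem_right _ _ hdy)))

/-- A reduced ring of embedding dimension two with a nondegenerate relation and separable residue field has
quadratic completion. -/
theorem exists_completion_of_quad {k : Type u} [Field k] [Algebra k A]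
    [Algebra.IsSeparable k (ResidueField A)] [_root_.IsReduced A]
    (hrank : Module.finrank (ResidueField A) (CotangentSpace A) = 2) {x y a b c : A}
    (hx : x ∈ maximalIdeal A) (hy : y ∈ maximalIdeal A)
    (hspan : Ideal.span {x, y} ⊔ maximalIdeal A ^ 2 = maximalIdeal A)
    (hd : residue A (4 * a * c - b ^ 2) ≠ 0)
    (hq : a * x ^ 2 + b * x * y + c * y ^ 2 ∈ maximalIdeal A ^ 3) :
    ∃ a b c : ResidueField A, 4 * a * c - b ^ 2 ≠ 0 ∧
      ∃ e : Â ≃+* (MvPowerSeries (Fin 2) (ResidueField A) ⧸ Ideal.span {quad a b c}),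
        ∀ t : k, e (algebraMap A Â (algebraMap k A t)) =
          Ideal.Quotient.mk _ (C (algebraMap A (ResidueField A) (algebraMap k A t))) := by
  haveI : Module.Flat A Â := AdicCompletion.flat_of_isNoetherian _
  haveI : IsNoetherianRing Â := H05EGA4.isNoetherianRing_adicCompletion A (maximalIdeal A)
  have hs : Ideal.span {x, y} = maximalIdeal A :=
    span_eq_of_le_sup_sq (Ideal.span_le.2 (by rintro z (rfl | rfl) <;> assumption)) hspan.ge
  obtain ⟨x', y', a', b', c', hs', hq', hd', hau⟩ := exists_quad_unit hx hy hd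
  rw [hs] at hs'
  rw [← hq'] at hq
  obtain ⟨t, htm, htr⟩ := exists_regular_of_isReduced A fun hF => by
    rw [IsLocalRing.finrank_cotangentSpace_eq_zero_iff.2 hF] at hrank
    omega
  have hnp : ¬ (maximalIdeal A).IsPrincipal := fun h => by
    have := IsLocalRing.finrank_cotangentSpace_le_one_iff.2 h
    omega
  have hbij : Function.Bijective (ResidueField.map (algebraMap A Â)) :=
    AdicCompletion.residueField_map_bijective_of_fg (IsNoetherian.noetherian _)
  let τ' : ResidueField A →ₐ[k] ResidueField Â :=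
    { ResidueField.map (algebraMap A Â) with
      commutes' := fun r => by
        show ResidueField.map (algebraMap A Â) (residue A (algebraMap k A r)) = residue Â (algebraMap k Â r)
        rw [ResidueField.map_residue, ← IsScalarTower.algebraMap_apply] }
  let τ : ResidueField A ≃ₐ[k] ResidueField Â := AlgEquiv.ofBijective τ' hbij
  haveI : Algebra.FormallyEtale k (ResidueField A) := Algebra.FormallyEtale.of_isSeparable _ _
  haveI : Algebra.FormallySmooth k (ResidueField Â) := Algebra.FormallySmooth.of_equiv τ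
  obtain ⟨σ, hσ⟩ := H05EGA4.exists_coefficientField (k := k) (A := Â)
  let σ' : ResidueField A →+* Â := σ.toRingHom.comp τ.toRingEquiv.toRingHom
  letI : Algebra (ResidueField A) Â := σ'.toAlgebra
  have hσ' : ∀ p : A, algebraMap (ResidueField A) Â (residue A p) - algebraMap A Â p ∈ maximalIdeal Â := fun p =>
    Ideal.Quotient.eq.1 ((hσ (τ (residue A p))).trans (ResidueField.map_residue _ p))
  have hres : ∀ z : Â, ∃ r : ResidueField A, algebraMap (ResidueField A) Â r - z ∈ maximalIdeal Â := fun z => by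
    obtain ⟨p, hp⟩ := exists_approx z
    exact ⟨residue A p, by simpa using add_mem (hσ' p) hp⟩
  have htm' : algebraMap A Â t ∈ maximalIdeal Â := completion_map_maximal.le (Ideal.mem_map_of_mem _ htm)
  have htr' : algebraMap A Â t ∈ nonZeroDivisors Â := mem_nonZeroDivisors_iff_right.2 fun z hz => by
    have hrel : ∑ i : Fin 1, ![t] i • ![z] i = 0 := by simpa [Algebra.smul_def, mul_comm] using hz
    obtain ⟨m, w, v, hv, hw⟩ := Module.Flat.isTrivialRelation_of_sum_smul_eq_zero hrel
    have h0 : z = ∑ j, w 0 j • v j := by simpa using hv 0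
    rw [h0]
    refine Finset.sum_eq_zero fun j _ => ?_
    have h1 : t * w 0 j = 0 := by simpa using hw j
    rw [mem_nonZeroDivisors_iff_right.1 htr (w 0 j) (by rw [mul_comm]; exact h1), zero_smul]
  have hnp' : ¬ (maximalIdeal Â).IsPrincipal := fun h => hnp (by
    obtain ⟨π, hπ⟩ := h.principal
    have hπ' : maximalIdeal Â = Ideal.span {π} := hπ
    obtain ⟨p, hp, hp'⟩ := H11Node.exists_mem_sub_mem_sq (hπ'.ge (Ideal.mem_span_singleton_self π))
    have heq : Ideal.span {algebraMap A Â p} = maximalIdeal Â := by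
      refine span_eq_of_le_sup_sq ((Ideal.span_singleton_le_iff_mem _).2 (completion_map_maximal.le (Ideal.mem_map_of_mem _ hp))) ?_
      conv_lhs => rw [hπ']
      rw [Ideal.span_singleton_le_iff_mem, show π = algebraMap A Â p + (π - algebraMap A Â p) by ring]
      exact Submodule.add_mem_sup (Ideal.mem_span_singleton_self _) hp'
    haveI : Module.FaithfullyFlat A Â := Module.FaithfullyFlat.of_flat_of_isLocalHom
    refine ⟨⟨p, ?_⟩⟩
    show maximalIdeal A = Ideal.span {p}
    rw [← Ideal.comap_map_eq_self_of_faithfullyFlat (A := A) (B := Â) (Ideal.span {p}), Ideal.map_span, Set.image_singleton,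
      heq, ← completion_map_maximal, Ideal.comap_map_eq_self_of_faithfullyFlat])
  have hsÂ : Ideal.span {algebraMap A Â x', algebraMap A Â y'} = maximalIdeal Â := by
    rw [← completion_map_maximal, ← hs', Ideal.map_span, Set.image_pair]
  have hqÂ : algebraMap (ResidueField A) Â (residue A a') * algebraMap A Â x' ^ 2 +
      algebraMap (ResidueField A) Â (residue A b') * algebraMap A Â x' * algebraMap A Â y' +
      algebraMap (ResidueField A) Â (residue A c') * algebraMap A Â y' ^ 2 ∈ maximalIdeal Â ^ 3 := by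
    have hxm : algebraMap A Â x' ∈ maximalIdeal Â := hsÂ.le (Ideal.subset_span (by simp))
    have hym : algebraMap A Â y' ∈ maximalIdeal Â := hsÂ.le (Ideal.subset_span (by simp))
    have h3 : ∀ {p q r : Â}, p ∈ maximalIdeal Â → q ∈ maximalIdeal Â → r ∈ maximalIdeal Â → p * (q * r) ∈ maximalIdeal Â ^ 3 :=
      fun hp hq hr => by rw [pow_succ', pow_two]; exact Ideal.mul_mem_mul hp (Ideal.mul_mem_mul hq hr)
    have h1 := Ideal.mem_map_of_mem (algebraMap A Â) hq
    rw [Ideal.map_pow, completion_map_maximal] at h1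
    simp only [map_add, map_mul, map_pow] at h1
    convert add_mem (add_mem (add_mem h1 (h3 (hσ' a') hxm hxm)) (h3 (hσ' b') hxm hym)) (h3 (hσ' c') hym hym) using 1
    ring
  have hd'' : 4 * residue A a' * residue A c' - residue A b' ^ 2 ≠ 0 := by
    simpa only [map_sub, map_mul, map_pow, map_ofNat] using hd'
  obtain ⟨e, he⟩ := exists_quad_equiv hres htm' htr' hnp' hsÂ ((residue_ne_zero_iff_isUnit _).2 hau) hd'' hqÂ
  refine ⟨_, _, _, hd'', e, fun r => ?_⟩
  rw [← he]
  refine congrArg e ?_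
  show algebraMap A Â (algebraMap k A r) = σ (τ (algebraMap A (ResidueField A) (algebraMap k A r)))
  rw [← IsScalarTower.algebraMap_apply, ← IsScalarTower.algebraMap_apply, AlgEquiv.commutes, AlgHom.commutes]

end Local

end Groth.Agent.H29Node
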