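import Groth.Agent.H29Node.FittLocal
import Mathlib.RingTheory.Kaehler.TensorProduct
import Mathlib.RingTheory.Etale.Kaehler

/-!
# Points where the singular scheme is unramified

For an algebra `A` over `R` let `F` be the first Fitting ideal of `Ω[A⁄R]`. The module `sing R A` is
`Ω[A⁄R]` modulo `F • Ω` and the differentials of `F`, i.e. the differentials of `A ⧸ F`; the bad points
are its support.
-/

set_option autoImplicit false
set_option linter.style.haveILetI false

universe u

open TensorProduct IsLocalRing

namespace Groth.Agent.H29Node.SingLocus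

variable (R A : Type u) [CommRing R] [CommRing A] [Algebra R A]

/-- The first Fitting ideal of the differentials. -/
noncomputable abbrev fitt : Ideal A := Fitt.ideal A (KaehlerDifferential R A) 1

/-- The relations defining the differentials of the singular scheme. -/
noncomputable def singRel : Submodule A (KaehlerDifferential R A) :=
  fitt R A • ⊤ ⊔ Submodule.span A (KaehlerDifferential.D R A '' (fitt R A : Set A))

/-- The differentials of the singular scheme. -/
abbrev sing : Type u := KaehlerDifferential R A ⧸ singRel R A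

/-- The points where the singular scheme is ramified. -/
def bad : Set (PrimeSpectrum A) := Module.support A (sing R A)

theorem isClosed_bad [Algebra.EssFiniteType R A] : IsClosed (bad R A) := by
  rw [bad, Module.support_eq_zeroLocus]
  exact PrimeSpectrum.isClosed_zeroLocus _

/-- Membership in the bad set, elementwise. -/
theorem notMem_bad_iff {p : PrimeSpectrum A} :
    p ∉ bad R A ↔ ∀ ω : KaehlerDifferential R A, ∃ s ∉ p.asIdeal, s • ω ∈ singRel R A := by
  rw [bad, Module.notMem_support_iff']
  constructor
  · intro h ω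
    obtain ⟨s, hs, hsω⟩ := h (Submodule.Quotient.mk ω)
    exact ⟨s, hs, (Submodule.Quotient.mk_eq_zero _).1 ((Submodule.Quotient.mk_smul _ _ _).trans hsω)⟩
  · intro h z
    obtain ⟨ω, rfl⟩ := Submodule.Quotient.mk_surjective _ z
    obtain ⟨s, hs, hsω⟩ := h ω
    exact ⟨s, hs, (Submodule.Quotient.mk_smul _ _ _).symm.trans ((Submodule.Quotient.mk_eq_zero _).2 hsω)⟩

/-- The bad set lies on the singular scheme. -/
theorem notMem_bad_of_not_le {p : PrimeSpectrum A} (h : ¬ fitt R A ≤ p.asIdeal) : p ∉ bad R A := by
  obtain ⟨s, hsF, hs⟩ := Set.not_subset.1 h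
  exact (notMem_bad_iff R A).2 fun ω => ⟨s, hs, Submodule.mem_sup_left (Submodule.smul_mem_smul hsF trivial)⟩

section BaseChange

variable (S B : Type u) [CommRing S] [CommRing B] [Algebra R S] [Algebra S B] [Algebra A B] [Algebra R B]
  [IsScalarTower R A B] [IsScalarTower R S B] [Algebra.IsPushout R S A B] [Algebra.EssFiniteType R A]

theorem fitt_baseChange : fitt S B = (fitt R A).map (algebraMap A B) := by
  haveI : Module.Finite B (KaehlerDifferential S B) :=
    Module.Finite.equiv (KaehlerDifferential.tensorKaehlerEquiv R S A B)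
  rw [← H29Fitt.ideal_baseChange (R' := B) (M := KaehlerDifferential R A) 1]
  refine le_antisymm ?_ ?_
  · exact H29Fitt.ideal_mono_of_surjective (KaehlerDifferential.tensorKaehlerEquiv R S A B).symm.toLinearMap
      (LinearEquiv.surjective _) 1
  · exact H29Fitt.ideal_mono_of_surjective (KaehlerDifferential.tensorKaehlerEquiv R S A B).toLinearMap
      (LinearEquiv.surjective _) 1

theorem nonempty_sing_equiv : Nonempty (B ⊗[A] sing R A ≃ₗ[B] sing S B) := by
  let e := KaehlerDifferential.tensorKaehlerEquiv R S A B
  have hF := fitt_baseChange R A S B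
  refine ⟨(AlgebraTensorModule.tensorQuotientEquiv B A B (singRel R A)).trans (Submodule.Quotient.equiv _ _ e ?_)⟩
  refine le_antisymm ?_ ?_
  · rw [Submodule.map_le_iff_le_comap]
    rintro _ ⟨z, rfl⟩
    induction z with
    | zero => simp
    | add p q hp hq => rw [map_add]; exact add_mem hp hq
    | tmul b n =>
    obtain ⟨n, hn⟩ := n
    show e (b ⊗ₜ[A] n) ∈ singRel S B
    rw [show b ⊗ₜ[A] n = b • ((1 : B) ⊗ₜ[A] n) by rw [TensorProduct.smul_tmul', smul_eq_mul, mul_one], map_smul]
    refine Submodule.smul_mem _ _ ?_
    clear b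
    rw [singRel] at hn
    obtain ⟨u, hu, v, hv, rfl⟩ := Submodule.mem_sup.1 hn
    rw [TensorProduct.tmul_add, map_add]
    clear hn
    refine add_mem ?_ ?_
    · refine Submodule.smul_induction_on hu (fun f hf ω _ => ?_) (fun p q hp hq => by rw [TensorProduct.tmul_add, map_add]; exact add_mem hp hq)
      rw [TensorProduct.tmul_smul, ← algebraMap_smul B f ((1 : B) ⊗ₜ[A] ω), map_smul]
      exact Submodule.mem_sup_left (Submodule.smul_mem_smul (hF ▸ Ideal.mem_map_of_mem _ hf) trivial)
    · induction hv using Submodule.span_induction with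
      | mem _ h =>
        obtain ⟨f, hf, rfl⟩ := h
        rw [KaehlerDifferential.tensorKaehlerEquiv_tmul_D, one_smul]
        exact Submodule.mem_sup_right (Submodule.subset_span ⟨_, hF ▸ Ideal.mem_map_of_mem _ hf, rfl⟩)
      | zero => simp
      | add p q _ _ hp hq => rw [TensorProduct.tmul_add, map_add]; exact add_mem hp hq
      | smul r p _ hp =>
        rw [TensorProduct.tmul_smul, ← algebraMap_smul B r ((1 : B) ⊗ₜ[A] p), map_smul]
        exact Submodule.smul_mem _ _ hp
  · set L := LinearMap.range (AlgebraTensorModule.lTensor B B ((singRel R A).subtype.restrictScalars A))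
    have hmem : ∀ (b : B) (n : KaehlerDifferential R A), n ∈ singRel R A → b ⊗ₜ[A] n ∈ L := fun b n hn =>
      ⟨b ⊗ₜ ⟨n, hn⟩, rfl⟩
    have hsmul : ∀ g ∈ fitt S B, ∀ w : KaehlerDifferential S B, g • w ∈ L.map (e : _ →ₗ[B] _) := by
      intro g hg w
      obtain ⟨z, rfl⟩ := e.surjective w
      rw [← map_smul]
      refine Submodule.mem_map_of_mem ?_
      rw [hF] at hg
      induction hg using Submodule.span_induction with
      | mem _ h =>
        obtain ⟨f, hf, rfl⟩ := h
        induction z with
        | zero => simp
        | add p q hp hq => rw [smul_add]; exact add_mem hp hq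
        | tmul b ω =>
        rw [algebraMap_smul, ← TensorProduct.tmul_smul]
        exact hmem b _ (Submodule.mem_sup_left (Submodule.smul_mem_smul hf trivial))
      | zero => simp
      | add p q _ _ hp hq => rw [add_smul]; exact add_mem hp hq
      | smul r p _ hp => rw [smul_assoc]; exact L.smul_mem r hp
    refine sup_le (Submodule.smul_le.2 fun g hg w _ => hsmul g hg w) (Submodule.span_le.2 ?_)
    rintro _ ⟨g, hg, rfl⟩
    rw [SetLike.mem_coe] at hg
    rw [hF] at hg
    induction hg using Submodule.span_induction with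
    | mem _ h =>
      obtain ⟨f, hf, rfl⟩ := h
      rw [SetLike.mem_coe, ← one_smul B (KaehlerDifferential.D S B (algebraMap A B f)),
        ← KaehlerDifferential.tensorKaehlerEquiv_tmul_D R S A B]
      exact Submodule.mem_map_of_mem (hmem 1 _ (Submodule.mem_sup_right (Submodule.subset_span ⟨f, hf, rfl⟩)))
    | zero => simp
    | add p q _ _ hp hq => rw [map_add]; exact add_mem hp hq
    | smul r p hp' hp =>
      rw [smul_eq_mul, Derivation.leibniz]
      refine add_mem (Submodule.smul_mem _ _ hp) (hsmul p ?_ _)
      rw [hF]; exact hp'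

/-- The bad set commutes with base change. -/
theorem mem_bad_baseChange (q : PrimeSpectrum B) :
    q ∈ bad S B ↔ q.comap (algebraMap A B) ∈ bad R A := by
  obtain ⟨e⟩ := nonempty_sing_equiv R A S B
  haveI : Module.Finite B (sing S B) := Module.Finite.equiv e
  rw [bad, bad, ← H29Fitt.zeroLocus_ideal_zero, ← H29Fitt.zeroLocus_ideal_zero]
  have h0 : Fitt.ideal B (sing S B) 0 = (Fitt.ideal A (sing R A) 0).map (algebraMap A B) := by
    rw [← H29Fitt.ideal_baseChange (R' := B) (M := sing R A) 0]
    exact le_antisymm (H29Fitt.ideal_mono_of_surjective e.symm.toLinearMap e.symm.surjective 0)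
      (H29Fitt.ideal_mono_of_surjective e.toLinearMap e.surjective 0)
  rw [h0, PrimeSpectrum.mem_zeroLocus, PrimeSpectrum.mem_zeroLocus, SetLike.coe_subset_coe, SetLike.coe_subset_coe,
    Ideal.map_le_iff_le_comap]
  rfl

end BaseChange

section Rational

variable {K : Type u} [Field K] [Algebra K A] [Algebra.EssFiniteType K A] (q : Ideal A) [q.IsPrime]
  (B : Type u) [CommRing B] [Algebra A B] [Algebra K B] [IsScalarTower K A B] [IsLocalization.AtPrime B q]
  [IsLocalRing B] [IsNoetherianRing B]

include q in
/-- The Fitting ideal localises. -/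
theorem fitt_localization : fitt K B = (fitt K A).map (algebraMap A B) := by
  haveI : IsLocalizedModule q.primeCompl (KaehlerDifferential.map K K A B) := inferInstance
  have hbc : IsBaseChange B (KaehlerDifferential.map K K A B) :=
    (isLocalizedModule_iff_isBaseChange q.primeCompl B _).1 inferInstance
  haveI : Module.Finite B (KaehlerDifferential K B) := Module.Finite.equiv hbc.equiv
  rw [← H29Fitt.ideal_baseChange (R' := B) (M := KaehlerDifferential K A) 1]
  exact le_antisymm (H29Fitt.ideal_mono_of_surjective hbc.equiv.symm.toLinearMap hbc.equiv.symm.surjective 1)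
    (H29Fitt.ideal_mono_of_surjective hbc.equiv.toLinearMap hbc.equiv.surjective 1)

/-- At a rational point the singular scheme is unramified exactly if its ideal contains the maximal ideal. -/
theorem notMem_bad_iff_le_fitt (hq : q.IsMaximal) (hres : ∀ a : A, ∃ c : K, a - algebraMap K A c ∈ q) :
    (⟨q, inferInstance⟩ : PrimeSpectrum A) ∉ bad K A ↔ maximalIdeal B ≤ fitt K B := by
  classical
  have hm : q.map (algebraMap A B) = maximalIdeal B := IsLocalization.AtPrime.map_eq_maximalIdeal q B
  have hF := fitt_localization A q B (K := K)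
  haveI : IsNoetherianRing A := Algebra.EssFiniteType.isNoetherianRing K A
  rw [notMem_bad_iff]
  constructor
  · intro h
    have hresB : ∀ b : B, ∃ c : K, b - algebraMap K B c ∈ maximalIdeal B := by
      intro b
      obtain ⟨⟨a, s⟩, hb⟩ := IsLocalization.surj q.primeCompl b
      obtain ⟨c, hc⟩ := hres a
      obtain ⟨d, hd⟩ := hres (s : A)
      have hd0 : d ≠ 0 := fun h0 => s.2 (by rw [h0, map_zero, sub_zero] at hd; exact hd)
      refine ⟨c / d, ?_⟩
      have hu : IsUnit (algebraMap A B s) := IsLocalization.map_units B s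
      rw [← hm, ← Ideal.unit_mul_mem_iff_mem _ hu]
      have e : algebraMap A B s * (b - algebraMap K B (c / d)) =
          algebraMap A B (a - algebraMap K A c) - algebraMap A B ((s : A) - algebraMap K A d) * algebraMap K B (c / d) := by
        rw [map_sub, map_sub, ← IsScalarTower.algebraMap_apply K A B, ← IsScalarTower.algebraMap_apply K A B]
        have : algebraMap K B d * algebraMap K B (c / d) = algebraMap K B c := by rw [← map_mul, mul_div_cancel₀ c hd0]
        simp only at hb
        linear_combination hb - this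
      rw [e]
      exact sub_mem (Ideal.mem_map_of_mem _ hc) (Ideal.mul_mem_right _ _ (Ideal.mem_map_of_mem _ hd))
    obtain ⟨Δ, hΔ⟩ := FittLocal.exists_linear_derivation hresB
    let J := maximalIdeal B ^ 2 ⊔ fitt K B
    let π : (B ⧸ maximalIdeal B ^ 2) →ₗ[B] (B ⧸ J) :=
      Submodule.factor (le_sup_left : maximalIdeal B ^ 2 ≤ J)
    let D' : Derivation K A (B ⧸ J) := (π.compDer Δ).compAlgebraMap A
    have hD' : ∀ a ∈ q, D' a = Ideal.Quotient.mk J (algebraMap A B a) := fun a ha => by
      show π (Δ (algebraMap A B a)) = _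
      rw [hΔ _ (hm ▸ Ideal.mem_map_of_mem _ ha)]
      rfl
    refine Submodule.le_of_le_smul_of_le_jacobson_bot (I := maximalIdeal B) (IsNoetherian.noetherian _)
      (IsLocalRing.maximalIdeal_le_jacobson _) ?_
    rw [smul_eq_mul, ← pow_two, sup_comm]
    conv_lhs => rw [← hm]
    refine Ideal.map_le_iff_le_comap.2 fun a ha => ?_
    obtain ⟨s, hs, hsa⟩ := h (KaehlerDifferential.D K A a)
    have hz : ∀ n ∈ singRel K A, D'.liftKaehlerDifferential n = 0 := by
      intro n hn
      refine (sup_le (a := fitt K A • ⊤) ?_ ?_ : singRel K A ≤ LinearMap.ker D'.liftKaehlerDifferential) hn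
      · refine Submodule.smul_le.2 fun f hf ω _ => ?_
        rw [LinearMap.mem_ker, map_smul, ← algebraMap_smul B f]
        obtain ⟨z, hz⟩ := Ideal.Quotient.mk_surjective (D'.liftKaehlerDifferential ω)
        rw [← hz]
        exact Ideal.Quotient.eq_zero_iff_mem.2 (Ideal.mul_mem_right _ _ (Ideal.mem_sup_right (hF ▸ Ideal.mem_map_of_mem _ hf)))
      · rw [Submodule.span_le]
        rintro _ ⟨f, hf, rfl⟩
        rw [SetLike.mem_coe, LinearMap.mem_ker, Derivation.liftKaehlerDifferential_comp_D]
        by_cases hfq : f ∈ q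
        · rw [hD' f hfq]
          exact Ideal.Quotient.eq_zero_iff_mem.2 (Ideal.mem_sup_right (hF ▸ Ideal.mem_map_of_mem _ hf))
        · haveI : Subsingleton (B ⧸ J) := Ideal.Quotient.subsingleton_iff.2 (Ideal.eq_top_of_isUnit_mem _
            (Ideal.mem_sup_right (hF ▸ Ideal.mem_map_of_mem _ hf)) (IsLocalization.map_units B (⟨f, hfq⟩ : q.primeCompl)))
          exact Subsingleton.elim _ _
    have h0 := hz _ hsa
    rw [map_smul, Derivation.liftKaehlerDifferential_comp_D, hD' a ha, ← algebraMap_smul B s] at h0
    have h1 : algebraMap A B s * algebraMap A B a ∈ J := Ideal.Quotient.eq_zero_iff_mem.1 h0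
    exact (Ideal.unit_mul_mem_iff_mem _ (IsLocalization.map_units B (⟨s, hs⟩ : q.primeCompl))).1 h1
  · intro h ω
    have hsat : ∃ s ∉ q, ∀ a ∈ q, s * a ∈ fitt K A := by
      have hmem : ∀ a ∈ q, ∃ s ∉ q, s * a ∈ fitt K A := fun a ha => by
        obtain ⟨s, hs⟩ := (IsLocalization.algebraMap_mem_map_algebraMap_iff q.primeCompl B _ a).1
          (hF ▸ h (hm ▸ Ideal.mem_map_of_mem (algebraMap A B) ha))
        exact ⟨s, hs.1, hs.2⟩
      obtain ⟨T, hT⟩ := IsNoetherian.noetherian q
      choose σ hσ hσF using fun t : T => hmem t (hT ▸ Submodule.subset_span t.2)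
      refine ⟨∏ t, σ t, fun hp => ?_, fun a ha => ?_⟩
      · obtain ⟨t, -, ht⟩ := Ideal.IsPrime.prod_mem_iff.1 hp
        exact hσ t ht
      · rw [← hT] at ha
        induction ha using Submodule.span_induction with
        | mem t ht =>
          rw [← Finset.mul_prod_erase _ _ (Finset.mem_univ (⟨t, ht⟩ : T)), mul_comm (σ _), mul_assoc]
          exact Ideal.mul_mem_left _ _ (hσF ⟨t, ht⟩)
        | zero => simp
        | add p r _ _ hp hr => rw [mul_add]; exact add_mem hp hr
        | smul r p _ hp => rw [smul_eq_mul, mul_left_comm]; exact Ideal.mul_mem_left _ _ hp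
    obtain ⟨s, hs, hsq⟩ := hsat
    refine ⟨s * s, fun h2 => (‹q.IsPrime›.mem_or_mem h2).elim hs hs, ?_⟩
    have hspan : ω ∈ Submodule.span A (Set.range (KaehlerDifferential.D K A)) := by
      rw [KaehlerDifferential.span_range_derivation]; trivial
    induction hspan using Submodule.span_induction with
    | mem _ ht =>
      obtain ⟨a, rfl⟩ := ht
      obtain ⟨c, hc⟩ := hres a
      have hD : KaehlerDifferential.D K A a = KaehlerDifferential.D K A (a - algebraMap K A c) := by simp
      rw [hD]
      set b := a - algebraMap K A c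
      have e : (s * s) • KaehlerDifferential.D K A b =
          s • KaehlerDifferential.D K A (s * b) - (s * b) • KaehlerDifferential.D K A s := by
        rw [Derivation.leibniz, smul_add, smul_smul, smul_smul]; abel
      rw [e]
      exact sub_mem (Submodule.smul_mem _ _ (Submodule.mem_sup_right (Submodule.subset_span ⟨_, hsq b hc, rfl⟩)))
        (Submodule.mem_sup_left (Submodule.smul_mem_smul (hsq b hc) trivial))
    | zero => simp
    | add p r _ _ hp hr => rw [smul_add]; exact add_mem hp hr
    | smul r p _ hp => rw [smul_comm]; exact Submodule.smul_mem _ _ hp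

end Rational

end Groth.Agent.H29Node.SingLocus
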