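import Groth.Agent.H29Node.SingLocus
import Groth.Agent.H29Fitt.Sheaf
import Groth.Agent.H29Omega.SheafFinite

/-!
# The singular scheme as a scheme

Its differentials vanish exactly if the bad set is empty, so it is unramified over the base exactly if on every
affine chart the bad set is empty.
-/

set_option autoImplicit false
set_option linter.style.haveILetI false

universe u

open CategoryTheory CategoryTheory.Limits AlgebraicGeometry TopologicalSpace TensorProduct

namespace Groth.Agent.H29Node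

open SingLocus

section Alg

variable (R A : Type u) [CommRing R] [CommRing A] [Algebra R A]

/-- The singular scheme of an algebra is unramified exactly if the bad set is empty. -/
theorem formallyUnramified_quotient_fitt_iff [Algebra.EssFiniteType R A] :
    Algebra.FormallyUnramified R (A ⧸ fitt R A) ↔ bad R A = ∅ := by
  have hsurj : Function.Surjective (algebraMap A (A ⧸ fitt R A)) := Ideal.Quotient.mk_surjective
  let q := quotTensorEquivQuotSMul (KaehlerDifferential R A) (fitt R A)
  let mp := (singRel R A).mkQ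
  have hq : ∀ ω, q (1 ⊗ₜ ω) = Submodule.Quotient.mk ω := fun ω => by
    rw [← map_one (Ideal.Quotient.mk (fitt R A))]
    exact (quotTensorEquivQuotSMul_mk_tmul (fitt R A) (1 : A) ω).trans (by rw [one_smul])
  rw [bad, Module.support_eq_empty_iff, Algebra.formallyUnramified_iff, Submodule.Quotient.subsingleton_iff]
  constructor
  · intro h
    refine eq_top_iff.2 fun ω _ => ?_
    obtain ⟨z, hz⟩ : ((1 : A ⧸ fitt R A) ⊗ₜ[A] ω) ∈ LinearMap.range (KaehlerDifferential.kerCotangentToTensor R A (A ⧸ fitt R A)) := by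
      rw [KaehlerDifferential.range_kerCotangentToTensor R A (A ⧸ fitt R A) hsurj]
      exact Subsingleton.elim _ _
    obtain ⟨⟨x, hx⟩, rfl⟩ := Ideal.toCotangent_surjective _ z
    rw [KaehlerDifferential.kerCotangentToTensor_toCotangent] at hz
    have hx' : x ∈ fitt R A := by
      have h1 : x ∈ RingHom.ker (algebraMap A (A ⧸ fitt R A)) := hx
      exact Ideal.Quotient.eq_zero_iff_mem.1 h1
    have h2 := congrArg q hz
    rw [hq, hq, Submodule.Quotient.eq] at h2
    have h3 : KaehlerDifferential.D R A x ∈ singRel R A :=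
      Submodule.mem_sup_right (Submodule.subset_span ⟨x, hx', rfl⟩)
    have h4 := Submodule.sub_mem _ h3 (Submodule.mem_sup_left h2 : _ ∈ singRel R A)
    rwa [sub_sub_cancel] at h4
  · intro h
    refine ⟨fun a b => ?_⟩
    have hm : ∀ ω, KaehlerDifferential.mapBaseChange R A (A ⧸ fitt R A) (1 ⊗ₜ ω) = 0 := fun ω => by
      have hω : ω ∈ singRel R A := h ▸ trivial
      rw [KaehlerDifferential.mapBaseChange_tmul, one_smul]
      have hle : singRel R A ≤ LinearMap.ker (KaehlerDifferential.map R R A (A ⧸ fitt R A)) := by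
        refine sup_le (Submodule.smul_le.2 fun a ha ω _ => ?_) (Submodule.span_le.2 ?_)
        · rw [LinearMap.mem_ker, map_smul, ← algebraMap_smul (A ⧸ fitt R A) a, Ideal.Quotient.algebraMap_eq,
            Ideal.Quotient.eq_zero_iff_mem.2 ha, zero_smul]
        · rintro _ ⟨x, hx, rfl⟩
          rw [SetLike.mem_coe, LinearMap.mem_ker, KaehlerDifferential.map_D, Ideal.Quotient.algebraMap_eq,
            Ideal.Quotient.eq_zero_iff_mem.2 hx, map_zero]
      exact hle hω
    have hz : ∀ c, KaehlerDifferential.mapBaseChange R A (A ⧸ fitt R A) c = 0 := fun c => by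
      induction c using TensorProduct.induction_on with
      | zero => exact map_zero _
      | tmul r ω =>
        rw [show r ⊗ₜ[A] ω = r • ((1 : A ⧸ fitt R A) ⊗ₜ[A] ω) by rw [TensorProduct.smul_tmul', smul_eq_mul, mul_one],
          map_smul, hm, smul_zero]
      | add c d hc hd => rw [map_add, hc, hd, add_zero]
    obtain ⟨a, rfl⟩ := KaehlerDifferential.mapBaseChange_surjective R A (A ⧸ fitt R A) hsurj a
    obtain ⟨b, rfl⟩ := KaehlerDifferential.mapBaseChange_surjective R A (A ⧸ fitt R A) hsurj b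
    rw [hz, hz]

end Alg

section Scheme

variable {X S : Scheme.{u}} (f : X ⟶ S) [LocallyOfFiniteType f] [QuasiSeparated f]

theorem sheafIdeal_omega_ideal {U : X.Opens} (hU : IsAffineOpen U) {V : S.Opens} (hV : IsAffineOpen V)
    (h : U ≤ f ⁻¹ᵁ V) :
    letI := (f.appLE V U h).hom.toAlgebra
    (Fitt.sheafIdeal (Omega.sheaf f) 1).ideal ⟨U, hU⟩ = fitt Γ(S, V) Γ(X, U) := by
  letI := (f.appLE V U h).hom.toAlgebra
  haveI := H17.OmegaLocal.isIso_toSect f hU hV h
  haveI : Algebra.FiniteType Γ(S, V) Γ(X, U) := f.finiteType_appLE hV hU h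
  haveI : Module.Finite Γ(X, U) (CommRingCat.KaehlerDifferential (f.appLE V U h)) :=
    (inferInstance : Module.Finite Γ(X, U) (KaehlerDifferential Γ(S, V) Γ(X, U)))
  rw [H29Fitt.sheafIdeal_ideal (Omega.sheaf f) (H29Omega.isQCoh_sheaf f) (H29Omega.isFT_sheaf f) 1 ⟨U, hU⟩,
    ← H29Fitt.ideal_congr (asIso (OmAff.toSect f V U h)).toLinearEquiv 1]
  rfl

/-- The singular scheme of a morphism is unramified exactly if all bad sets are empty. -/
theorem formallyUnramified_sing_iff :
    FormallyUnramified ((Fitt.sheafIdeal (Omega.sheaf f) 1).subschemeι ≫ f) ↔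
      ∀ (U : X.affineOpens) (V : S.affineOpens) (h : U.1 ≤ f ⁻¹ᵁ V.1),
        letI := (f.appLE V.1 U.1 h).hom.toAlgebra
        bad Γ(S, V.1) Γ(X, U.1) = ∅ := by
  let I := Fitt.sheafIdeal (Omega.sheaf f) 1
  have key : ∀ (U : X.affineOpens) (V : S.affineOpens) (h : U.1 ≤ f ⁻¹ᵁ V.1),
      letI := (f.appLE V.1 U.1 h).hom.toAlgebra
      (FormallyUnramified (I.subschemeCover.f U ≫ I.subschemeι ≫ f) ↔ bad Γ(S, V.1) Γ(X, U.1) = ∅) := by
    intro U V h
    letI := (f.appLE V.1 U.1 h).hom.toAlgebra
    haveI : Algebra.FiniteType Γ(S, V.1) Γ(X, U.1) := f.finiteType_appLE V.2 U.2 h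
    have hI : I.ideal U = fitt Γ(S, V.1) Γ(X, U.1) := sheafIdeal_omega_ideal f U.2 V.2 h
    have heq : I.subschemeCover.f U ≫ I.subschemeι ≫ f =
        Spec.map (CommRingCat.ofHom (algebraMap Γ(S, V.1) (Γ(X, U.1) ⧸ I.ideal U))) ≫ V.2.fromSpec := by
      rw [← Category.assoc, I.subschemeCover_map_subschemeι, I.glueDataObjι_ι]
      refine (Category.assoc _ _ _).trans ?_
      rw [← IsAffineOpen.SpecMap_appLE_fromSpec f V.2 U.2 h]
      refine (Category.assoc _ _ _).symm.trans ?_
      exact congrArg (· ≫ V.2.fromSpec) (Spec.map_comp _ _).symm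
    rw [heq, ← formallyUnramified_quotient_fitt_iff, ← RingHom.formallyUnramified_algebraMap, ← hI]
    refine ⟨fun hu => (HasRingHomProperty.Spec_iff (P := @FormallyUnramified)
      (φ := CommRingCat.ofHom (algebraMap Γ(S, V.1) (Γ(X, U.1) ⧸ I.ideal U)))).1
      (@FormallyUnramified.of_comp _ _ _ _ V.2.fromSpec hu), fun hu => ?_⟩
    exact MorphismProperty.comp_mem _ _ _ ((HasRingHomProperty.Spec_iff (P := @FormallyUnramified)
      (φ := CommRingCat.ofHom (algebraMap Γ(S, V.1) (Γ(X, U.1) ⧸ I.ideal U)))).2 hu) inferInstance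
  constructor
  · intro hu U V h
    haveI : IsOpenImmersion (I.subschemeCover.f U) := I.subschemeCover.map_prop U
    exact (key U V h).1 (MorphismProperty.comp_mem _ _ _ inferInstance hu)
  · intro hb
    let J := {U : X.affineOpens // ∃ V : S.affineOpens, U.1 ≤ f ⁻¹ᵁ V.1}
    refine IsZariskiLocalAtSource.of_openCover (P := @FormallyUnramified)
      (Scheme.Cover.mkOfCovers J (fun U => Spec (I.subschemeCover.X U.1)) (fun U => I.subschemeCover.f U.1)
        (fun x => ?_) (fun U => I.subschemeCover.map_prop U.1)) fun U => ?_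
    · obtain ⟨U, V, hxU, hU, hV, hle⟩ := H29Omega.exists_affine_chart f (I.subschemeι x)
      obtain ⟨y, hy⟩ : x ∈ Set.range (I.subschemeCover.f (⟨U, hU⟩ : X.affineOpens)) := by
        show x ∈ (I.subschemeCover.f (⟨U, hU⟩ : X.affineOpens)).opensRange
        rw [I.opensRange_subschemeCover_map]
        exact hxU
      exact ⟨⟨⟨U, hU⟩, ⟨V, hV⟩, hle⟩, y, hy⟩
    · obtain ⟨U, V, hV⟩ := U
      exact (key U V hV).2 (hb U V hV)

end Scheme

end Groth.Agent.H29Node
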