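import Groth.Agent.H29Node.Syntomic
import Groth.Agent.H29Node.Unramified
import Groth.Agent.H29Node.BaseField
import Groth.Agent.H8Props.KoszImm.Syntomic
import Groth.Agent.H06SecComp.GeomDescend
import Groth.Agent.H28Def.DefFunctor

/-!
# Nodal families as syntomic morphisms with unramified singular scheme
-/

set_option autoImplicit false
set_option linter.style.haveILetI false

universe u

open CategoryTheory CategoryTheory.Limits AlgebraicGeometry TopologicalSpace
open Groth.Agent.H8Props.FieldDim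

namespace Groth.Agent.H29Node

open SingLocus

variable {X S : Scheme.{u}}

theorem localFibreDim_eq (f : X ⟶ S) (x : X) : Dual3.localFibreDim f x = FlatMor.fibreDimAt f x := by
  rw [Dual3.localFibreDim, FlatMor.fibreDimAt, FlatMor.localDim, iInf_subtype]
  rfl

/-- Nodal families are syntomic of relative dimension one with unramified singular scheme, and conversely. -/
theorem isNodalFamily_iff_syntomic (f : X ⟶ S) [QuasiSeparated f] :
    Curv2.IsNodalFamily f ↔ Synt.IsSyntomicMor f ∧ (∀ x, Dual3.localFibreDim f x = 1) ∧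
      FormallyUnramified ((Fitt.sheafIdeal (Omega.sheaf f) 1).subschemeι ≫ f) := by
  constructor
  · intro h
    haveI := h.1
    haveI := h.2.1
    have hN := (isNodalFamily_iff f).1 h
    refine ⟨fun x => ?_, fun x => (localFibreDim_eq f x).trans (hN x).1, (formallyUnramified_sing_iff f).2 fun U V e => ?_⟩
    · obtain ⟨R, A, _, _, _, a, b, p, _, _, rfl, -, w⟩ := exists_chart_in f x ⊤ trivial
      exact (H13CI.isSyntomicAt_iff f _).2 ((nodalAt_iff_isCI f a b w p (h.2.2 _).1).1 (hN _).2).1
    · letI := (f.appLE V.1 U.1 e).hom.toAlgebra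
      exact Set.eq_empty_of_forall_notMem fun p => ((nodalAt_iff_isCI f U.2.fromSpec V.2.fromSpec
        (IsAffineOpen.SpecMap_appLE_fromSpec f V.2 U.2 e) p (h.2.2 _).1).1 (hN _).2).2
  · rintro ⟨hs, hd, hu⟩
    obtain ⟨hfl, hlfp⟩ := H13CI.flat_lfp_of_isSyntomicMor hs
    haveI := hfl
    haveI := hlfp
    have hd' : ∀ x, FlatMor.fibreDimAt f x = 1 := fun x => (localFibreDim_eq f x).symm.trans (hd x)
    refine (isNodalFamily_iff f).2 fun x => ⟨hd' x, ?_⟩
    obtain ⟨V, hV, hxV, -⟩ := exists_isAffineOpen_mem_and_subset (x := f x) (U := (⊤ : S.Opens)) trivial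
    obtain ⟨W, hW, hxW, hWle⟩ := exists_isAffineOpen_mem_and_subset (x := x) (U := f ⁻¹ᵁ V) hxV
    letI := (f.appLE V W hWle).hom.toAlgebra
    obtain ⟨p, rfl⟩ : x ∈ Set.range hW.fromSpec := by rw [hW.range_fromSpec]; exact hxW
    refine (nodalAt_iff_isCI f hW.fromSpec hV.fromSpec (IsAffineOpen.SpecMap_appLE_fromSpec f hV hW hWle) p
      ((pure_fibres_iff f).2 hd' _)).2 ⟨(H13CI.isSyntomicAt_iff f _).1 (hs _), ?_⟩
    rw [(formallyUnramified_sing_iff f).1 hu ⟨W, hW⟩ ⟨V, hV⟩ hWle]
    exact Set.notMem_empty _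

/-- For a flat morphism syntomic is the same as local complete intersection. -/
theorem isSyntomicMor_iff_isLCIMor (f : X ⟶ S) [Flat f] : Synt.IsSyntomicMor f ↔ Dual3.IsLCIMor f := by
  constructor
  · intro h x
    obtain ⟨U, V, e, hx, hs⟩ := h x
    letI := (f.appLE V.1 U.1 e).hom.toAlgebra
    exact ⟨U, V, e, hx, ((H8Props.KoszImm.isSyntomic_iff _ _).1 hs).2⟩
  · intro h x
    obtain ⟨U, V, e, hx, hs⟩ := h x
    letI := (f.appLE V.1 U.1 e).hom.toAlgebra
    refine ⟨U, V, e, hx, (H8Props.KoszImm.isSyntomic_iff _ _).2 ⟨?_, hs⟩⟩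
    exact RingHom.flat_algebraMap_iff.1 (f.flat_appLE V.2 U.2 e)

/-- The fibre dimension of a pure curve over a field is one. -/
theorem fibreDimAt_over_field (k : Type u) [Field k] (X : Scheme.{u}) [X.Over (Spec (CommRingCat.of k))]
    [LocallyOfFiniteType (X ↘ Spec (CommRingCat.of k))]
    (hequi : ∀ Z ∈ irreducibleComponents (X : Type u), topologicalKrullDim Z = 1) (x : X) :
    FlatMor.fibreDimAt (X ↘ Spec (CommRingCat.of k)) x = 1 := by
  let f := X ↘ Spec (CommRingCat.of k)
  let s : Spec (CommRingCat.of k) := IsLocalRing.closedPoint k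
  haveI := H06SecComp.isIso_fromSpecResidueField_field s
  haveI : IsIso (f.fiberι s) := inferInstanceAs (IsIso (pullback.fst _ _))
  obtain ⟨v, rfl⟩ := (f.fiberι s).surjective x
  rw [fibreDimAt_eq_localDim f, H9CI.localDim_homeomorph (Scheme.homeoOfIso (asIso (f.fiberι s))) v]
  exact localDim_eq_of_pure (k := k) f _ 1 hequi

/-- A curve over a field is nodal exactly if its structure map is a nodal family. -/
theorem isNodalFamily_over_field_iff (k : Type u) [Field k] (X : Scheme.{u}) [X.Over (Spec (CommRingCat.of k))]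
    [LocallyOfFiniteType (X ↘ Spec (CommRingCat.of k))]
    (hequi : ∀ Z ∈ irreducibleComponents (X : Type u), topologicalKrullDim Z = 1) :
    Curv2.IsNodalFamily (X ↘ Spec (CommRingCat.of k)) ↔ Curv2.AtWorstNodal k X := by
  let f := X ↘ Spec (CommRingCat.of k)
  let s : Spec (CommRingCat.of k) := IsLocalRing.closedPoint k
  let κ := (Spec (CommRingCat.of k)).residueField s
  haveI := H06SecComp.isIso_fromSpecResidueField_field s
  let θ : CommRingCat.of k ⟶ κ := Spec.preimage ((Spec (CommRingCat.of k)).fromSpecResidueField s)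
  have hθ : Spec.map θ = (Spec (CommRingCat.of k)).fromSpecResidueField s := Spec.map_preimage _
  letI : Algebra k κ := θ.hom.toAlgebra
  have hbij : Function.Bijective (algebraMap k κ) := by
    haveI : IsIso (Spec.map θ) := by rw [hθ]; infer_instance
    haveI : IsIso θ := by
      refine ⟨Spec.preimage (inv (Spec.map θ)), ?_, ?_⟩ <;> apply Spec.map_injective <;> simp
    exact ConcreteCategory.bijective_of_isIso θ
  haveI : Module.Finite k κ := Module.Finite.of_surjective (Algebra.linearMap k κ) hbij.2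
  haveI : Algebra.IsSeparable k κ := Algebra.IsSeparable.of_algHom k k
    (AlgEquiv.ofBijective (Algebra.ofId k κ) hbij).symm.toAlgHom
  let F := f.fiber s
  letI : F.Over (Spec (CommRingCat.of κ)) := ⟨f.fiberToSpecResidueField s⟩
  letI : F.Over (Spec (CommRingCat.of k)) := ⟨f.fiberι s ≫ f⟩
  haveI : LocallyOfFiniteType (F ↘ Spec (CommRingCat.of κ)) := locallyOfFiniteType_fiberToSpec f s
  haveI : IsIso (f.fiberι s) := inferInstanceAs (IsIso (pullback.fst _ _))
  have hstr : (F ↘ Spec (CommRingCat.of κ)) ≫ Spec.map (CommRingCat.ofHom (algebraMap k κ)) =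
      F ↘ Spec (CommRingCat.of k) := by
    show f.fiberToSpecResidueField s ≫ Spec.map θ = f.fiberι s ≫ f
    rw [hθ]
    exact pullback.condition.symm
  have hcl : ∀ v : F, IsClosed ({v} : Set F) ↔ IsClosed ({f.fiberι s v} : Set X) := fun v => by
    rw [← Set.image_singleton (f := ⇑(f.fiberι s))]
    exact ((Scheme.homeoOfIso (asIso (f.fiberι s))).isClosed_image).symm
  have hnode : ∀ v : F, IsClosed ({v} : Set F) → (Curv2.IsNode κ F v ↔ Curv2.IsNode k X (f.fiberι s v)) := fun v hv =>
    (isNode_iff_of_separable hstr hv).trans (isNode_iff_of_etale (f.fiberι s) rfl hv ((hcl v).1 hv))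
  haveI : LocallyOfFinitePresentation f := inferInstance
  haveI : LocallyOfFinitePresentation (f.fiberToSpecResidueField s) := MorphismProperty.pullback_snd _ _ inferInstance
  have hsm : ∀ v : F, (∃ U : F.Opens, v ∈ U ∧ Smooth (U.ι ≫ (F ↘ Spec (CommRingCat.of κ)))) ↔
      ∃ U : X.Opens, f.fiberι s v ∈ U ∧ Smooth (U.ι ≫ f) := fun v => by
    rw [← H17.LocusBC.mem_smoothLocus_iff_exists, ← H17.LocusBC.mem_smoothLocus_iff_exists]
    have hP : IsPullback (f.fiberι s) (f.fiberToSpecResidueField s) f ((Spec (CommRingCat.of k)).fromSpecResidueField s) :=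
      IsPullback.of_hasPullback _ _
    exact ⟨fun h => H17.LocusBC.mem_smoothLocus_of_flat_baseChange hP v h,
      fun h => H17.LocusBC.preimage_smoothLocus_le hP h⟩
  haveI : Flat f := H28Def.flat_of_field f
  constructor
  · rintro ⟨-, -, h⟩ x hx
    obtain ⟨v, rfl⟩ := (f.fiberι s).surjective x
    have hv := (hcl v).2 hx
    exact ((h s).2 v hv).imp (hsm v).1 (hnode v hv).1
  · intro h
    refine ⟨inferInstance, inferInstance, fun t => ?_⟩
    obtain rfl : t = s := Subsingleton.elim (α := PrimeSpectrum k) _ _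
    exact ⟨(pure_fibres_iff f).2 (fibreDimAt_over_field k X hequi) s,
      fun v hv => (h _ ((hcl v).1 hv)).imp (hsm v).2 (hnode v hv).2⟩

end Groth.Agent.H29Node
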